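import Mathlib
import Cfsg.Prelude.Def_Transfer

/-!
Piece statements for S4395 (the universal minimal non-`p`-nilpotent group of order `p^a₀ q^r`).
Every piece is a `Prop`-valued `def`; pieces that use other pieces take them as hypotheses.
-/

set_option autoImplicit false
universe u

namespace Cfsg.Agent.Lib.Helper4.UniStmt

/-- Minimal non-`p`-nilpotent. -/
def MNPN (p : ℕ) (G : Type u) [Group G] : Prop :=
  ¬ Cfsg.HasNormalPComplement p G ∧ ∀ K : Subgroup G, K ≠ ⊤ → Cfsg.HasNormalPComplement p ↥K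

/-- The exponent `a₀` (`a` if `a` is odd, `3a/2` if `a` is even, `a` the order of `p` mod `q`). -/
noncomputable def aZero (p q : ℕ) : ℕ :=
  if orderOf (p : ZMod q) % 2 = 1 then orderOf (p : ZMod q) else 3 * orderOf (p : ZMod q) / 2

/-- Schmidt datum of a group `X` of order `p^t q^r`: normal Sylow `p`-subgroup `P`, generator `y`
of a cyclic Sylow `q`-subgroup, every proper `y`-invariant subgroup of `P` centralised by `y`. -/
def SD (p q r t : ℕ) (X : Type u) [Group X] (P : Subgroup X) (y : X) : Prop :=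
  P.Normal ∧ Nat.card P = p ^ t ∧ orderOf y = q ^ r ∧ (∀ x : X, ∃ u ∈ P, ∃ k : ℕ, x = u * y ^ k) ∧
  y ^ q ∈ Subgroup.center X ∧
  (∀ R : Subgroup X, R ≤ P → R ≠ P → (∀ x ∈ R, y * x * y⁻¹ ∈ R) → ∀ x ∈ R, y * x * y⁻¹ = x) ∧
  ∃ u ∈ P, y * u * y⁻¹ ≠ u

/-- The same hypothesis on an abstract `p`-group `T` with an automorphism `σ`. -/
def Hyp (p q : ℕ) (T : Type u) [Group T] (σ : MulAut T) : Prop :=
  IsPGroup p T ∧ σ ^ q = 1 ∧ σ ≠ 1 ∧
  ∀ R : Subgroup T, R ≠ ⊤ → (∀ r ∈ R, σ r ∈ R) → ∀ r ∈ R, σ r = r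

/-- Field model of `(T, σ)`: `e : T → F` additive, onto, kernel = fixed points of `σ` (central),
`σ` becomes multiplication by `lam`, and `F` has no proper nonzero `lam`-stable additive subgroup. -/
def Model (q : ℕ) (T : Type u) [Group T] (σ : MulAut T) (F : Type) [Field F] (e : T → F)
    (lam : F) : Prop :=
  (∀ s t : T, e (s * t) = e s + e t) ∧ Function.Surjective e ∧ (∀ t : T, e t = 0 ↔ σ t = t) ∧
  (∀ t : T, σ t = t → t ∈ Subgroup.center T) ∧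
  ((∀ a b : T, a * b = b * a) → ∀ t : T, σ t = t → t = 1) ∧
  (∀ t : T, e (σ t) = lam * e t) ∧ lam ≠ 1 ∧ lam ^ q = 1 ∧
  ∀ A : AddSubgroup F, (∀ x ∈ A, lam * x ∈ A) → A = ⊥ ∨ A = ⊤

/-- Field model at the level of `X` (the map `e` is only meaningful on `P`). -/
def XModel (q : ℕ) (X : Type u) [Group X] (P : Subgroup X) (y : X) (F : Type) [Field F]
    (e : X → F) (lam : F) : Prop :=
  (∀ u ∈ P, ∀ v ∈ P, e (u * v) = e u + e v) ∧ (∀ x : F, ∃ u ∈ P, e u = x) ∧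
  (∀ u ∈ P, e u = 0 → u ∈ Subgroup.center X) ∧ (∀ u ∈ P, e (y * u * y⁻¹) = lam * e u) ∧
  lam ≠ 1 ∧ lam ^ q = 1 ∧ ∀ A : AddSubgroup F, (∀ x ∈ A, lam * x ∈ A) → A = ⊥ ∨ A = ⊤

/-- Condition on a `p`-group `P₀` with automorphism `α` making `P₀ ⋊ C_{q^r}` minimal
non-`p`-nilpotent. -/
def PCond (p q : ℕ) (P₀ : Type u) [Group P₀] (α : MulAut P₀) : Prop :=
  IsPGroup p P₀ ∧ α ^ q = 1 ∧ α ≠ 1 ∧
  ∀ R : Subgroup P₀, R ≠ ⊤ → ∀ w : P₀, (∀ r ∈ R, w * α r * w⁻¹ ∈ R) →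
    ∀ r ∈ R, α r = r ∧ r ∈ Subgroup.center P₀

/-! ### Structure pieces -/

/-- STR: a minimal non-`p`-nilpotent group of order `p^t q^r` has a Schmidt datum. -/
def STR : Prop := ∀ (p q r t : ℕ) [Fact p.Prime] [Fact q.Prime], p ≠ q → 1 ≤ r →
  ∀ (X : Type u) [Group X] [Finite X], MNPN p X → Nat.card X = p ^ t * q ^ r →
  ∃ (P : Subgroup X) (y : X), SD p q r t X P y

/-- HYP: the Schmidt datum gives `Hyp` for `↥P` with conjugation by `y`. -/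
def HYP : Prop := ∀ (p q r t : ℕ) [Fact p.Prime] [Fact q.Prime], p ≠ q → 1 ≤ r →
  ∀ (X : Type u) [Group X] [Finite X] (P : Subgroup X) [P.Normal] (y : X), SD p q r t X P y →
  Hyp p q ↥P (MulAut.conjNormal y)

/-! ### Field model pieces -/

/-- FMB: an elementary abelian `p`-group with an irreducible endomorphism is a finite field on
which the endomorphism is multiplication by an element. -/
def FMB : Prop := ∀ (p : ℕ) [Fact p.Prime] (V : Type u) [Group V] [Finite V],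
  (∀ a b : V, a * b = b * a) → (∀ v : V, v ^ p = 1) → (∃ v : V, v ≠ 1) →
  ∀ c : V →* V, (∀ A : Subgroup V, (∀ v ∈ A, c v ∈ A) → A = ⊥ ∨ A = ⊤) →
  ∃ (F : Type) (_ : Field F) (_ : Finite F) (_ : CharP F p) (e : V → F) (lam : F),
    (∀ v w : V, e (v * w) = e v + e w) ∧ Function.Bijective e ∧ ∀ v : V, e (c v) = lam * e v

/-- FMA: in the abelian case `σ` has no nontrivial fixed point and `T` has exponent `p`. -/
def FMA : Prop := ∀ (p q : ℕ) [Fact p.Prime] [Fact q.Prime], p ≠ q →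
  ∀ (T : Type u) [Group T] [Finite T] (σ : MulAut T), Hyp p q T σ → (∀ a b : T, a * b = b * a) →
  (∀ t : T, σ t = t → t = 1) ∧ ∀ t : T, t ^ p = 1

/-- FM: existence of the field model. -/
def FM : Prop := ∀ (p q : ℕ) [Fact p.Prime] [Fact q.Prime], p ≠ q →
  ∀ (T : Type u) [Group T] [Finite T] (σ : MulAut T), Hyp p q T σ →
  ∃ (F : Type) (_ : Field F) (_ : Finite F) (_ : CharP F p) (e : T → F) (lam : F),
    Model q T σ F e lam

/-- FMP: the piece proving `FM` from `FMB` and `FMA`. -/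
def FMP : Prop := FMB.{u} → FMA.{u} → FM.{u}

/-- LD: the field of a model has `p ^ (order of p mod q)` elements. -/
def LD : Prop := ∀ (p q : ℕ) [Fact p.Prime] [Fact q.Prime], p ≠ q →
  ∀ (F : Type) [Field F] [Finite F] [CharP F p] (lam : F), lam ≠ 1 → lam ^ q = 1 →
  (∀ A : AddSubgroup F, (∀ x ∈ A, lam * x ∈ A) → A = ⊥ ∨ A = ⊤) →
  Nat.card F = p ^ orderOf (p : ZMod q)

/-- WIN: the powers `lam^0, …, lam^(a-1)` span `F` additively. -/
def WIN : Prop := ∀ (p : ℕ) [Fact p.Prime] (F : Type) [Field F] [Finite F] [CharP F p] (lam : F)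
  (a : ℕ), lam ≠ 0 → Nat.card F = p ^ a →
  (∀ A : AddSubgroup F, (∀ x ∈ A, lam * x ∈ A) → A = ⊥ ∨ A = ⊤) →
  ∀ x : F, ∃ n : ℕ → ℕ, x = ∑ i ∈ Finset.range a, n i • lam ^ i

/-- EVENALG: a nonzero `lam`-invariant antisymmetric biadditive map on `F` forces `lam² = 1` or
`|F|` a square. -/
def EVENALG : Prop := ∀ (F : Type) [Field F] [Finite F] (lam : F), lam ≠ 0 →
  (∀ A : AddSubgroup F, (∀ x ∈ A, lam * x ∈ A) → A = ⊥ ∨ A = ⊤) →
  ∀ (Z : Type u) [AddCommGroup Z] (B : F → F → Z),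
    (∀ x x' y, B (x + x') y = B x y + B x' y) → (∀ x y y', B x (y + y') = B x y + B x y') →
    (∀ x y, B y x = - B x y) → (∀ x y, B (lam * x) (lam * y) = B x y) → (∃ x y, B x y ≠ 0) →
    lam * lam = 1 ∨ ∃ n : ℕ, Nat.card F = n * n

/-- EVENT: the same for a non-abelian `T` with a model (via the commutator map). -/
def EVENT : Prop := EVENALG.{u} → ∀ (p q : ℕ) [Fact p.Prime] [Fact q.Prime], p ≠ q →
  ∀ (T : Type u) [Group T] [Finite T] (σ : MulAut T), Hyp p q T σ →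
  (¬ ∀ a b : T, a * b = b * a) →
  ∀ (F : Type) [Field F] [Finite F] (e : T → F) (lam : F), Model q T σ F e lam →
  lam * lam = 1 ∨ ∃ n : ℕ, Nat.card F = n * n

/-- ZB: the centre of a non-abelian `T` has order at most `p^(a/2)`. -/
def ZB : Prop := WIN → ∀ (p q : ℕ) [Fact p.Prime] [Fact q.Prime], p ≠ q →
  ∀ (T : Type u) [Group T] [Finite T] (σ : MulAut T), Hyp p q T σ →
  (¬ ∀ a b : T, a * b = b * a) →
  ∀ (F : Type) [Field F] [Finite F] [CharP F p] (e : T → F) (lam : F) (a : ℕ),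
    Model q T σ F e lam → Nat.card F = p ^ a → Nat.card (Subgroup.center T) ≤ p ^ (a / 2)

/-- BOUNDT: `|T| ≤ p^a₀`. -/
def BOUNDT : Prop := ∀ (p q : ℕ) [Fact p.Prime] [Fact q.Prime], p ≠ q →
  ∀ (T : Type u) [Group T] [Finite T] (σ : MulAut T), Hyp p q T σ → Nat.card T ≤ p ^ aZero p q

/-- BOUND: `t ≤ a₀` for a minimal non-`p`-nilpotent group of order `p^t q^r`. -/
def BOUND : Prop := ∀ (p q r t : ℕ) [Fact p.Prime] [Fact q.Prime], p ≠ q → 1 ≤ r →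
  ∀ (X : Type u) [Group X] [Finite X], MNPN p X → Nat.card X = p ^ t * q ^ r → t ≤ aZero p q

/-! ### Amalgamation pieces -/

/-- XM: the field model at the level of `X`. -/
def XM : Prop := ∀ (p q r t : ℕ) [Fact p.Prime] [Fact q.Prime], p ≠ q → 1 ≤ r →
  ∀ (X : Type u) [Group X] [Finite X] (P : Subgroup X) (y : X), SD p q r t X P y →
  ∃ (F : Type) (_ : Field F) (_ : Finite F) (_ : CharP F p) (e : X → F) (lam : F),
    XModel q X P y F e lam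

/-- XMP: the piece proving `XM` from `HYP` and `FM`. -/
def XMP : Prop := HYP.{u} → FM.{u} → XM.{u}

/-- MATCHF: two finite fields of the same order with elements of order `q` can be matched. -/
def MATCHF : Prop := ∀ (q : ℕ) [Fact q.Prime] (F₁ F₂ : Type) [Field F₁] [Finite F₁] [Field F₂]
  [Finite F₂] (lam₁ : F₁) (lam₂ : F₂), Nat.card F₁ = Nat.card F₂ → lam₁ ≠ 1 → lam₁ ^ q = 1 →
  lam₂ ≠ 1 → lam₂ ^ q = 1 → ∃ (θ : F₁ ≃+* F₂) (k : ℕ), θ lam₁ = lam₂ ^ k ∧ Nat.Coprime k q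

/-- The properties of a subdirect product `Y₀ ≤ X₁ × X₂` with central kernels. -/
def SubdirectOK (p : ℕ) (X₁ X₂ : Type u) [Group X₁] [Group X₂] (Y₀ : Subgroup (X₁ × X₂)) : Prop :=
  (∀ x₁ : X₁, ∃ x₂ : X₂, (x₁, x₂) ∈ Y₀) ∧ (∀ x₂ : X₂, ∃ x₁ : X₁, (x₁, x₂) ∈ Y₀) ∧
  (∀ x₂ : X₂, ((1 : X₁), x₂) ∈ Y₀ → x₂ ∈ Subgroup.center X₂ ∧ ∃ n : ℕ, x₂ ^ (p ^ n) = 1) ∧
  (∀ x₁ : X₁, (x₁, (1 : X₂)) ∈ Y₀ → x₁ ∈ Subgroup.center X₁)

/-- SUBDC: from two Schmidt data with matched models, a subdirect product with central kernels. -/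
def SUBDC : Prop := ∀ (p q r t₁ t₂ : ℕ) [Fact p.Prime] [Fact q.Prime], p ≠ q → 1 ≤ r →
  ∀ (X₁ X₂ : Type u) [Group X₁] [Finite X₁] [Group X₂] [Finite X₂]
    (P₁ : Subgroup X₁) (y₁ : X₁) (P₂ : Subgroup X₂) (y₂ : X₂),
    SD p q r t₁ X₁ P₁ y₁ → SD p q r t₂ X₂ P₂ y₂ →
  ∀ (F₁ F₂ : Type) [Field F₁] [Finite F₁] [Field F₂] [Finite F₂] (e₁ : X₁ → F₁) (lam₁ : F₁)
    (e₂ : X₂ → F₂) (lam₂ : F₂), XModel q X₁ P₁ y₁ F₁ e₁ lam₁ → XModel q X₂ P₂ y₂ F₂ e₂ lam₂ →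
  ∀ (θ : F₁ ≃+* F₂) (k : ℕ), θ lam₁ = lam₂ ^ k → Nat.Coprime k q →
  ∃ Y₀ : Subgroup (X₁ × X₂), SubdirectOK p X₁ X₂ Y₀

/-- The conclusion of the amalgamation. -/
def AmalgOK (p q r : ℕ) (X₁ X₂ : Type u) [Group X₁] [Group X₂] : Prop :=
  ∃ (Y : Type u) (_ : Group Y) (_ : Finite Y), MNPN p Y ∧ (∃ t : ℕ, Nat.card Y = p ^ t * q ^ r) ∧
    ∃ (π₁ : Y →* X₁) (π₂ : Y →* X₂), Function.Surjective π₁ ∧ Function.Surjective π₂ ∧
      π₁.ker ≤ Subgroup.center Y ∧ π₂.ker ≤ Subgroup.center Y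

/-- MINSUB: a minimal subgroup of a subdirect product with central kernels, still projecting onto
both factors, is minimal non-`p`-nilpotent. -/
def MINSUB : Prop := ∀ (p q r t₁ t₂ : ℕ) [Fact p.Prime] [Fact q.Prime], p ≠ q → 1 ≤ r →
  ∀ (X₁ X₂ : Type u) [Group X₁] [Finite X₁] [Group X₂] [Finite X₂],
  MNPN p X₁ → Nat.card X₁ = p ^ t₁ * q ^ r → MNPN p X₂ → Nat.card X₂ = p ^ t₂ * q ^ r →
  ∀ Y₀ : Subgroup (X₁ × X₂), SubdirectOK p X₁ X₂ Y₀ → AmalgOK p q r X₁ X₂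

/-- AMALG: any two minimal non-`p`-nilpotent groups with the same `q`-part have a common
minimal non-`p`-nilpotent central cover. -/
def AMALG : Prop := ∀ (p q r t₁ t₂ : ℕ) [Fact p.Prime] [Fact q.Prime], p ≠ q → 1 ≤ r →
  ∀ (X₁ X₂ : Type u) [Group X₁] [Finite X₁] [Group X₂] [Finite X₂],
  MNPN p X₁ → Nat.card X₁ = p ^ t₁ * q ^ r → MNPN p X₂ → Nat.card X₂ = p ^ t₂ * q ^ r →
  AmalgOK p q r X₁ X₂

/-! ### Existence pieces -/

/-- EF: a field with `p^a` elements and an element `lam` of order `q` acting irreducibly. -/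
def EF : Prop := ∀ (p q : ℕ) [Fact p.Prime] [Fact q.Prime], p ≠ q →
  ∃ (K : Type u) (_ : Field K) (_ : Finite K) (lam : K),
    Nat.card K = p ^ orderOf (p : ZMod q) ∧ lam ≠ 1 ∧ lam ^ q = 1 ∧
    ∀ A : AddSubgroup K, (∀ x ∈ A, lam * x ∈ A) → A = ⊥ ∨ A = ⊤

/-- EF2: for `a` even, the involution `s = Frob^(a/2)` of a field with `p^a` elements. -/
def EF2 : Prop := ∀ (p q : ℕ) [Fact p.Prime] [Fact q.Prime], p ≠ q →
  orderOf (p : ZMod q) % 2 = 0 →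
  ∀ (K : Type u) [Field K] [Finite K] (lam : K), Nat.card K = p ^ orderOf (p : ZMod q) →
  lam ^ q = 1 →
  ∃ s : K →+* K, (∀ x, s (s x) = x) ∧ lam * s lam = 1 ∧
    Nat.card {z : K // z + s z = 0} = p ^ (orderOf (p : ZMod q) / 2) ∧
    ∀ c : K, s c = c → ∃ z : K, z + s z = c

/-- EAB: the abelian model `P₀ = (K, +)`, `α` = multiplication by `lam`. -/
def EAB : Prop := EF.{u} → ∀ (p q : ℕ) [Fact p.Prime] [Fact q.Prime], p ≠ q →
  ∃ (P₀ : Type u) (_ : Group P₀) (_ : Finite P₀) (α : MulAut P₀),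
    PCond p q P₀ α ∧ Nat.card P₀ = p ^ orderOf (p : ZMod q)

/-- HEIS: the Heisenberg-type group `{(x, z) : z + s z = x * s x}` with
`(x, z) (x', z') = (x + x', z + z' + s x * x')` and the automorphism `(x, z) ↦ (lam x, z)`. -/
def HEIS : Prop := ∀ (K : Type u) [Field K] [Finite K] (lam : K) (s : K →+* K),
  (∀ x, s (s x) = x) → lam * s lam = 1 →
  ∃ (P₀ : Type u) (_ : Group P₀) (_ : Finite P₀) (α : MulAut P₀) (X : P₀ → K) (Zc : P₀ → K),
    (∀ g h : P₀, X (g * h) = X g + X h) ∧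
    (∀ g h : P₀, Zc (g * h) = Zc g + Zc h + s (X g) * X h) ∧
    (∀ g h : P₀, X g = X h → Zc g = Zc h → g = h) ∧
    (∀ g : P₀, Zc g + s (Zc g) = X g * s (X g)) ∧
    (∀ x z : K, z + s z = x * s x → ∃ g : P₀, X g = x ∧ Zc g = z) ∧
    (∀ g : P₀, X (α g) = lam * X g) ∧ (∀ g : P₀, Zc (α g) = Zc g)

/-- ENA: the non-abelian model of order `p^(3a/2)` for `a` even. -/
def ENA : Prop := EF.{u} → EF2.{u} → HEIS.{u} → ∀ (p q : ℕ) [Fact p.Prime] [Fact q.Prime], p ≠ q →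
  orderOf (p : ZMod q) % 2 = 0 →
  ∃ (P₀ : Type u) (_ : Group P₀) (_ : Finite P₀) (α : MulAut P₀),
    PCond p q P₀ α ∧ Nat.card P₀ = p ^ (3 * orderOf (p : ZMod q) / 2)

/-- SDP: the semidirect product `P₀ ⋊ C_{q^r}` (generator acting by `α`) is minimal
non-`p`-nilpotent. -/
def SDP : Prop := ∀ (p q r : ℕ) [Fact p.Prime] [Fact q.Prime], p ≠ q → 1 ≤ r →
  ∀ (P₀ : Type u) [Group P₀] [Finite P₀] (α : MulAut P₀), PCond p q P₀ α →
  ∃ (G : Type u) (_ : Group G) (_ : Finite G), MNPN p G ∧ Nat.card G = Nat.card P₀ * q ^ r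

/-- EX: the group `G₀`. -/
def EX : Prop := ∀ (p q r : ℕ) [Fact p.Prime] [Fact q.Prime], p ≠ q → 1 ≤ r →
  ∃ (G₀ : Type u) (_ : Group G₀) (_ : Finite G₀), MNPN p G₀ ∧
    Nat.card G₀ = p ^ aZero p q * q ^ r

end Cfsg.Agent.Lib.Helper4.UniStmt
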