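import Mathlib

/-!
Definitions for S4394 (p-solvable groups whose Sylow p-subgroups are of "Schmidt type").

* `SchAut p T`: the group `T` carries an automorphism `σ` of prime order `q ≠ p` such that
  every proper `σ`-invariant subgroup is fixed pointwise (this is what the normal Sylow
  subgroup of a minimal non-nilpotent group inherits from a generator of the other Sylow).
* `SEP p T`: the resulting structure of a non-abelian such `T` (special, with all the
  commutator maps `s ↦ s * x * s⁻¹ * x⁻¹`, `x` non-central, onto the centre; and a small exclusion).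
-/

set_option autoImplicit false

namespace Cfsg.Agent.Lib.Helper4.SchDefs

/-- An automorphism of prime order `q ≠ p` fixing every proper invariant subgroup pointwise. -/
def SchAut (p : ℕ) (T : Type*) [Group T] : Prop :=
  ∃ (σ : MulAut T) (q : ℕ), q.Prime ∧ q ≠ p ∧ σ ^ q = 1 ∧ σ ≠ 1 ∧
    ∀ R : Subgroup T, R ≠ ⊤ → (∀ r ∈ R, σ r ∈ R) → ∀ r ∈ R, σ r = r

/-- Structure of the (non-abelian) normal Sylow subgroup of a minimal non-nilpotent group. -/
def SEP (p : ℕ) (T : Type*) [Group T] : Prop :=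
  (∀ a b : T, a * b * a⁻¹ * b⁻¹ ∈ Subgroup.center T) ∧ (∀ a : T, a ^ p ∈ Subgroup.center T) ∧
  (∀ z ∈ Subgroup.center T, z ^ p = 1) ∧
  (∀ x : T, x ∉ Subgroup.center T → ∀ z ∈ Subgroup.center T, ∃ s : T, s * x * s⁻¹ * x⁻¹ = z) ∧
  (p ≤ 3 → Nat.card (Subgroup.center T) = p → ∀ K : Subgroup T, Subgroup.center T ≤ K →
    Nat.card K = p ^ 2 → (∀ a ∈ K, ∀ b ∈ K, a * b = b * a) → (∀ k ∈ K, k ^ p = 1) →
    (∀ t : T, (∀ k ∈ K, t * k = k * t) → t ∈ K) → False)

end Cfsg.Agent.Lib.Helper4.SchDefs
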