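import Mathlib
import Cfsg.Agent.Lib.Helper42.ReeSpStmt

/-! S1159, piece CT1: the number of nonidentity elements of odd order conjugate into `H`
(same fibre-counting bijection as in `Helper65.ReeSpCT2`). -/

set_option autoImplicit false

namespace Cfsg.Agent.Lib.Helper4.ReeSpCT1

open Cfsg.Agent.Lib.Helper42.ReeSpStmt

universe u v

theorem qq_mod4 (m : ℕ) : qq m % 4 = 3 := by
  show 3 ^ (2 * m + 1) % 4 = 3
  rw [pow_succ, pow_mul, Nat.mul_mod, Nat.pow_mod]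
  norm_num

/-- a generator of a cyclic subgroup -/
theorem exists_gen {G : Type u} [Group G] [Finite G] (H : Subgroup G) (hc : IsCyclic H) :
    ∃ h₀ : G, h₀ ∈ H ∧ orderOf h₀ = Nat.card H ∧ ∀ a ∈ H, ∃ i : ℤ, h₀ ^ i = a := by
  haveI := hc
  obtain ⟨g, hg⟩ := IsCyclic.exists_generator (α := ↥H)
  refine ⟨g.1, g.2, ?_, ?_⟩
  · rw [← orderOf_eq_card_of_forall_mem_zpowers hg, Subgroup.orderOf_coe]
  · intro a ha
    obtain ⟨i, hi⟩ := Subgroup.mem_zpowers_iff.mp (hg ⟨a, ha⟩)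
    refine ⟨i, ?_⟩
    have h1 := congrArg Subtype.val hi
    simpa using h1

/-- the elements of odd order of a cyclic subgroup `H` with a generator `h₀` of order `2k`,
`k` odd, are the elements of `zpowers (h₀ ^ 2)` -/
theorem odd_iff {G : Type u} [Group G] [Finite G] (H : Subgroup G) (h₀ : G) (k : ℕ)
    (hk : Odd k) (hh₀ : h₀ ∈ H) (ho : orderOf h₀ = 2 * k)
    (hgen : ∀ a ∈ H, ∃ i : ℤ, h₀ ^ i = a) (a : G) :
    (a ∈ H ∧ Odd (orderOf a)) ↔ a ∈ Subgroup.zpowers (h₀ ^ 2) := by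
  have ho2 : orderOf (h₀ ^ 2) = k := by
    rw [orderOf_pow' h₀ (by norm_num : (2 : ℕ) ≠ 0), ho,
      Nat.gcd_eq_right (dvd_mul_right 2 k), Nat.mul_div_cancel_left k (by norm_num)]
  constructor
  · rintro ⟨ha, hodd⟩
    obtain ⟨j, hj⟩ := hodd
    have h1 : a ^ (2 * (j + 1)) = a := by
      have h2 : 2 * (j + 1) = orderOf a + 1 := by omega
      rw [h2, pow_succ, pow_orderOf_eq_one, one_mul]
    obtain ⟨i, hi⟩ := hgen (a ^ (j + 1)) (H.pow_mem ha _)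
    rw [Subgroup.mem_zpowers_iff]
    refine ⟨i, ?_⟩
    calc (h₀ ^ 2) ^ i = (h₀ ^ i) ^ 2 := by
          rw [← zpow_natCast h₀ 2, ← zpow_mul, mul_comm, zpow_mul, zpow_natCast]
      _ = (a ^ (j + 1)) ^ 2 := by rw [hi]
      _ = a := by rw [← pow_mul, mul_comm]; exact h1
  · intro ha
    obtain ⟨i, rfl⟩ := Subgroup.mem_zpowers_iff.mp ha
    refine ⟨H.zpow_mem (H.pow_mem hh₀ 2) i, ?_⟩
    have hdvd : orderOf ((h₀ ^ 2) ^ i) ∣ k := by
      rw [← ho2]; exact orderOf_dvd_of_mem_zpowers (Subgroup.zpow_mem_zpowers _ i)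
    exact Odd.of_dvd_nat hk hdvd

/-- a cyclic subgroup of order `2k`, `k` odd, has `k - 1` nonidentity elements of odd order -/
theorem card_oddH {G : Type u} [Group G] [Finite G] (H : Subgroup G) (hc : IsCyclic H) (k : ℕ)
    (hk : Odd k) (hcard : Nat.card H = 2 * k) :
    Nat.card {a : G // a ∈ H ∧ a ≠ 1 ∧ Odd (orderOf a)} = k - 1 := by
  obtain ⟨h₀, hh₀, ho, hgen⟩ := exists_gen H hc
  rw [hcard] at ho
  have hiff := odd_iff H h₀ k hk hh₀ ho hgen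
  have ho2 : Nat.card (Subgroup.zpowers (h₀ ^ 2)) = k := by
    rw [Nat.card_zpowers, orderOf_pow' h₀ (by norm_num : (2 : ℕ) ≠ 0), ho,
      Nat.gcd_eq_right (dvd_mul_right 2 k), Nat.mul_div_cancel_left k (by norm_num)]
  have h1 : Nat.card {a : G // a ∈ H ∧ a ≠ 1 ∧ Odd (orderOf a)} =
      (((Subgroup.zpowers (h₀ ^ 2) : Subgroup G) : Set G) \ {1}).ncard := by
    rw [← Nat.card_coe_set_eq]
    apply Nat.card_congr
    apply Equiv.subtypeEquivRight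
    intro a
    rw [Set.mem_diff, Set.mem_singleton_iff, SetLike.mem_coe, ← hiff a]
    tauto
  rw [h1, Set.ncard_sdiff_singleton_of_mem
    (show (1 : G) ∈ ((Subgroup.zpowers (h₀ ^ 2) : Subgroup G) : Set G) from Subgroup.one_mem _)]
  have h2 : ((Subgroup.zpowers (h₀ ^ 2) : Subgroup G) : Set G).ncard =
      Nat.card (Subgroup.zpowers (h₀ ^ 2)) := by
    rw [← Nat.card_coe_set_eq]; rfl
  rw [h2, ho2]

theorem main : CT1.{u, v} := by
  intro G _ _ U H A K _ _ m hax hNH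
  classical
  unfold CT1C
  unfold NHC at hNH
  have hq3 := three_le_qq m
  have hq4 := qq_mod4 m
  obtain ⟨j, hj⟩ : ∃ j, qq m = 2 * j + 3 := ⟨(qq m - 3) / 2, by omega⟩
  have hkodd : Odd (j + 1) := by rw [Nat.odd_iff]; omega
  have hcardH : Nat.card H = 2 * (j + 1) := by rw [hax.cardH, hj]; omega
  have hB := card_oddH H hax.cycH (j + 1) hkodd hcardH
  obtain ⟨h₀, hh₀, ho, hgen⟩ := exists_gen H hax.cycH
  have hcommH : ∀ a ∈ H, ∀ b ∈ H, a * b = b * a := by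
    intro a ha b hb
    obtain ⟨i, rfl⟩ := hgen a ha
    obtain ⟨i', rfl⟩ := hgen b hb
    exact (Commute.refl h₀).zpow_zpow i i'
  have hord : ∀ n b : G, orderOf (n * b * n⁻¹) = orderOf b := fun n b =>
    orderOf_injective (MulAut.conj n).toMonoidHom (MulAut.conj n).injective b
  have hne_conj : ∀ n a : G, a ≠ 1 → n * a * n⁻¹ ≠ 1 := by
    intro n a hne h
    apply hne
    have h1 : a = n⁻¹ * (n * a * n⁻¹) * n := by group
    rw [h1, h]; group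
  have hTI : ∀ n a₀ : G, a₀ ∈ H → a₀ ≠ 1 → Odd (orderOf a₀) → n * a₀ * n⁻¹ ∈ H →
      ∀ b ∈ H, n * b * n⁻¹ ∈ H := by
    intro n a₀ ha₀ hne hodd ha b hb
    apply hax.centH (n * a₀ * n⁻¹) ha (hne_conj n a₀ hne) (by rw [hord]; exact hodd)
    have hcomm : b * a₀ = a₀ * b := hcommH b hb a₀ ha₀
    calc n * b * n⁻¹ * (n * a₀ * n⁻¹) = n * (b * a₀) * n⁻¹ := by group
      _ = n * (a₀ * b) * n⁻¹ := by rw [hcomm]
      _ = n * a₀ * n⁻¹ * (n * b * n⁻¹) := by group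
  have hNorm : ∀ n a₀ : G, a₀ ∈ H → a₀ ≠ 1 → Odd (orderOf a₀) → n * a₀ * n⁻¹ ∈ H →
      n ∈ Subgroup.normalizer (H : Set G) := by
    intro n a₀ ha₀ hne hodd ha
    rw [Subgroup.mem_normalizer_iff]
    intro b
    constructor
    · exact hTI n a₀ ha₀ hne hodd ha b
    · intro hb
      have h1 : n⁻¹ * (n * a₀ * n⁻¹) * n⁻¹⁻¹ ∈ H := by
        have h0 : n⁻¹ * (n * a₀ * n⁻¹) * n⁻¹⁻¹ = a₀ := by group
        rw [h0]; exact ha₀
      have h2 := hTI n⁻¹ (n * a₀ * n⁻¹) ha (hne_conj n a₀ hne) (by rw [hord]; exact hodd) h1 _ hb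
      have h3 : n⁻¹ * (n * b * n⁻¹) * n⁻¹⁻¹ = b := by group
      rwa [h3] at h2
  have hrep : ∀ t : G, ∃ p : G × G, T1 G H t →
      (p.2 ∈ H ∧ p.2 ≠ 1 ∧ Odd (orderOf p.2) ∧ p.1 * p.2 * p.1⁻¹ = t) := by
    intro t
    by_cases ht : T1 G H t
    · obtain ⟨hne, hodd, x, hx⟩ := ht
      refine ⟨(x⁻¹, x * t * x⁻¹), fun _ => ⟨hx, hne_conj x t hne,
        (show Odd (orderOf (x * t * x⁻¹)) by rw [hord]; exact hodd), ?_⟩⟩
      show x⁻¹ * (x * t * x⁻¹) * x⁻¹⁻¹ = t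
      group
    · exact ⟨(1, 1), fun h => absurd h ht⟩
  choose f hf using hrep
  have hT : ∀ (g a : G), a ∈ H → a ≠ 1 → Odd (orderOf a) → T1 G H (g * a * g⁻¹) := by
    intro g a ha hne hodd
    refine ⟨hne_conj g a hne, by rw [hord]; exact hodd, g⁻¹, ?_⟩
    have h0 : g⁻¹ * (g * a * g⁻¹) * g⁻¹⁻¹ = a := by group
    rw [h0]; exact ha
  let e : {t : G // T1 G H t} × ↥(Subgroup.normalizer (H : Set G)) ≃
      G × {a : G // a ∈ H ∧ a ≠ 1 ∧ Odd (orderOf a)} :=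
    { toFun := fun x => ((f x.1.1).1 * (x.2 : G)⁻¹,
        ⟨(x.2 : G) * (f x.1.1).2 * (x.2 : G)⁻¹, by
          obtain ⟨h1, h2, h3, h4⟩ := hf x.1.1 x.1.2
          exact ⟨(Subgroup.mem_normalizer_iff.mp x.2.2 _).mp h1, hne_conj _ _ h2,
            by rw [hord]; exact h3⟩⟩)
      invFun := fun y => (⟨y.1 * y.2.1 * y.1⁻¹, hT y.1 y.2.1 y.2.2.1 y.2.2.2.1 y.2.2.2.2⟩,
        ⟨y.1⁻¹ * (f (y.1 * y.2.1 * y.1⁻¹)).1, by
          obtain ⟨h1, h2, h3, h4⟩ := hf _ (hT y.1 y.2.1 y.2.2.1 y.2.2.2.1 y.2.2.2.2)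
          apply hNorm _ _ h1 h2 h3
          have h5 : y.1⁻¹ * (f (y.1 * y.2.1 * y.1⁻¹)).1 * (f (y.1 * y.2.1 * y.1⁻¹)).2 *
              (y.1⁻¹ * (f (y.1 * y.2.1 * y.1⁻¹)).1)⁻¹ =
              y.1⁻¹ * ((f (y.1 * y.2.1 * y.1⁻¹)).1 * (f (y.1 * y.2.1 * y.1⁻¹)).2 *
                (f (y.1 * y.2.1 * y.1⁻¹)).1⁻¹) * y.1 := by group
          rw [h5, h4]
          have h6 : y.1⁻¹ * (y.1 * y.2.1 * y.1⁻¹) * y.1 = y.2.1 := by group
          rw [h6]; exact y.2.2.1⟩)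
      left_inv := by
        rintro ⟨⟨t, ht⟩, ⟨n, hn⟩⟩
        obtain ⟨h1, h2, h3, h4⟩ := hf t ht
        have e1 : (f t).1 * n⁻¹ * (n * (f t).2 * n⁻¹) * ((f t).1 * n⁻¹)⁻¹ = t := by
          have e0 : (f t).1 * n⁻¹ * (n * (f t).2 * n⁻¹) * ((f t).1 * n⁻¹)⁻¹
              = (f t).1 * (f t).2 * (f t).1⁻¹ := by group
          exact e0.trans h4
        apply Prod.ext
        · apply Subtype.ext
          exact e1
        · apply Subtype.ext
          show ((f t).1 * n⁻¹)⁻¹ *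
            (f ((f t).1 * n⁻¹ * (n * (f t).2 * n⁻¹) * ((f t).1 * n⁻¹)⁻¹)).1 = n
          rw [e1]; group
      right_inv := by
        rintro ⟨g, ⟨a, ha, hne, hodd⟩⟩
        obtain ⟨h1, h2, h3, h4⟩ := hf _ (hT g a ha hne hodd)
        apply Prod.ext
        · show (f (g * a * g⁻¹)).1 * (g⁻¹ * (f (g * a * g⁻¹)).1)⁻¹ = g
          group
        · apply Subtype.ext
          show g⁻¹ * (f (g * a * g⁻¹)).1 * (f (g * a * g⁻¹)).2 *
            (g⁻¹ * (f (g * a * g⁻¹)).1)⁻¹ = a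
          have h5 : g⁻¹ * (f (g * a * g⁻¹)).1 * (f (g * a * g⁻¹)).2 *
              (g⁻¹ * (f (g * a * g⁻¹)).1)⁻¹
              = g⁻¹ * ((f (g * a * g⁻¹)).1 * (f (g * a * g⁻¹)).2 *
                (f (g * a * g⁻¹)).1⁻¹) * g := by
            group
          rw [h5, h4]; group }
  have hcard := Nat.card_congr e
  rw [Nat.card_prod, Nat.card_prod, hNH, hax.card, hB] at hcard
  rw [hj] at hcard ⊢
  have e0 : 2 * j + 3 - 3 = 2 * j := by omega
  have e1 : 2 * j + 3 - 1 = 2 * (j + 1) := by omega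
  have e2 : j + 1 - 1 = j := by omega
  rw [e1, e2] at hcard
  rw [e0]
  have hpos : 0 < j + 1 := Nat.succ_pos _
  apply Nat.eq_of_mul_eq_mul_left hpos
  calc (j + 1) * (4 * Nat.card {g : G // T1 G H g})
      = Nat.card {g : G // T1 G H g} * (2 * (2 * (j + 1))) := by ring
    _ = (2 * j + 3) ^ 3 * (2 * (j + 1)) * ((2 * j + 3) ^ 3 + 1) * j := hcard
    _ = (j + 1) * (2 * j * (2 * j + 3) ^ 3 * ((2 * j + 3) ^ 3 + 1)) := by ring

end Cfsg.Agent.Lib.Helper4.ReeSpCT1
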