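import Mathlib
import Cfsg.Agent.Lib.Helper42.ReeSpStmt
import Cfsg.Agent.Lib.Helper4.ReeSpCT1

/-! S1159, piece NH: `|N(H)| = 2(q-1)`. -/

set_option autoImplicit false

namespace Cfsg.Agent.Lib.Helper4.ReeSpNH

open Cfsg.Agent.Lib.Helper42.ReeSpStmt

universe u v

theorem comm_of_cyclic {G : Type u} [Group G] [Finite G] (H : Subgroup G) (hc : IsCyclic H) :
    ∀ a ∈ H, ∀ b ∈ H, a * b = b * a := by
  obtain ⟨h₀, -, -, hgen⟩ := ReeSpCT1.exists_gen H hc
  intro a ha b hb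
  obtain ⟨i, rfl⟩ := hgen a ha
  obtain ⟨i', rfl⟩ := hgen b hb
  exact (Commute.refl h₀).zpow_zpow i i'

theorem conj_comm_of_eq {G : Type u} [Group G] (r0 g x : G)
    (h : r0 * x * r0⁻¹ = g * x * g⁻¹) : r0⁻¹ * g * x = x * (r0⁻¹ * g) := by
  calc r0⁻¹ * g * x = r0⁻¹ * (g * x * g⁻¹) * g := by group
    _ = r0⁻¹ * (r0 * x * r0⁻¹) * g := by rw [← h]
    _ = x * (r0⁻¹ * g) := by group

theorem ord_conj {G : Type u} [Group G] (n b : G) : orderOf (n * b * n⁻¹) = orderOf b :=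
  orderOf_injective (MulAut.conj n).toMonoidHom (MulAut.conj n).injective b

theorem ne_conj {G : Type u} [Group G] (n a : G) (hne : a ≠ 1) : n * a * n⁻¹ ≠ 1 := by
  intro h
  apply hne
  have h1 : a = n⁻¹ * (n * a * n⁻¹) * n := by group
  rw [h1, h]; group

/-- if `n` conjugates a nonidentity element of odd order of `H` into `H`, then `n`
conjugates `H` into `H` -/
theorem tiH {G : Type u} [Group G] [Finite G] {U H A : Subgroup G} {K : Type v} [Field K]
    [Fintype K] {m : ℕ} (hax : Ax G U H A K m) (n a₀ : G) (ha₀ : a₀ ∈ H) (hne : a₀ ≠ 1)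
    (hodd : Odd (orderOf a₀)) (ha : n * a₀ * n⁻¹ ∈ H) : ∀ b ∈ H, n * b * n⁻¹ ∈ H := by
  intro b hb
  apply hax.centH (n * a₀ * n⁻¹) ha (ne_conj n a₀ hne) (by rw [ord_conj]; exact hodd)
  have hcomm : b * a₀ = a₀ * b := comm_of_cyclic H hax.cycH b hb a₀ ha₀
  calc n * b * n⁻¹ * (n * a₀ * n⁻¹) = n * (b * a₀) * n⁻¹ := by group
    _ = n * (a₀ * b) * n⁻¹ := by rw [hcomm]
    _ = n * a₀ * n⁻¹ * (n * b * n⁻¹) := by group

theorem normH {G : Type u} [Group G] [Finite G] {U H A : Subgroup G} {K : Type v} [Field K]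
    [Fintype K] {m : ℕ} (hax : Ax G U H A K m) (n a₀ : G) (ha₀ : a₀ ∈ H) (hne : a₀ ≠ 1)
    (hodd : Odd (orderOf a₀)) (ha : n * a₀ * n⁻¹ ∈ H) :
    n ∈ Subgroup.normalizer (H : Set G) := by
  rw [Subgroup.mem_normalizer_iff]
  intro b
  constructor
  · exact tiH hax n a₀ ha₀ hne hodd ha b
  · intro hb
    have h1 : n⁻¹ * (n * a₀ * n⁻¹) * n⁻¹⁻¹ ∈ H := by
      have h0 : n⁻¹ * (n * a₀ * n⁻¹) * n⁻¹⁻¹ = a₀ := by group
      rw [h0]; exact ha₀
    have h2 := tiH hax n⁻¹ (n * a₀ * n⁻¹) ha (ne_conj n a₀ hne)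
      (by rw [ord_conj]; exact hodd) h1 _ hb
    have h3 : n⁻¹ * (n * b * n⁻¹) * n⁻¹⁻¹ = b := by group
    rwa [h3] at h2

/-- for a prime `l > 3` dividing `|H|`, `|G : N(H)| ≡ 1` modulo the full power of `l`
dividing `|G|` -/
theorem index_mod {G : Type u} [Group G] [Finite G] {U H A : Subgroup G} {K : Type v}
    [Field K] [Fintype K] {m : ℕ} (hax : Ax G U H A K m) (hTI : TISyl.{u}) (l : ℕ)
    (hl : l.Prime) (hl3 : 3 < l) (hlH : l ∣ Nat.card H) :
    l ^ (Nat.card G).factorization l ∣ (Subgroup.normalizer (H : Set G)).index - 1 := by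
  classical
  haveI : Fact l.Prime := ⟨hl⟩
  have hlodd : Odd l := hl.odd_of_ne_two (by omega)
  obtain ⟨h₀, hh₀, ho, hgen⟩ := ReeSpCT1.exists_gen H hax.cycH
  have hcommH := comm_of_cyclic H hax.cycH
  have ho0 : orderOf h₀ ≠ 0 := (orderOf_pos h₀).ne'
  have hlo : l ∣ orderOf h₀ := by rw [ho]; exact hlH
  obtain ⟨x, hxdef⟩ : ∃ x : G, x = h₀ ^ (orderOf h₀ / l) := ⟨_, rfl⟩
  have hxo : orderOf x = l := by rw [hxdef]; exact orderOf_pow_orderOf_div ho0 hlo
  have hxH : x ∈ H := by rw [hxdef]; exact H.pow_mem hh₀ _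
  have hx1 : x ≠ 1 := by
    intro h
    rw [h, orderOf_one] at hxo
    have := hl.one_lt
    omega
  have hxodd : Odd (orderOf x) := by rw [hxo]; exact hlodd
  have hzx : IsPGroup l (Subgroup.zpowers x) :=
    IsPGroup.of_card (n := 1) (by rw [Nat.card_zpowers, hxo, pow_one])
  obtain ⟨P, hxP⟩ := hzx.exists_le_sylow
  have hxP' : x ∈ (P : Subgroup G) := hxP (Subgroup.mem_zpowers x)
  have hPcyc : IsCyclic ↥(P : Subgroup G) := hax.cycSyl l hl3 P
  have hcommP := comm_of_cyclic (P : Subgroup G) hPcyc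
  have hPH : (P : Subgroup G) ≤ H := by
    intro y hy
    exact hax.centH x hxH hx1 hxodd y (hcommP y hy x hxP')
  have hPcard : Nat.card ↥(P : Subgroup G) = l ^ (Nat.card G).factorization l :=
    P.card_eq_multiplicity
  have hPodd : ∀ y ∈ (P : Subgroup G), Odd (orderOf y) := by
    intro y hy
    have h1 : orderOf y ∣ Nat.card ↥(P : Subgroup G) := Subgroup.orderOf_dvd_natCard _ hy
    rw [hPcard] at h1
    exact Odd.of_dvd_nat hlodd.pow h1
  have hHNP : H ≤ Subgroup.normalizer ((P : Subgroup G) : Set G) := by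
    intro h hh
    rw [Subgroup.mem_normalizer_iff]
    intro p
    constructor
    · intro hp
      have h1 : h * p * h⁻¹ = p := by rw [hcommH h hh p (hPH hp), mul_inv_cancel_right]
      rw [h1]; exact hp
    · intro hp
      have hc := hcommH h hh _ (hPH hp)
      have h1 : p = h * p * h⁻¹ := by
        calc p = h⁻¹ * ((h * p * h⁻¹) * h) := by group
          _ = h⁻¹ * (h * (h * p * h⁻¹)) := by rw [hc]
          _ = h * p * h⁻¹ := by group
      rw [h1]; exact hp
  have hHP : ∀ w ∈ H, orderOf w ∣ Nat.card ↥(P : Subgroup G) → w ∈ (P : Subgroup G) := by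
    intro w hw hwd
    rw [hPcard] at hwd
    obtain ⟨b, -, hb⟩ := (Nat.dvd_prime_pow hl).mp hwd
    have hz : IsPGroup l (Subgroup.zpowers w) :=
      IsPGroup.of_card (by rw [Nat.card_zpowers, hb])
    have hzN : Subgroup.zpowers w ≤ Subgroup.normalizer ((P : Sylow l G) : Set G) := by
      show Subgroup.zpowers w ≤ Subgroup.normalizer ((P : Subgroup G) : Set G)
      exact (Subgroup.zpowers_le.mpr hw).trans hHNP
    have hle : Subgroup.zpowers w ≤ Subgroup.zpowers w ⊓ (P : Subgroup G) := by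
      rw [← hz.inf_normalizer_sylow P]
      exact le_inf le_rfl hzN
    exact (Subgroup.mem_inf.mp (hle (Subgroup.mem_zpowers w))).2
  have hTIP : ∀ g : G, (∃ y ∈ (P : Subgroup G), y ≠ 1 ∧ g * y * g⁻¹ ∈ (P : Subgroup G)) →
      ∀ z ∈ (P : Subgroup G), g * z * g⁻¹ ∈ (P : Subgroup G) := by
    rintro g ⟨y, hy, hy1, hgy⟩ z hz
    apply hHP
    · exact tiH hax g y (hPH hy) hy1 (hPodd y hy) (hPH hgy) z (hPH hz)
    · rw [ord_conj]; exact Subgroup.orderOf_dvd_natCard _ hz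
  have hn := hTI G l P hTIP
  have hfwd : ∀ g ∈ Subgroup.normalizer (H : Set G), ∀ z ∈ (P : Subgroup G),
      g * z * g⁻¹ ∈ (P : Subgroup G) := by
    intro g hg z hz
    apply hHP
    · exact (Subgroup.mem_normalizer_iff.mp hg z).mp (hPH hz)
    · rw [ord_conj]; exact Subgroup.orderOf_dvd_natCard _ hz
  have hNeq : Subgroup.normalizer ((P : Subgroup G) : Set G) =
      Subgroup.normalizer (H : Set G) := by
    apply le_antisymm
    · intro g hg
      have hgx : g * x * g⁻¹ ∈ (P : Subgroup G) :=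
        (Subgroup.mem_normalizer_iff.mp hg x).mp hxP'
      exact normH hax g x hxH hx1 hxodd (hPH hgx)
    · intro g hg
      rw [Subgroup.mem_normalizer_iff]
      intro z
      constructor
      · exact hfwd g hg z
      · intro hz
        have h2 := hfwd g⁻¹ (Subgroup.inv_mem _ hg) _ hz
        have h3 : g⁻¹ * (g * z * g⁻¹) * g⁻¹⁻¹ = z := by group
        rwa [h3] at h2
  have hidx : Nat.card (Sylow l G) = (Subgroup.normalizer (H : Set G)).index := by
    rw [← hNeq]; exact Sylow.card_eq_index_normalizer P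
  rw [hidx, hPcard] at hn
  have hIpos : 1 ≤ (Subgroup.normalizer (H : Set G)).index :=
    Nat.one_le_iff_ne_zero.mpr Subgroup.index_ne_zero_of_finite
  exact (Nat.modEq_iff_dvd' hIpos).mp hn.symm

theorem main : NH.{u, v} := by
  intro G _ _ U H A K _ _ m hax hTI
  classical
  unfold NHC
  have hm := hax.hm
  have hq27 : 27 ≤ qq m := by
    calc 27 = 3 ^ 3 := by norm_num
      _ ≤ 3 ^ (2 * m + 1) := Nat.pow_le_pow_right (by norm_num) (by omega)
  have hq4 := ReeSpCT1.qq_mod4 m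
  obtain ⟨j, hj⟩ : ∃ j, qq m = 2 * j + 3 := ⟨(qq m - 3) / 2, by omega⟩
  have hj12 : 12 ≤ j := by omega
  have hkodd : Odd (j + 1) := by rw [Nat.odd_iff]; omega
  have e1 : 2 * j + 3 - 1 = 2 * (j + 1) := by omega
  have hcardH : Nat.card H = 2 * (j + 1) := by rw [hax.cardH, hj, e1]
  have hcardG : Nat.card G = (2 * j + 3) ^ 3 * (2 * (j + 1)) * ((2 * j + 3) ^ 3 + 1) := by
    rw [hax.card, hj, e1]
  have hIpos : 1 ≤ (Subgroup.normalizer (H : Set G)).index :=
    Nat.one_le_iff_ne_zero.mpr Subgroup.index_ne_zero_of_finite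
  -- `k' = j + 1` divides `|G : N(H)| - 1`
  have hkI : (j + 1) ∣ (Subgroup.normalizer (H : Set G)).index - 1 := by
    rcases Nat.eq_zero_or_pos ((Subgroup.normalizer (H : Set G)).index - 1) with h0 | hpos
    · rw [h0]; exact dvd_zero _
    · rw [← Nat.factorization_prime_le_iff_dvd (Nat.succ_ne_zero j) hpos.ne']
      intro l hl
      by_cases hlk : l ∣ j + 1
      · have hl2 : l ≠ 2 := by
          rintro rfl
          exact (Nat.not_even_iff_odd.mpr hkodd) (even_iff_two_dvd.mpr hlk)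
        have hl3' : l ≠ 3 := by
          rintro rfl
          obtain ⟨t, ht⟩ : ∃ t, qq m = 3 * t :=
            ⟨3 ^ (2 * m), by show 3 ^ (2 * m + 1) = 3 * 3 ^ (2 * m); ring⟩
          omega
        have hl5 : 3 < l := by
          have := hl.two_le
          omega
        have hlH : l ∣ Nat.card H := by rw [hcardH]; exact Dvd.dvd.mul_left hlk 2
        have h1 := index_mod hax hTI l hl hl5 hlH
        have h2 : (j + 1).factorization l ≤ (Nat.card G).factorization l := by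
          have hd : (j + 1) ∣ Nat.card G := by
            rw [hcardG]
            exact Dvd.dvd.mul_right (Dvd.dvd.mul_left (Dvd.intro_left 2 rfl) _) _
          exact (Nat.factorization_le_iff_dvd (Nat.succ_ne_zero j) Nat.card_pos.ne').mpr hd l
        have h3 : l ^ (j + 1).factorization l ∣
            (Subgroup.normalizer (H : Set G)).index - 1 := (pow_dvd_pow l h2).trans h1
        exact (hl.pow_dvd_iff_le_factorization hpos.ne').mp h3
      · rw [Nat.factorization_eq_zero_of_not_dvd hlk]; exact Nat.zero_le _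
  -- `|N(H)| = |H| n`
  have hHN : H ≤ Subgroup.normalizer (H : Set G) := Subgroup.le_normalizer
  obtain ⟨n, hn⟩ := Subgroup.card_dvd_of_le hHN
  have hIn : (Subgroup.normalizer (H : Set G)).index * n =
      (2 * j + 3) ^ 3 * ((2 * j + 3) ^ 3 + 1) := by
    have h1 : (Subgroup.normalizer (H : Set G)).index *
        Nat.card ↥(Subgroup.normalizer (H : Set G)) = Nat.card G := Subgroup.index_mul_card _
    rw [hn, hcardH, hcardG] at h1
    have hpos : 0 < 2 * (j + 1) := by omega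
    apply Nat.eq_of_mul_eq_mul_left hpos
    calc 2 * (j + 1) * ((Subgroup.normalizer (H : Set G)).index * n)
        = (Subgroup.normalizer (H : Set G)).index * (2 * (j + 1) * n) := by ring
      _ = (2 * j + 3) ^ 3 * (2 * (j + 1)) * ((2 * j + 3) ^ 3 + 1) := h1
      _ = 2 * (j + 1) * ((2 * j + 3) ^ 3 * ((2 * j + 3) ^ 3 + 1)) := by ring
  -- `n ≤ j` by counting the conjugates of `h₀²` under `N(H)`
  have hB := ReeSpCT1.card_oddH H hax.cycH (j + 1) hkodd hcardH
  obtain ⟨h₀, hh₀, ho, hgen⟩ := ReeSpCT1.exists_gen H hax.cycH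
  rw [hcardH] at ho
  have hx₀H : h₀ ^ 2 ∈ H := H.pow_mem hh₀ 2
  have hx₀o : orderOf (h₀ ^ 2) = j + 1 := by
    rw [orderOf_pow' h₀ (by norm_num : (2 : ℕ) ≠ 0), ho,
      Nat.gcd_eq_right (dvd_mul_right 2 (j + 1)), Nat.mul_div_cancel_left (j + 1) (by norm_num)]
  have hx₀1 : h₀ ^ 2 ≠ 1 := by
    intro h
    rw [h, orderOf_one] at hx₀o
    omega
  have hx₀odd : Odd (orderOf (h₀ ^ 2)) := by rw [hx₀o]; exact hkodd
  have hrep : ∀ b : G, ∃ r : G,
      (∃ g ∈ Subgroup.normalizer (H : Set G), g * h₀ ^ 2 * g⁻¹ = b) →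
      (r ∈ Subgroup.normalizer (H : Set G) ∧ r * h₀ ^ 2 * r⁻¹ = b) := by
    intro b
    by_cases hb : ∃ g ∈ Subgroup.normalizer (H : Set G), g * h₀ ^ 2 * g⁻¹ = b
    · obtain ⟨g, hg, hgb⟩ := hb
      exact ⟨g, fun _ => ⟨hg, hgb⟩⟩
    · exact ⟨1, fun h => absurd h hb⟩
  choose r hr using hrep
  let F : ↥(Subgroup.normalizer (H : Set G)) →
      {a : G // a ∈ H ∧ a ≠ 1 ∧ Odd (orderOf a)} × ↥H :=
    fun g => (⟨(g : G) * h₀ ^ 2 * (g : G)⁻¹,
        (Subgroup.mem_normalizer_iff.mp g.2 _).mp hx₀H, ne_conj _ _ hx₀1,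
        by rw [ord_conj]; exact hx₀odd⟩,
      ⟨(r ((g : G) * h₀ ^ 2 * (g : G)⁻¹))⁻¹ * (g : G), by
        obtain ⟨h1, h2⟩ := hr _ ⟨g.1, g.2, rfl⟩
        apply hax.centH (h₀ ^ 2) hx₀H hx₀1 hx₀odd
        exact conj_comm_of_eq _ _ _ h2⟩)
  have hFinj : Function.Injective F := by
    intro g g' hgg
    have h1 : (g : G) * h₀ ^ 2 * (g : G)⁻¹ = (g' : G) * h₀ ^ 2 * (g' : G)⁻¹ :=
      congrArg Subtype.val (Prod.ext_iff.mp hgg).1
    have h2 : (r ((g : G) * h₀ ^ 2 * (g : G)⁻¹))⁻¹ * (g : G) =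
        (r ((g' : G) * h₀ ^ 2 * (g' : G)⁻¹))⁻¹ * (g' : G) :=
      congrArg Subtype.val (Prod.ext_iff.mp hgg).2
    rw [← h1] at h2
    apply Subtype.ext
    exact mul_left_cancel h2
  have hle : Nat.card ↥(Subgroup.normalizer (H : Set G)) ≤ j * (2 * (j + 1)) := by
    have h := Nat.card_le_card_of_injective F hFinj
    rw [Nat.card_prod, hB, hcardH, Nat.add_sub_cancel] at h
    exact h
  rw [hn, hcardH] at hle
  have hnj : n ≤ j := by
    have hpos : 0 < 2 * (j + 1) := by omega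
    have hle' : 2 * (j + 1) * n ≤ 2 * (j + 1) * j := by
      calc 2 * (j + 1) * n ≤ j * (2 * (j + 1)) := hle
        _ = 2 * (j + 1) * j := by ring
    exact Nat.le_of_mul_le_mul_left hle' hpos
  -- congruences
  have hImod : (Subgroup.normalizer (H : Set G)).index ≡ 1 [MOD (j + 1)] :=
    ((Nat.modEq_iff_dvd' hIpos).mpr hkI).symm
  have hqmod : 2 * j + 3 ≡ 1 [MOD (j + 1)] := by
    have h0 : 2 * j + 3 = 1 + (j + 1) * 2 := by ring
    show (2 * j + 3) % (j + 1) = 1 % (j + 1)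
    rw [h0, Nat.add_mul_mod_self_left]
  have hprod : (Subgroup.normalizer (H : Set G)).index * n ≡ 1 * n [MOD (j + 1)] :=
    hImod.mul_right n
  have hrhs : (2 * j + 3) ^ 3 * ((2 * j + 3) ^ 3 + 1) ≡ 1 ^ 3 * (1 ^ 3 + 1) [MOD (j + 1)] :=
    (hqmod.pow 3).mul ((hqmod.pow 3).add_right 1)
  have h1 : n % (j + 1) = ((Subgroup.normalizer (H : Set G)).index * n) % (j + 1) := by
    have h := hprod
    unfold Nat.ModEq at h
    rw [h, one_mul]
  have h2 : ((Subgroup.normalizer (H : Set G)).index * n) % (j + 1) = 2 % (j + 1) := by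
    rw [hIn]
    have h := hrhs
    unfold Nat.ModEq at h
    rw [h]
    norm_num
  have hn2 : n = 2 := by
    have h3 : n % (j + 1) = 2 % (j + 1) := h1.trans h2
    rw [Nat.mod_eq_of_lt (by omega : n < j + 1), Nat.mod_eq_of_lt (by omega : 2 < j + 1)] at h3
    exact h3
  rw [hn, hn2, hax.cardH, mul_comm]

end Cfsg.Agent.Lib.Helper4.ReeSpNH
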