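import Mathlib
import Cfsg.Agent.Lib.Helper42.ReeSpStmt

set_option autoImplicit false

namespace Cfsg.Agent.Lib.Helper4.ReeSpSYL

open Cfsg.Agent.Lib.Helper42.ReeSpStmt

universe u v

theorem main : Syl.{u, v} := by
  classical
  intro G _ _ U H A K _ _ m hax hTI
  haveI : Fact (Nat.Prime 3) := ⟨Nat.prime_three⟩
  have hcard := hax.card
  have hU := hax.cardU
  have hH := hax.cardH
  -- arithmetic
  have hq3 : 3 ≤ qq m := three_le_qq m
  obtain ⟨t, ht⟩ : ∃ t, qq m = 3 * t :=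
    ⟨3 ^ (2 * m), by show 3 ^ (2 * m + 1) = 3 * 3 ^ (2 * m); ring⟩
  have h3q1 : ¬ 3 ∣ qq m - 1 := by rw [ht]; omega
  obtain ⟨s, hs⟩ : ∃ s, qq m ^ 3 = 3 * s := ⟨t * qq m ^ 2, by rw [ht]; ring⟩
  have h3q3 : ¬ 3 ∣ qq m ^ 3 + 1 := by rw [hs]; omega
  have hq3pos : 1 < qq m ^ 3 := by
    have : 3 ≤ qq m ^ 3 := le_trans hq3 (Nat.le_self_pow (by norm_num) _)
    omega
  have hcopUH : Nat.Coprime (qq m ^ 3) (qq m - 1) := by
    apply Nat.Coprime.pow_left
    apply Nat.Coprime.pow_left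
    exact (Nat.Prime.coprime_iff_not_dvd Nat.prime_three).mpr h3q1
  have hQpos : 0 < qq m ^ 3 * (qq m - 1) := by
    have h1 : 0 < qq m - 1 := by omega
    have h2 : 0 < qq m ^ 3 := by omega
    exact Nat.mul_pos h2 h1
  -- `U` is a Sylow 3-subgroup
  have hUp : IsPGroup 3 U := by
    rw [IsPGroup.iff_card]
    exact ⟨(2 * m + 1) * 3, by rw [hU]; exact (pow_mul 3 (2 * m + 1) 3).symm⟩
  obtain ⟨P, hUP⟩ := hUp.exists_le_sylow
  have hPeq : (P : Subgroup G) = U := by
    symm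
    apply Subgroup.eq_of_le_of_card_ge hUP
    obtain ⟨k, hk⟩ := (IsPGroup.iff_card (p := 3) (G := ↥(P : Subgroup G))).mp P.isPGroup'
    have hdvd : Nat.card ↥(P : Subgroup G) ∣ Nat.card G := Subgroup.card_subgroup_dvd_card _
    rw [hk, hcard] at hdvd
    have hcop : Nat.Coprime (3 ^ k) ((qq m - 1) * (qq m ^ 3 + 1)) := by
      apply Nat.Coprime.pow_left
      rw [Nat.Prime.coprime_iff_not_dvd Nat.prime_three, Nat.Prime.dvd_mul Nat.prime_three]
      rintro (h | h)
      · exact h3q1 h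
      · exact h3q3 h
    have h3k : 3 ^ k ∣ qq m ^ 3 := by
      rw [mul_assoc] at hdvd
      exact hcop.dvd_of_dvd_mul_right hdvd
    rw [hk, hU]
    exact Nat.le_of_dvd (by omega) h3k
  have hTIP : ∀ g : G, (∃ x ∈ (P : Subgroup G), x ≠ 1 ∧ g * x * g⁻¹ ∈ (P : Subgroup G)) →
      ∀ x ∈ (P : Subgroup G), g * x * g⁻¹ ∈ (P : Subgroup G) := by
    rw [hPeq]; exact hax.ti
  have hn3 := hTI G 3 P hTIP
  have hidx : Nat.card (Sylow 3 G) = (Subgroup.normalizer (U : Set G)).index := by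
    have h := Sylow.card_eq_index_normalizer P
    have e : ((P : Sylow 3 G) : Set G) = (U : Set G) := by rw [← hPeq]; rfl
    rw [e] at h
    exact h
  rw [hPeq] at hn3
  rw [hU] at hn3
  have hidxmul : (Subgroup.normalizer (U : Set G)).index *
      Nat.card ↥(Subgroup.normalizer (U : Set G)) = Nat.card G := Subgroup.index_mul_card _
  have hUN : U ≤ Subgroup.normalizer (U : Set G) := Subgroup.le_normalizer
  have hHN : H ≤ Subgroup.normalizer (U : Set G) := by
    intro h hh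
    rw [Subgroup.mem_normalizer_iff]
    intro u
    constructor
    · exact hax.normH h hh u
    · intro hu
      have h1 := hax.normH h⁻¹ (H.inv_mem hh) _ hu
      have e : h⁻¹ * (h * u * h⁻¹) * h⁻¹⁻¹ = u := by group
      rwa [e] at h1
  have hdN : qq m ^ 3 * (qq m - 1) ∣ Nat.card ↥(Subgroup.normalizer (U : Set G)) := by
    apply Nat.Coprime.mul_dvd_of_dvd_of_dvd hcopUH
    · rw [← hU]; exact Subgroup.card_dvd_of_le hUN
    · rw [← hH]; exact Subgroup.card_dvd_of_le hHN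
  obtain ⟨t', ht'⟩ := hdN
  have hIt : (Subgroup.normalizer (U : Set G)).index * t' = qq m ^ 3 + 1 := by
    have h1 : (Subgroup.normalizer (U : Set G)).index * (qq m ^ 3 * (qq m - 1) * t')
        = qq m ^ 3 * (qq m - 1) * (qq m ^ 3 + 1) := by
      rw [← ht', hidxmul, hcard]
    have h2 : (qq m ^ 3 * (qq m - 1)) * ((Subgroup.normalizer (U : Set G)).index * t')
        = (qq m ^ 3 * (qq m - 1)) * (qq m ^ 3 + 1) := by
      rw [← h1]; ring
    exact Nat.eq_of_mul_eq_mul_left hQpos h2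
  have hI1 : (Subgroup.normalizer (U : Set G)).index ≠ 1 := by
    intro h
    rw [Subgroup.index_eq_one] at h
    exact hax.notNormal (Subgroup.normalizer_eq_top_iff.mp h)
  have hImod : (Subgroup.normalizer (U : Set G)).index % qq m ^ 3 = 1 := by
    rw [← hidx, hn3]; exact Nat.mod_eq_of_lt hq3pos
  have ht'1 : t' = 1 := by
    have hdm := Nat.div_add_mod (Subgroup.normalizer (U : Set G)).index (qq m ^ 3)
    rw [hImod] at hdm
    rcases Nat.eq_zero_or_pos ((Subgroup.normalizer (U : Set G)).index / qq m ^ 3) with h0 | hpos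
    · exfalso
      rw [h0, Nat.mul_zero, Nat.zero_add] at hdm
      exact hI1 hdm.symm
    · have hge : qq m ^ 3 + 1 ≤ (Subgroup.normalizer (U : Set G)).index := by
        have h5 : qq m ^ 3 * 1 ≤
            qq m ^ 3 * ((Subgroup.normalizer (U : Set G)).index / qq m ^ 3) :=
          Nat.mul_le_mul_left _ hpos
        omega
      by_contra hne
      have ht'0 : t' ≠ 0 := by
        intro h
        rw [h, Nat.mul_zero] at hIt
        omega
      have h2 : 2 ≤ t' := by omega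
      have h6 : (Subgroup.normalizer (U : Set G)).index * 2 ≤
          (Subgroup.normalizer (U : Set G)).index * t' := Nat.mul_le_mul_left _ h2
      omega
  have hcardN : Nat.card ↥(Subgroup.normalizer (U : Set G)) = qq m ^ 3 * (qq m - 1) := by
    rw [ht', ht'1, mul_one]
  refine ⟨hcardN, ?_, ?_⟩
  · have hsup : U ⊔ H = Subgroup.normalizer (U : Set G) := by
      apply Subgroup.eq_of_le_of_card_ge (sup_le hUN hHN)
      have hd : qq m ^ 3 * (qq m - 1) ∣ Nat.card ↥(U ⊔ H) := by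
        apply Nat.Coprime.mul_dvd_of_dvd_of_dvd hcopUH
        · rw [← hU]; exact Subgroup.card_dvd_of_le le_sup_left
        · rw [← hH]; exact Subgroup.card_dvd_of_le le_sup_right
      rw [hcardN]
      exact Nat.le_of_dvd Nat.card_pos hd
    intro g hg
    have hg' : g ∈ ((U ⊔ H : Subgroup G) : Set G) := by rw [hsup]; exact hg
    rw [Subgroup.coe_mul_of_right_le_normalizer_left U H hHN] at hg'
    obtain ⟨u, hu, h, hh, rfl⟩ := hg'
    exact ⟨u, hu, h, hh, rfl⟩
  · rintro g ⟨k, hk⟩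
    have hz : IsPGroup 3 (Subgroup.zpowers g) := by
      rintro ⟨x, hx⟩
      obtain ⟨i, rfl⟩ := Subgroup.mem_zpowers_iff.mp hx
      refine ⟨k, ?_⟩
      apply Subtype.ext
      show (g ^ i) ^ 3 ^ k = 1
      rw [← zpow_natCast (g ^ i) (3 ^ k), ← zpow_mul, mul_comm, zpow_mul, zpow_natCast, hk,
        one_zpow]
    obtain ⟨Q, hQ⟩ := hz.exists_le_sylow
    obtain ⟨x, hx⟩ := MulAction.exists_smul_eq G Q P
    refine ⟨x, ?_⟩
    have hgQ : g ∈ (Q : Subgroup G) := hQ (Subgroup.mem_zpowers g)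
    have hmem : x * g * x⁻¹ ∈ ((x • Q : Sylow 3 G) : Subgroup G) := by
      rw [Sylow.coe_subgroup_smul]
      exact (Subgroup.mem_smul_pointwise_iff_exists _ _ _).mpr ⟨g, hgQ, rfl⟩
    rw [hx, hPeq] at hmem
    exact hmem

end Cfsg.Agent.Lib.Helper4.ReeSpSYL
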