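import Mathlib
import Cfsg.Agent.Lib.Helper4.SchDefs

/-!
S4394, piece A2a: a finite non-abelian `p`-group with an automorphism of prime order `q ≠ p`
fixing every proper invariant subgroup pointwise is special, and all commutator maps
`s ↦ ⁅s, x⁆` (`x` non-central) are onto the centre.
-/

set_option autoImplicit false

namespace Cfsg.Agent.Lib.Helper4.SchA

open Cfsg.Agent.Lib.Helper4.SchDefs

theorem eq_one_of_pow_coprime {M : Type*} [Monoid M] {u : M} {a b : ℕ} (ha : u ^ a = 1)
    (hb : u ^ b = 1) (hab : a.Coprime b) : u = 1 := by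
  have h1 := orderOf_dvd_of_pow_eq_one ha
  have h2 := orderOf_dvd_of_pow_eq_one hb
  exact orderOf_eq_one_iff.mp (Nat.eq_one_of_dvd_coprimes hab h1 h2)

variable {T : Type*} [Group T]

theorem cop_aux (σ : MulAut T) {x u : T} (hx : σ x = x * u) (hu : σ u = u) (j : ℕ) :
    (σ ^ j) x = x * u ^ j := by
  induction j with
  | zero => simp
  | succ j ih =>
    rw [pow_succ', MulAut.mul_apply, ih, map_mul, map_pow, hx, hu, pow_succ', mul_assoc]

theorem cop {p : ℕ} (hp : p.Prime) (hT : IsPGroup p T) (σ : MulAut T) {q : ℕ} (hq : q.Prime)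
    (hqp : q ≠ p) (hσq : σ ^ q = 1) {x u : T} (hx : σ x = x * u) (hu : σ u = u) : u = 1 := by
  have h := cop_aux σ hx hu q
  rw [hσq, MulAut.one_apply] at h
  have h1 : u ^ q = 1 := by
    have h2 : x * 1 = x * u ^ q := by rw [mul_one]; exact h
    exact (mul_left_cancel h2).symm
  obtain ⟨k, hk⟩ := hT u
  exact eq_one_of_pow_coprime h1 hk (Nat.Coprime.pow_right k ((Nat.coprime_primes hq hp).mpr hqp))

theorem central_of_invariant {p : ℕ} (hp : p.Prime) (hT : IsPGroup p T) (σ : MulAut T)
    {q : ℕ} (hq : q.Prime) (hqp : q ≠ p) (hσq : σ ^ q = 1) (hσ1 : σ ≠ 1)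
    (H1 : ∀ R : Subgroup T, R ≠ ⊤ → (∀ r ∈ R, σ r ∈ R) → ∀ r ∈ R, σ r = r)
    (R : Subgroup T) (hRn : R.Normal) (hR : R ≠ ⊤) (hinv : ∀ r ∈ R, σ r ∈ R) :
    R ≤ Subgroup.center T := by
  have hfix := H1 R hR hinv
  by_cases hC : Subgroup.centralizer (R : Set T) = ⊤
  · intro r hr
    rw [Subgroup.mem_center_iff]
    intro g
    have hg : g ∈ Subgroup.centralizer (R : Set T) := hC ▸ Subgroup.mem_top g
    exact (Subgroup.mem_centralizer_iff.mp hg r hr).symm
  · exfalso
    have hCinv : ∀ c ∈ Subgroup.centralizer (R : Set T),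
        σ c ∈ Subgroup.centralizer (R : Set T) := by
      intro c hc
      rw [Subgroup.mem_centralizer_iff] at hc ⊢
      intro r hr
      have := congrArg σ (hc r hr)
      rw [map_mul, map_mul, hfix r hr] at this
      exact this
    have hCfix := H1 _ hC hCinv
    apply hσ1
    ext x
    rw [MulAut.one_apply]
    have hu : x⁻¹ * σ x ∈ Subgroup.centralizer (R : Set T) := by
      rw [Subgroup.mem_centralizer_iff]
      intro r hr
      have h1 : σ (x * r * x⁻¹) = x * r * x⁻¹ := hfix _ (hRn.conj_mem r hr x)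
      rw [map_mul, map_mul, map_inv, hfix r hr] at h1
      have h2 : σ x * r = x * r * x⁻¹ * σ x := by rw [← h1]; group
      calc r * (x⁻¹ * σ x) = x⁻¹ * (x * r * x⁻¹ * σ x) := by group
        _ = x⁻¹ * σ x * r := by rw [← h2]; group
    have h3 := cop hp hT σ hq hqp hσq (x := x) (u := x⁻¹ * σ x) (by group) (hCfix _ hu)
    exact (inv_mul_eq_one.mp h3).symm

theorem sep_basic {T : Type*} [Group T] [Finite T] (p : ℕ) [Fact p.Prime] (hT : IsPGroup p T)
    (σ : MulAut T) (q : ℕ) (hq : q.Prime) (hqp : q ≠ p) (hσq : σ ^ q = 1) (hσ1 : σ ≠ 1)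
    (H1 : ∀ R : Subgroup T, R ≠ ⊤ → (∀ r ∈ R, σ r ∈ R) → ∀ r ∈ R, σ r = r)
    (hnab : ¬ ∀ a b : T, a * b = b * a) :
    (∀ a b : T, a * b * a⁻¹ * b⁻¹ ∈ Subgroup.center T) ∧ (∀ a : T, a ^ p ∈ Subgroup.center T) ∧
    (∀ z ∈ Subgroup.center T, z ^ p = 1) ∧
    (∀ x : T, x ∉ Subgroup.center T → ∀ z ∈ Subgroup.center T, ∃ s : T, s * x * s⁻¹ * x⁻¹ = z) ∧
    (∀ t : T, σ t = t ↔ t ∈ Subgroup.center T) := by
  classical
  have hp : p.Prime := Fact.out
  have hb := fun R hRn hR hinv => central_of_invariant hp hT σ hq hqp hσq hσ1 H1 R hRn hR hinv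
  have hZtop : Subgroup.center T ≠ ⊤ := by
    intro h
    apply hnab
    intro a b
    have : b ∈ Subgroup.center T := h ▸ Subgroup.mem_top b
    exact Subgroup.mem_center_iff.mp this a
  have hZinv : ∀ r ∈ Subgroup.center T, σ r ∈ Subgroup.center T := fun r hr =>
    (Subgroup.characteristic_iff_le_comap.mp inferInstance σ) hr
  have hZfix := H1 _ hZtop hZinv
  haveI : Nontrivial T := by
    by_contra h
    rw [not_nontrivial_iff_subsingleton] at h
    exact hnab (fun a b => Subsingleton.elim _ _)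
  haveI : Group.IsNilpotent T := hT.isNilpotent
  have hDtop : commutator T ≠ ⊤ := (Group.IsSolvable.commutator_lt_top_of_nontrivial T).ne
  have hDinv : ∀ r ∈ commutator T, σ r ∈ commutator T := fun r hr =>
    (Subgroup.characteristic_iff_le_comap.mp inferInstance σ) hr
  have hDZ : commutator T ≤ Subgroup.center T := hb _ inferInstance hDtop hDinv
  have h1 : ∀ a b : T, a * b * a⁻¹ * b⁻¹ ∈ Subgroup.center T := fun a b =>
    hDZ (Subgroup.commutator_mem_commutator (Subgroup.mem_top a) (Subgroup.mem_top b))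
  -- fixed points
  have hfixZ : ∀ t : T, σ t = t → t ∈ Subgroup.center T := by
    let F : Subgroup T := MonoidHom.eqLocus σ.toMonoidHom (MonoidHom.id T)
    have hFmem : ∀ t, t ∈ F ↔ σ t = t := fun t => Iff.rfl
    have hFtop : F ≠ ⊤ := by
      intro h
      apply hσ1
      ext x
      exact (hFmem x).mp (h ▸ Subgroup.mem_top x)
    have hZF : Subgroup.center T ≤ F := fun z hz => (hFmem z).mpr (hZfix z hz)
    have hFn : F.Normal := by
      constructor
      intro t ht g
      have : g * t * g⁻¹ = (g * t * g⁻¹ * t⁻¹) * t := by group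
      rw [this]
      exact F.mul_mem (hZF (h1 g t)) ht
    have hFinv : ∀ r ∈ F, σ r ∈ F := by
      intro r hr
      rw [(hFmem r).mp hr]; exact hr
    have hFZ := hb F hFn hFtop hFinv
    intro t ht
    exact hFZ ((hFmem t).mpr ht)
  -- p-th powers
  have h2 : ∀ a : T, a ^ p ∈ Subgroup.center T := by
    let ab : T →* Abelianization T := Abelianization.of
    let I : Subgroup T :=
      (powMonoidHom p : Abelianization T →* Abelianization T).range.comap ab
    have hImem : ∀ t, t ∈ I ↔ ∃ y : Abelianization T, y ^ p = ab t := fun t => Iff.rfl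
    have hIn : I.Normal := inferInstance
    have hIinv : ∀ r ∈ I, σ r ∈ I := by
      intro r hr
      obtain ⟨y, hy⟩ := (hImem r).mp hr
      refine (hImem _).mpr ⟨Abelianization.map σ.toMonoidHom y, ?_⟩
      rw [← map_pow, hy]
      exact Abelianization.map_of _ _
    have hItop : I ≠ ⊤ := by
      intro h
      have hsurj : Function.Surjective
          (powMonoidHom p : Abelianization T →* Abelianization T) := by
        intro y
        obtain ⟨t, rfl⟩ := QuotientGroup.mk_surjective y
        exact (hImem t).mp (h ▸ Subgroup.mem_top t)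
      have hinj := (Finite.injective_iff_surjective).mpr hsurj
      have hnt : Nontrivial (Abelianization T) := (QuotientGroup.nontrivial_iff).mpr hDtop
      obtain ⟨y, hy⟩ := exists_ne (1 : Abelianization T)
      have hpA : IsPGroup p (Abelianization T) := hT.to_quotient _
      obtain ⟨k, hk⟩ := hpA y
      have key : ∀ k : ℕ, ∀ y : Abelianization T, y ^ p ^ k = 1 → y = 1 := by
        intro k
        induction k with
        | zero => intro y hy; simpa using hy
        | succ k ih =>
          intro y hy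
          apply ih
          apply hinj
          show (y ^ p ^ k) ^ p = 1 ^ p
          rw [one_pow, ← pow_mul, ← pow_succ]; exact hy
      exact hy (key k y hk)
    have hIZ := hb I hIn hItop hIinv
    intro a
    apply hIZ
    exact (hImem _).mpr ⟨ab a, (map_pow ab a p).symm⟩
  -- the centre lies in the commutator subgroup
  have hZD : Subgroup.center T ≤ commutator T := by
    let M : Subgroup T := Subgroup.closure {u | ∃ x : T, u = x⁻¹ * σ x}
    have hMtop : M = ⊤ := by
      by_contra hM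
      have hMinv : ∀ r ∈ M, σ r ∈ M := by
        intro r hr
        have hle : M ≤ M.comap σ.toMonoidHom := by
          show Subgroup.closure _ ≤ _
          rw [Subgroup.closure_le]
          rintro u ⟨x, rfl⟩
          show σ (x⁻¹ * σ x) ∈ M
          rw [map_mul, map_inv]
          exact Subgroup.subset_closure ⟨σ x, rfl⟩
        exact hle hr
      have hMfix := H1 M hM hMinv
      apply hσ1
      ext x
      have hu : x⁻¹ * σ x ∈ M := Subgroup.subset_closure ⟨x, rfl⟩
      have h3 := cop hp hT σ hq hqp hσq (x := x) (u := x⁻¹ * σ x) (by group) (hMfix _ hu)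
      rw [MulAut.one_apply]
      exact (inv_mul_eq_one.mp h3).symm
    let ab : T →* Abelianization T := Abelianization.of
    let Nt : T →* Abelianization T :=
      MonoidHom.mk' (fun t => ∏ i ∈ Finset.range q, ab ((σ ^ i) t)) (by
        intro a b
        simp only [map_mul]
        exact Finset.prod_mul_distrib)
    have hNt : ∀ t, Nt t = ∏ i ∈ Finset.range q, ab ((σ ^ i) t) := fun t => rfl
    have hNσ : ∀ t, Nt (σ t) = Nt t := by
      intro t
      rw [hNt, hNt]
      have e1 := Finset.prod_range_succ' (fun i => ab ((σ ^ i) t)) q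
      have e2 := Finset.prod_range_succ (fun i => ab ((σ ^ i) t)) q
      have e3 : ab ((σ ^ q) t) = ab ((σ ^ 0) t) := by rw [hσq, pow_zero]
      have e4 : ∀ i, ab ((σ ^ i) (σ t)) = ab ((σ ^ (i + 1)) t) := fun i => by
        rw [pow_succ, MulAut.mul_apply]
      simp only [e4]
      rw [e1] at e2
      rw [e3] at e2
      exact mul_right_cancel e2
    have hNM : ∀ t : T, Nt t = 1 := by
      intro t
      have hle : M ≤ Nt.ker := by
        show Subgroup.closure _ ≤ _
        rw [Subgroup.closure_le]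
        rintro u ⟨x, rfl⟩
        show Nt (x⁻¹ * σ x) = 1
        rw [map_mul, map_inv, hNσ, inv_mul_cancel]
      exact hle (hMtop ▸ Subgroup.mem_top t)
    intro z hz
    have hzfix : ∀ i : ℕ, (σ ^ i) z = z := by
      intro i
      induction i with
      | zero => simp
      | succ i ih => rw [pow_succ, MulAut.mul_apply, hZfix z hz, ih]
    have h6 : (ab z) ^ q = 1 := by
      have := hNM z
      rw [hNt] at this
      simp only [hzfix] at this
      rw [Finset.prod_const, Finset.card_range] at this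
      exact this
    obtain ⟨k, hk⟩ := hT z
    have h7 : (ab z) ^ (p ^ k) = 1 := by rw [← map_pow, hk, map_one]
    have h8 : ab z = 1 := eq_one_of_pow_coprime h6 h7
      (Nat.Coprime.pow_right k ((Nat.coprime_primes hq hp).mpr hqp))
    exact (QuotientGroup.eq_one_iff z).mp h8
  -- the commutator homomorphisms
  have hcm : ∀ (s s' x : T), (s * s') * x * (s * s')⁻¹ * x⁻¹ =
      (s * x * s⁻¹ * x⁻¹) * (s' * x * s'⁻¹ * x⁻¹) := by
    intro s s' x
    have hc := Subgroup.mem_center_iff.mp (h1 s' x) s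
    have hc2 := Subgroup.mem_center_iff.mp (h1 s' x) (s * x * s⁻¹ * x⁻¹)
    calc (s * s') * x * (s * s')⁻¹ * x⁻¹
        = s * (s' * x * s'⁻¹ * x⁻¹) * x * s⁻¹ * x⁻¹ := by group
      _ = (s' * x * s'⁻¹ * x⁻¹) * s * x * s⁻¹ * x⁻¹ := by rw [hc]
      _ = (s' * x * s'⁻¹ * x⁻¹) * (s * x * s⁻¹ * x⁻¹) := by group
      _ = (s * x * s⁻¹ * x⁻¹) * (s' * x * s'⁻¹ * x⁻¹) := hc2.symm
  let cH : T → (T →* ↥(Subgroup.center T)) := fun x =>
    MonoidHom.mk' (fun s => ⟨s * x * s⁻¹ * x⁻¹, h1 s x⟩) (fun s s' => Subtype.ext (hcm s s' x))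
  have hcH : ∀ x s, ((cH x s : ↥(Subgroup.center T)) : T) = s * x * s⁻¹ * x⁻¹ := fun x s => rfl
  have hcHinv : ∀ x s, cH s x = (cH x s)⁻¹ := by
    intro x s
    apply Subtype.ext
    rw [Subgroup.coe_inv, hcH, hcH]
    group
  have h4D : ∀ x : T, x ∉ Subgroup.center T → ∀ d ∈ commutator T,
      ∃ s : T, s * x * s⁻¹ * x⁻¹ = d := by
    intro x hx
    let R : Subgroup T := ⨅ s : T, (cH x).range.comap (cH s)
    have hRmem : ∀ y, y ∈ R ↔ ∀ s, ∃ s', cH x s' = cH s y := by
      intro y
      show y ∈ ⨅ s : T, (cH x).range.comap (cH s) ↔ _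
      rw [Subgroup.mem_iInf]
      exact Iff.rfl
    have hxR : x ∈ R := by
      rw [hRmem]
      intro s
      refine ⟨s⁻¹, ?_⟩
      rw [map_inv, hcHinv, inv_inv]
    have hRn : R.Normal := by
      constructor
      intro y hy g
      rw [hRmem] at hy ⊢
      intro s
      obtain ⟨s', hs'⟩ := hy s
      refine ⟨s', ?_⟩
      rw [hs', map_mul, map_mul, map_inv]
      apply Subtype.ext
      rw [Subgroup.coe_mul, Subgroup.coe_mul, Subgroup.coe_inv]
      have hc := Subgroup.mem_center_iff.mp (cH s y).2 ((cH s g : ↥(Subgroup.center T)) : T)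
      rw [hc, mul_inv_cancel_right]
    have hRinv : ∀ r ∈ R, σ r ∈ R := by
      intro y hy
      rw [hRmem] at hy ⊢
      intro s
      obtain ⟨s', hs'⟩ := hy (σ.symm s)
      refine ⟨s', ?_⟩
      rw [hs']
      apply Subtype.ext
      rw [hcH, hcH]
      have e1 : σ (y * σ.symm s * y⁻¹ * (σ.symm s)⁻¹) = σ y * s * (σ y)⁻¹ * s⁻¹ := by
        rw [map_mul, map_mul, map_mul, map_inv, map_inv, MulEquiv.apply_symm_apply]
      rw [← e1]
      exact (hZfix _ (h1 y (σ.symm s))).symm
    have hRtop : R = ⊤ := by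
      by_contra hR
      exact hx (hb R hRn hR hRinv hxR)
    have hle : commutator T ≤ (cH x).range.map (Subgroup.center T).subtype := by
      rw [commutator_eq_closure, Subgroup.closure_le]
      rintro d ⟨g₁, g₂, rfl⟩
      have hg : g₁ ∈ R := hRtop ▸ Subgroup.mem_top g₁
      obtain ⟨s', hs'⟩ := (hRmem g₁).mp hg g₂
      exact ⟨cH g₂ g₁, ⟨s', hs'⟩, rfl⟩
    intro d hd
    obtain ⟨_, ⟨s, rfl⟩, hs⟩ := hle hd
    exact ⟨s, hs⟩
  have h4 : ∀ x : T, x ∉ Subgroup.center T → ∀ z ∈ Subgroup.center T,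
      ∃ s : T, s * x * s⁻¹ * x⁻¹ = z := fun x hx z hz => h4D x hx z (hZD hz)
  have h3 : ∀ z ∈ Subgroup.center T, z ^ p = 1 := by
    obtain ⟨x, hx⟩ : ∃ x : T, x ∉ Subgroup.center T := by
      by_contra hcon
      push_neg at hcon
      exact hZtop (Subgroup.eq_top_iff' _ |>.mpr hcon)
    intro z hz
    obtain ⟨s, hs⟩ := h4 x hx z hz
    have e1 : ((cH x (s ^ p) : ↥(Subgroup.center T)) : T) = 1 := by
      rw [hcH]
      have := Subgroup.mem_center_iff.mp (h2 s) x
      rw [← this]
      group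
    have e2 : ((cH x s) ^ p : ↥(Subgroup.center T)) = cH x (s ^ p) := (map_pow (cH x) s p).symm
    have e3 : z ^ p = (((cH x s) ^ p : ↥(Subgroup.center T)) : T) := by
      rw [Subgroup.coe_pow, hcH, hs]
    rw [e3, e2, e1]
  exact ⟨h1, h2, h3, h4, fun t => ⟨hfixZ t, fun ht => hZfix t ht⟩⟩

end Cfsg.Agent.Lib.Helper4.SchA
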