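import Mathlib
import Cfsg.Agent.Lib.Helper4.UniStmt
import Cfsg.Agent.Lib.Helper4.SchA

/-!
Assembly of S4395 from the pieces of `UniStmt`.
-/

set_option autoImplicit false
universe u

namespace Cfsg.Agent.Lib.Helper4.UniAsm

open Cfsg.Agent.Lib.Helper4.UniStmt

theorem bound (hSTR : STR.{u}) (hHYP : HYP.{u}) (hBT : BOUNDT.{u}) : BOUND.{u} := by
  intro p q r t _ _ hpq hr X _ _ hM hc
  obtain ⟨P, y, hSD⟩ := hSTR p q r t hpq hr X hM hc
  haveI : P.Normal := hSD.1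
  have hH := hHYP p q r t hpq hr X P y hSD
  have h := hBT p q hpq ↥P (MulAut.conjNormal y) hH
  rw [hSD.2.1] at h
  exact (Nat.pow_le_pow_iff_right (Fact.out : p.Prime).one_lt).mp h

theorem amalg (hSTR : STR.{u}) (hXM : XM.{u}) (hLD : LD) (hMF : MATCHF) (hSC : SUBDC.{u})
    (hMS : MINSUB.{u}) : AMALG.{u} := by
  intro p q r t₁ t₂ _ _ hpq hr X₁ X₂ _ _ _ _ hM₁ hc₁ hM₂ hc₂
  obtain ⟨P₁, y₁, hSD₁⟩ := hSTR p q r t₁ hpq hr X₁ hM₁ hc₁
  obtain ⟨P₂, y₂, hSD₂⟩ := hSTR p q r t₂ hpq hr X₂ hM₂ hc₂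
  obtain ⟨F₁, _, _, _, e₁, lam₁, hm₁⟩ := hXM p q r t₁ hpq hr X₁ P₁ y₁ hSD₁
  obtain ⟨F₂, _, _, _, e₂, lam₂, hm₂⟩ := hXM p q r t₂ hpq hr X₂ P₂ y₂ hSD₂
  have hF₁ := hLD p q hpq F₁ lam₁ hm₁.2.2.2.2.1 hm₁.2.2.2.2.2.1 hm₁.2.2.2.2.2.2
  have hF₂ := hLD p q hpq F₂ lam₂ hm₂.2.2.2.2.1 hm₂.2.2.2.2.2.1 hm₂.2.2.2.2.2.2
  obtain ⟨θ, k, hθ, hk⟩ := hMF q F₁ F₂ lam₁ lam₂ (hF₁.trans hF₂.symm) hm₁.2.2.2.2.1
    hm₁.2.2.2.2.2.1 hm₂.2.2.2.2.1 hm₂.2.2.2.2.2.1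
  obtain ⟨Y₀, hY₀⟩ := hSC p q r t₁ t₂ hpq hr X₁ X₂ P₁ y₁ P₂ y₂ hSD₁ hSD₂ F₁ F₂ e₁ lam₁ e₂ lam₂
    hm₁ hm₂ θ k hθ hk
  exact hMS p q r t₁ t₂ hpq hr X₁ X₂ hM₁ hc₁ hM₂ hc₂ Y₀ hY₀

theorem ex (hEF : EF.{u}) (hEF2 : EF2.{u}) (hHEIS : HEIS.{u}) (hEAB : EAB.{u}) (hENA : ENA.{u})
    (hSDP : SDP.{u}) : EX.{u} := by
  intro p q r _ _ hpq hr
  by_cases hodd : orderOf (p : ZMod q) % 2 = 1
  · obtain ⟨P₀, _, _, α, hP, hc⟩ := hEAB hEF p q hpq
    obtain ⟨G, iG, iF, hM, hcG⟩ := hSDP p q r hpq hr P₀ α hP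
    refine ⟨G, iG, iF, hM, ?_⟩
    rw [hcG, hc]; unfold aZero; rw [if_pos hodd]
  · have hev : orderOf (p : ZMod q) % 2 = 0 := by omega
    obtain ⟨P₀, _, _, α, hP, hc⟩ := hENA hEF hEF2 hHEIS p q hpq hev
    obtain ⟨G, iG, iF, hM, hcG⟩ := hSDP p q r hpq hr P₀ α hP
    refine ⟨G, iG, iF, hM, ?_⟩
    rw [hcG, hc]; unfold aZero; rw [if_neg hodd]

theorem boundT (hFM : FM.{u}) (hLD : LD) (hEA : EVENALG.{u}) (hET : EVENT.{u}) (hWIN : WIN)
    (hZB : ZB.{u}) : BOUNDT.{u} := by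
  intro p q _ _ hpq T _ _ σ hH
  have hp : p.Prime := Fact.out
  have hq : q.Prime := Fact.out
  obtain ⟨F, _, _, _, e, lam, hm⟩ := hFM p q hpq T σ hH
  have hm' := hm
  obtain ⟨hadd, hsurj, hker, hfixc, hab1, hlam, hl1, hlq, hirr⟩ := hm
  have hF := hLD p q hpq F lam hl1 hlq hirr
  have he1 : e 1 = 0 := by
    have h := hadd 1 1
    rw [mul_one] at h
    exact left_eq_add.mp h
  let E : T →* Multiplicative F :=
    { toFun := fun t => Multiplicative.ofAdd (e t)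
      map_one' := by simp [he1]
      map_mul' := fun s t => by simp [hadd s t] }
  have hE : ∀ t, E t = Multiplicative.ofAdd (e t) := fun t => rfl
  have hEs : Function.Surjective E := by
    intro x
    obtain ⟨t, ht⟩ := hsurj (Multiplicative.toAdd x)
    exact ⟨t, by rw [hE, ht]; rfl⟩
  have hEk : ∀ t, t ∈ E.ker ↔ e t = 0 := by
    intro t
    rw [MonoidHom.mem_ker, hE]
    exact ofAdd_eq_one
  have hcardT : Nat.card T = Nat.card E.ker * Nat.card F := by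
    have h1 := Subgroup.card_eq_card_quotient_mul_card_subgroup E.ker
    have h2 : Nat.card (T ⧸ E.ker) = Nat.card F :=
      Nat.card_congr ((QuotientGroup.quotientKerEquivOfSurjective E hEs).toEquiv.trans
        Multiplicative.toAdd)
    rw [h1, h2, mul_comm]
  have haz : orderOf (p : ZMod q) ≤ aZero p q := by unfold aZero; split_ifs <;> omega
  by_cases hab : ∀ x y : T, x * y = y * x
  · have hk : E.ker = ⊥ := by
      rw [eq_bot_iff]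
      intro t ht
      exact Subgroup.mem_bot.mpr (hab1 hab t ((hker t).mp ((hEk t).mp ht)))
    rw [hcardT, hk, Subgroup.card_bot, one_mul, hF]
    exact Nat.pow_le_pow_right hp.pos haz
  · obtain ⟨hcomm, -, -, -, hfix⟩ :=
      Cfsg.Agent.Lib.Helper4.SchA.sep_basic p hH.1 σ q hq hpq.symm hH.2.1 hH.2.2.1 hH.2.2.2 hab
    have hk : E.ker = Subgroup.center T := by
      ext t
      rw [hEk]
      exact ⟨fun ht => hfixc t ((hker t).mp ht), fun ht => (hker t).mpr ((hfix t).mpr ht)⟩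
    have hzb := hZB hWIN p q hpq T σ hH hab F e lam (orderOf (p : ZMod q)) hm' hF
    have heven : orderOf (p : ZMod q) % 2 = 0 := by
      rcases hET hEA p q hpq T σ hH hab F e lam hm' with h | ⟨n, hn⟩
      · exfalso
        have ho : orderOf lam = q := orderOf_eq_prime hlq hl1
        have h2 : q ∣ 2 := by
          rw [← ho]; exact orderOf_dvd_of_pow_eq_one (by rw [pow_two]; exact h)
        have hq2 : q = 2 := (Nat.prime_dvd_prime_iff_eq hq Nat.prime_two).mp h2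
        have ha1 : orderOf (p : ZMod q) = 1 := by
          have hodd : Odd p := hp.odd_of_ne_two (by rw [← hq2]; exact hpq)
          have aux : ∀ q' : ℕ, q' = 2 → (p : ZMod q') = 1 := by
            intro q' h'; subst h'; exact ZMod.natCast_eq_one_iff_odd.mpr hodd
          have h1 : (p : ZMod q) = 1 := aux q hq2
          rw [h1, orderOf_one]
        have hc1 : Nat.card (Subgroup.center T) ≤ 1 := by
          rw [ha1] at hzb; simpa using hzb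
        haveI : Subsingleton (Subgroup.center T) := Finite.card_le_one_iff_subsingleton.mp hc1
        apply hab
        intro x y
        have h3 : (⟨x * y * x⁻¹ * y⁻¹, hcomm x y⟩ : Subgroup.center T) = 1 :=
          Subsingleton.elim _ _
        have h4 : x * y * x⁻¹ * y⁻¹ = 1 := congrArg Subtype.val h3
        calc x * y = x * y * x⁻¹ * y⁻¹ * (y * x) := by group
          _ = y * x := by rw [h4, one_mul]
      · rw [hF] at hn
        have hdvd : n ∣ p ^ orderOf (p : ZMod q) := ⟨n, hn⟩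
        obtain ⟨j, -, hj⟩ := (Nat.dvd_prime_pow hp).mp hdvd
        rw [hj, ← pow_add] at hn
        have := Nat.pow_right_injective hp.two_le hn
        omega
    rw [hcardT, hk, hF]
    calc Nat.card (Subgroup.center T) * p ^ orderOf (p : ZMod q)
        ≤ p ^ (orderOf (p : ZMod q) / 2) * p ^ orderOf (p : ZMod q) :=
          Nat.mul_le_mul_right _ hzb
      _ = p ^ (orderOf (p : ZMod q) / 2 + orderOf (p : ZMod q)) := (pow_add _ _ _).symm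
      _ ≤ p ^ aZero p q := Nat.pow_le_pow_right hp.pos (by unfold aZero; split_ifs <;> omega)

theorem top (hEX : EX.{u}) (hAM : AMALG.{u}) (hB : BOUND.{u})
    (p q r : ℕ) [Fact p.Prime] [Fact q.Prime] (hpq : p ≠ q) (hr : 1 ≤ r) (a a₀ : ℕ)
    (ha : a = orderOf (p : ZMod q)) (ha₀ : a₀ = if a % 2 = 1 then a else 3 * a / 2) :
    ∃ (G₀ : Type u) (_ : Group G₀) (_ : Finite G₀),
      (¬ Cfsg.HasNormalPComplement p G₀ ∧ ∀ K : Subgroup G₀, K ≠ ⊤ → Cfsg.HasNormalPComplement p ↥K) ∧ Nat.card G₀ = p ^ a₀ * q ^ r ∧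
      ∀ (X : Type u) [Group X] [Finite X], (¬ Cfsg.HasNormalPComplement p X ∧ ∀ K : Subgroup X, K ≠ ⊤ → Cfsg.HasNormalPComplement p ↥K) →
        (∃ t : ℕ, Nat.card X = p ^ t * q ^ r) → ∃ φ : G₀ →* X, Function.Surjective φ ∧ φ.ker ≤ Subgroup.center G₀ := by
  have ha0 : a₀ = aZero p q := by rw [ha₀, ha]; rfl
  obtain ⟨G₀, iG, iF, hM, hc⟩ := hEX p q r hpq hr
  refine ⟨G₀, iG, iF, hM, by rw [ha0]; exact hc, ?_⟩
  intro X _ _ hX ⟨t, ht⟩
  obtain ⟨Y, iY, iYF, hYM, ⟨t', ht'⟩, π₁, π₂, hs₁, hs₂, hk₁, hk₂⟩ :=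
    hAM p q r (aZero p q) t hpq hr G₀ X hM hc hX ht
  have hle := hB p q r t' hpq hr Y hYM ht'
  have hcard : Nat.card Y ≤ Nat.card G₀ := by
    rw [ht', hc]
    exact Nat.mul_le_mul_right _ (Nat.pow_le_pow_right (Fact.out : p.Prime).pos hle)
  have hbij : Function.Bijective π₁ := hs₁.bijective_of_nat_card_le hcard
  let ψ : Y ≃* G₀ := MulEquiv.ofBijective π₁ hbij
  refine ⟨π₂.comp ψ.symm.toMonoidHom, hs₂.comp ψ.symm.surjective, ?_⟩
  intro g hg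
  have h1 : ψ.symm g ∈ π₂.ker := hg
  have h2 := hk₂ h1
  rw [Subgroup.mem_center_iff] at h2 ⊢
  intro x
  have h3 := congrArg ψ (h2 (ψ.symm x))
  simpa using h3

theorem assembly (hSTR : STR.{u}) (hHYP : HYP.{u}) (hFMB : FMB.{u}) (hFMA : FMA.{u})
    (hFMP : FMP.{u}) (hLD : LD) (hWIN : WIN) (hEA : EVENALG.{u}) (hET : EVENT.{u}) (hZB : ZB.{u})
    (hXMP : XMP.{u}) (hMF : MATCHF) (hSC : SUBDC.{u}) (hMS : MINSUB.{u}) (hEF : EF.{u})
    (hEF2 : EF2.{u}) (hEAB : EAB.{u}) (hHEIS : HEIS.{u}) (hENA : ENA.{u}) (hSDP : SDP.{u})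
    (p q r : ℕ) [Fact p.Prime] [Fact q.Prime] (hpq : p ≠ q) (hr : 1 ≤ r) (a a₀ : ℕ)
    (ha : a = orderOf (p : ZMod q)) (ha₀ : a₀ = if a % 2 = 1 then a else 3 * a / 2) :
    ∃ (G₀ : Type u) (_ : Group G₀) (_ : Finite G₀),
      (¬ Cfsg.HasNormalPComplement p G₀ ∧ ∀ K : Subgroup G₀, K ≠ ⊤ → Cfsg.HasNormalPComplement p ↥K) ∧ Nat.card G₀ = p ^ a₀ * q ^ r ∧
      ∀ (X : Type u) [Group X] [Finite X], (¬ Cfsg.HasNormalPComplement p X ∧ ∀ K : Subgroup X, K ≠ ⊤ → Cfsg.HasNormalPComplement p ↥K) →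
        (∃ t : ℕ, Nat.card X = p ^ t * q ^ r) → ∃ φ : G₀ →* X, Function.Surjective φ ∧ φ.ker ≤ Subgroup.center G₀ := by
  have hFM : FM.{u} := hFMP hFMB hFMA
  have hXM : XM.{u} := hXMP hHYP hFM
  have hBT : BOUNDT.{u} := boundT hFM hLD hEA hET hWIN hZB
  exact top (ex hEF hEF2 hHEIS hEAB hENA hSDP) (amalg hSTR hXM hLD hMF hSC hMS)
    (bound hSTR hHYP hBT) p q r hpq hr a a₀ ha ha₀

end Cfsg.Agent.Lib.Helper4.UniAsm
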