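import Mathlib
import Cfsg.Agent.Lib.Helper4.UniStmt

/-!
Piece SUBDC of S4395: the subdirect product of two Schmidt data with matched field models.
-/

set_option autoImplicit false
universe u

namespace Cfsg.Agent.Lib.Helper4.UniSUBDC

open Cfsg.Agent.Lib.Helper4.UniStmt

theorem e_one {X : Type u} [Group X] (P : Subgroup X) {F : Type} [Field F] (e : X → F)
    (h : ∀ u ∈ P, ∀ v ∈ P, e (u * v) = e u + e v) : e 1 = 0 := by
  have h1 := h 1 P.one_mem 1 P.one_mem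
  rw [mul_one] at h1
  exact left_eq_add.mp h1

theorem e_inv {X : Type u} [Group X] (P : Subgroup X) {F : Type} [Field F] (e : X → F)
    (h : ∀ u ∈ P, ∀ v ∈ P, e (u * v) = e u + e v) {u : X} (hu : u ∈ P) : e u⁻¹ = - e u := by
  have h1 := h u hu u⁻¹ (P.inv_mem hu)
  rw [mul_inv_cancel, e_one P e h] at h1
  exact eq_neg_of_add_eq_zero_right h1.symm

theorem e_pow {X : Type u} [Group X] (P : Subgroup X) [P.Normal] (y : X) {F : Type} [Field F]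
    (e : X → F) (lam : F) (h : ∀ u ∈ P, e (y * u * y⁻¹) = lam * e u) (k : ℕ) :
    ∀ u ∈ P, y ^ k * u * (y ^ k)⁻¹ ∈ P ∧ e (y ^ k * u * (y ^ k)⁻¹) = lam ^ k * e u := by
  induction k with
  | zero => intro u hu; simp [hu]
  | succ k ih =>
    intro u hu
    obtain ⟨h1, h2⟩ := ih u hu
    have h3 : y ^ (k + 1) * u * (y ^ (k + 1))⁻¹ = y * (y ^ k * u * (y ^ k)⁻¹) * y⁻¹ := by
      rw [pow_succ']; group
    rw [h3]
    refine ⟨‹P.Normal›.conj_mem _ h1 y, ?_⟩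
    rw [h _ h1, h2, pow_succ', mul_assoc]

theorem inter_triv {X : Type u} [Group X] [Finite X] {p q t r : ℕ} (hp : p.Prime) (hq : q.Prime)
    (hpq : p ≠ q) (P : Subgroup X) (y : X) (hP : Nat.card P = p ^ t) (hy : orderOf y = q ^ r)
    {x : X} (hx : x ∈ P) (hxy : x ∈ Subgroup.zpowers y) : x = 1 := by
  have h1 : orderOf x ∣ p ^ t := by
    rw [← hP]
    have := orderOf_dvd_natCard (⟨x, hx⟩ : P)
    rwa [Subgroup.orderOf_mk] at this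
  have h2 : orderOf x ∣ q ^ r := by
    rw [← hy]; exact orderOf_dvd_of_mem_zpowers hxy
  have hc : Nat.Coprime (p ^ t) (q ^ r) :=
    Nat.Coprime.pow _ _ ((Nat.coprime_primes hp hq).mpr hpq)
  exact orderOf_eq_one_iff.mp (Nat.eq_one_of_dvd_coprimes hc h1 h2)

theorem main : SUBDC.{u} := by
  intro p q r t₁ t₂ _ _ hpq hr X₁ X₂ _ _ _ _ P₁ y₁ P₂ y₂ hSD₁ hSD₂ F₁ F₂ _ _ _ _ e₁ lam₁ e₂ lam₂
    hm₁ hm₂ θ k hθ hk
  have hp : p.Prime := Fact.out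
  have hq : q.Prime := Fact.out
  obtain ⟨hN₁, hcP₁, hoy₁, hgen₁, -, -, -⟩ := hSD₁
  obtain ⟨hN₂, hcP₂, hoy₂, hgen₂, -, -, -⟩ := hSD₂
  haveI := hN₁
  haveI := hN₂
  obtain ⟨hadd₁, hsur₁, hcen₁, hlam₁, -, -, -⟩ := hm₁
  obtain ⟨hadd₂, hsur₂, hcen₂, hlam₂, -, -, -⟩ := hm₂
  have he1₁ := e_one P₁ e₁ hadd₁
  have he1₂ := e_one P₂ e₂ hadd₂
  -- the subgroup W
  let W : Subgroup (X₁ × X₂) :=
    { carrier := {x | x.1 ∈ P₁ ∧ x.2 ∈ P₂ ∧ θ (e₁ x.1) = e₂ x.2}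
      mul_mem' := by
        rintro a b ⟨ha1, ha2, ha3⟩ ⟨hb1, hb2, hb3⟩
        refine ⟨P₁.mul_mem ha1 hb1, P₂.mul_mem ha2 hb2, ?_⟩
        show θ (e₁ (a.1 * b.1)) = e₂ (a.2 * b.2)
        rw [hadd₁ _ ha1 _ hb1, hadd₂ _ ha2 _ hb2, map_add, ha3, hb3]
      one_mem' := by
        refine ⟨P₁.one_mem, P₂.one_mem, ?_⟩
        show θ (e₁ 1) = e₂ 1
        rw [he1₁, he1₂, map_zero]
      inv_mem' := by
        rintro a ⟨ha1, ha2, ha3⟩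
        refine ⟨P₁.inv_mem ha1, P₂.inv_mem ha2, ?_⟩
        show θ (e₁ a.1⁻¹) = e₂ a.2⁻¹
        rw [e_inv P₁ e₁ hadd₁ ha1, e_inv P₂ e₂ hadd₂ ha2, map_neg, ha3] }
  have hW : ∀ x : X₁ × X₂, x ∈ W ↔ x.1 ∈ P₁ ∧ x.2 ∈ P₂ ∧ θ (e₁ x.1) = e₂ x.2 := fun x => Iff.rfl
  let g : X₁ × X₂ := (y₁, y₂ ^ k)
  have hgN : g ∈ Subgroup.normalizer (W : Set (X₁ × X₂)) := by
    apply Subgroup.mem_normalizer_fintype
    rintro w hw
    obtain ⟨hw1, hw2, hw3⟩ := (hW w).mp hw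
    obtain ⟨h2a, h2b⟩ := e_pow P₂ y₂ e₂ lam₂ hlam₂ k w.2 hw2
    refine (hW _).mpr ⟨?_, ?_, ?_⟩
    · exact hN₁.conj_mem _ hw1 y₁
    · exact h2a
    · show θ (e₁ (y₁ * w.1 * y₁⁻¹)) = e₂ (y₂ ^ k * w.2 * (y₂ ^ k)⁻¹)
      rw [hlam₁ _ hw1, h2b, map_mul, hθ, hw3]
  have hconj : ∀ (i : ℤ) (w : X₁ × X₂), w ∈ W → g ^ i * w * (g ^ i)⁻¹ ∈ W := by
    intro i w hw
    have h1 : g ^ i ∈ Subgroup.normalizer (W : Set (X₁ × X₂)) := zpow_mem hgN i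
    exact (Subgroup.mem_normalizer_iff.mp h1 w).mp hw
  let Y₀ : Subgroup (X₁ × X₂) :=
    { carrier := {x | ∃ i : ℤ, x * g ^ i ∈ W}
      mul_mem' := by
        rintro a b ⟨i, hi⟩ ⟨j, hj⟩
        refine ⟨j + i, ?_⟩
        have h1 := hconj (-i) _ hj
        have h2 : a * b * g ^ (j + i) = (a * g ^ i) * (g ^ (-i) * (b * g ^ j) * (g ^ (-i))⁻¹) := by
          rw [zpow_add, zpow_neg]; group
        rw [h2]
        exact W.mul_mem hi h1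
      one_mem' := ⟨0, by simp [W.one_mem]⟩
      inv_mem' := by
        rintro a ⟨i, hi⟩
        refine ⟨-i, ?_⟩
        have h1 := hconj i _ (W.inv_mem hi)
        have h2 : a⁻¹ * g ^ (-i) = g ^ i * (a * g ^ i)⁻¹ * (g ^ i)⁻¹ := by
          rw [zpow_neg]; group
        rw [h2]
        exact h1 }
  have hY : ∀ x : X₁ × X₂, x ∈ Y₀ ↔ ∃ i : ℤ, x * g ^ i ∈ W := fun x => Iff.rfl
  have hgi : ∀ i : ℤ, g ^ i = (y₁ ^ i, (y₂ ^ k) ^ i) := by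
    intro i
    ext <;> simp [g]
  have hqr : 1 < q ^ r := Nat.one_lt_pow (by omega) hq.one_lt
  have hkc : Nat.Coprime k (q ^ r) := Nat.Coprime.pow_right r hk
  refine ⟨Y₀, ?_, ?_, ?_, ?_⟩
  · -- onto X₁
    intro x₁
    obtain ⟨u, hu, j, rfl⟩ := hgen₁ x₁
    obtain ⟨u₂, hu₂, he⟩ := hsur₂ (θ (e₁ u))
    refine ⟨u₂ * (y₂ ^ k) ^ j, (hY _).mpr ⟨-(j : ℤ), ?_⟩⟩
    rw [hgi]
    refine (hW _).mpr ⟨?_, ?_, ?_⟩
    · simpa using hu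
    · simpa using hu₂
    · simpa using he.symm
  · -- onto X₂
    intro x₂
    obtain ⟨u, hu, j, rfl⟩ := hgen₂ x₂
    obtain ⟨u₁, hu₁, he⟩ := hsur₁ (θ.symm (e₂ u))
    obtain ⟨m, -, hm⟩ := Nat.exists_mul_mod_eq_one_of_coprime hkc hqr
    have hyk' : (y₂ ^ k) ^ (m * j) = y₂ ^ j := by
      rw [← pow_mul, ← mul_assoc, pow_mul, ← pow_mod_orderOf y₂ (k * m), hoy₂, hm, pow_one]
    obtain ⟨N, hyk⟩ : ∃ N : ℕ, (y₂ ^ k) ^ N = y₂ ^ j := ⟨m * j, hyk'⟩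
    refine ⟨u₁ * y₁ ^ N, (hY _).mpr ⟨-(N : ℤ), ?_⟩⟩
    rw [hgi]
    refine (hW _).mpr ⟨?_, ?_, ?_⟩
    · simpa using hu₁
    · rw [← hyk]; simpa using hu
    · rw [← hyk]; simp [he]
  · -- kernel of the first projection
    intro x₂ hx
    obtain ⟨i, hi⟩ := (hY _).mp hx
    rw [hgi] at hi
    obtain ⟨h1, h2, h3⟩ := (hW _).mp hi
    simp only [Prod.mk_mul_mk, one_mul] at h1 h2 h3
    have hy1 : y₁ ^ i = 1 :=
      inter_triv hp hq hpq P₁ y₁ hcP₁ hoy₁ h1 (Subgroup.zpow_mem_zpowers y₁ i)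
    have hdvd : ((q ^ r : ℕ) : ℤ) ∣ i := by
      rw [← hoy₁]; exact orderOf_dvd_iff_zpow_eq_one.mpr hy1
    have hy2 : (y₂ ^ k) ^ i = 1 := by
      have : y₂ ^ i = 1 := by
        rw [← hoy₂] at hdvd; exact orderOf_dvd_iff_zpow_eq_one.mp hdvd
      rw [← zpow_natCast, ← zpow_mul, mul_comm, zpow_mul, this, one_zpow]
    rw [hy2, mul_one] at h2 h3
    rw [hy1, he1₁, map_zero] at h3
    refine ⟨hcen₂ x₂ h2 h3.symm, t₂, ?_⟩
    have h4 := pow_card_eq_one' (G := P₂) (x := ⟨x₂, h2⟩)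
    rw [hcP₂] at h4
    exact congrArg Subtype.val h4
  · -- kernel of the second projection
    intro x₁ hx
    obtain ⟨i, hi⟩ := (hY _).mp hx
    rw [hgi] at hi
    obtain ⟨h1, h2, h3⟩ := (hW _).mp hi
    simp only [Prod.mk_mul_mk, one_mul] at h1 h2 h3
    have hy2 : (y₂ ^ k) ^ i = 1 := by
      refine inter_triv hp hq hpq P₂ y₂ hcP₂ hoy₂ h2 ?_
      rw [← zpow_natCast, ← zpow_mul]
      exact Subgroup.zpow_mem_zpowers y₂ _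
    have hdvd : ((q ^ r : ℕ) : ℤ) ∣ i := by
      have h5 : ((q ^ r : ℕ) : ℤ) ∣ (k : ℤ) * i := by
        rw [← hoy₂]; apply orderOf_dvd_iff_zpow_eq_one.mpr
        rw [zpow_mul, zpow_natCast]; exact hy2
      have h6 : IsCoprime ((q ^ r : ℕ) : ℤ) (k : ℤ) := by
        rw [Nat.isCoprime_iff_coprime]; exact hkc.symm
      exact h6.dvd_of_dvd_mul_left h5
    have hy1 : y₁ ^ i = 1 := by
      rw [← hoy₁] at hdvd; exact orderOf_dvd_iff_zpow_eq_one.mp hdvd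
    rw [hy1, mul_one] at h1 h3
    rw [hy2, he1₂] at h3
    have h7 : e₁ x₁ = 0 := by
      have := congrArg θ.symm h3
      simpa using this
    exact hcen₁ x₁ h1 h7

end Cfsg.Agent.Lib.Helper4.UniSUBDC
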