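import Mathlib
import Cfsg.Agent.S0238
import Cfsg.Agent.Lib.Helper4.Invol

set_option autoImplicit false

namespace Cfsg.Agent.Lib.Helper4.BF

variable {G : Type*} [Group G]

/-- The extended centralizer of `x`: elements conjugating `x` to `x` or `x⁻¹`. -/
def cstar (x : G) : Subgroup G where
  carrier := {g | g * x * g⁻¹ = x ∨ g * x * g⁻¹ = x⁻¹}
  one_mem' := by left; simp
  mul_mem' := by
    intro a b ha hb
    have e : a * b * x * (a * b)⁻¹ = a * (b * x * b⁻¹) * a⁻¹ := by group
    rcases hb with hb | hb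
    · rcases ha with ha | ha
      · left; show a * b * x * (a * b)⁻¹ = x; rw [e, hb, ha]
      · right; show a * b * x * (a * b)⁻¹ = x⁻¹; rw [e, hb, ha]
    · have e2 : a * x⁻¹ * a⁻¹ = (a * x * a⁻¹)⁻¹ := by group
      rcases ha with ha | ha
      · right; show a * b * x * (a * b)⁻¹ = x⁻¹; rw [e, hb, e2, ha]
      · left; show a * b * x * (a * b)⁻¹ = x; rw [e, hb, e2, ha, inv_inv]
  inv_mem' := by
    intro a ha
    rcases ha with ha | ha
    · left
      show a⁻¹ * x * a⁻¹⁻¹ = x
      calc a⁻¹ * x * a⁻¹⁻¹ = a⁻¹ * (a * x * a⁻¹) * a := by rw [ha, inv_inv]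
        _ = x := by group
    · right
      show a⁻¹ * x * a⁻¹⁻¹ = x⁻¹
      calc a⁻¹ * x * a⁻¹⁻¹ = a⁻¹ * (a * x * a⁻¹)⁻¹ * a := by rw [ha, inv_inv, inv_inv]
        _ = x⁻¹ := by group

theorem mem_cstar {x g : G} : g ∈ cstar x ↔ g * x * g⁻¹ = x ∨ g * x * g⁻¹ = x⁻¹ := Iff.rfl

theorem card_cstar [Finite G] (x : G) (hreal : IsConj x x⁻¹) (hx : x ≠ x⁻¹) :
    Nat.card (cstar x) = 2 * Nat.card (Subgroup.centralizer ({x} : Set G)) := by
  classical
  have := Fintype.ofFinite G
  have h1 : Nat.card (cstar x) = Nat.card {g : G // g * x * g⁻¹ = x ∨ g * x * g⁻¹ = x⁻¹} := rfl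
  rw [h1, Nat.card_eq_fintype_card, Fintype.card_subtype, Finset.filter_or,
    Finset.card_union_of_disjoint]
  · rw [← Fintype.card_subtype, ← Fintype.card_subtype, ← Nat.card_eq_fintype_card,
      ← Nat.card_eq_fintype_card, Invol.card_conj_fiber x x (IsConj.refl x),
      Invol.card_conj_fiber x x⁻¹ hreal]
    ring
  · rw [Finset.disjoint_filter]
    intro g _ h1 h2
    exact hx (h1.symm.trans h2)

/-- Number of ordered pairs of involutions with product `x`. -/
noncomputable def cnt (x : G) : ℕ :=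
  Nat.card {p : G × G // orderOf p.1 = 2 ∧ orderOf p.2 = 2 ∧ p.1 * p.2 = x}

/-- Number of involutions. -/
noncomputable def ninv (G : Type*) [Group G] : ℕ := Nat.card {t : G // orderOf t = 2}

theorem cnt_one [Finite G] : cnt (1 : G) = ninv G := by
  unfold cnt ninv
  apply Nat.card_congr
  refine ⟨fun p => ⟨p.1.1, p.2.1⟩, fun t => ⟨(t.1, t.1), t.2, t.2, ?_⟩, ?_, ?_⟩
  · show t.1 * t.1 = 1
    have h := pow_orderOf_eq_one t.1
    rw [t.2, sq] at h
    exact h
  · rintro ⟨⟨u, v⟩, hu, hv, huv⟩
    simp only at hu hv huv ⊢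
    have h1 : v = u⁻¹ := eq_inv_of_mul_eq_one_right huv
    have h2 : u⁻¹ = u := inv_eq_self_of_orderOf_eq_two hu
    ext
    · rfl
    · simp [h1, h2]
  · rintro ⟨t, ht⟩
    rfl

theorem sum_cnt [Fintype G] : ∑ x : G, cnt x = ninv G ^ 2 := by
  classical
  have e := Equiv.sigmaFiberEquiv
    (fun q : {t : G // orderOf t = 2} × {t : G // orderOf t = 2} => q.1.1 * q.2.1)
  have h1 : ∀ x : G, Nat.card {q : {t : G // orderOf t = 2} × {t : G // orderOf t = 2} //
      q.1.1 * q.2.1 = x} = cnt x := by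
    intro x
    unfold cnt
    apply Nat.card_congr
    refine ⟨fun q => ⟨(q.1.1.1, q.1.2.1), q.1.1.2, q.1.2.2, q.2⟩,
      fun p => ⟨(⟨p.1.1, p.2.1⟩, ⟨p.1.2, p.2.2.1⟩), p.2.2.2⟩, ?_, ?_⟩
    · intro q; rfl
    · intro p; rfl
  have h2 := Nat.card_congr e
  rw [Nat.card_sigma, Nat.card_prod] at h2
  simp_rw [h1] at h2
  rw [h2, sq]
  rfl

theorem cnt_le [Finite G] (x : G) : cnt x ≤ Nat.card (Subgroup.centralizer ({x} : Set G)) :=
  (Cfsg.Agent.S0238.result x).1

theorem cnt_eq_zero [Finite G] (x : G) (h : ¬ IsConj x x⁻¹) : cnt x = 0 :=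
  (Cfsg.Agent.S0238.result x).2.1 h

theorem cnt_add_two_le [Finite G] (x : G) (h : orderOf x = 2) :
    cnt x + 2 ≤ Nat.card (Subgroup.centralizer ({x} : Set G)) :=
  (Cfsg.Agent.S0238.result x).2.2 h

/-- The Brauer-Fowler counting inequality. -/
theorem bf_ineq [Finite G] (k : ℕ) (hk : ∀ H : Subgroup G, H ≠ ⊤ → k ≤ H.index)
    (h2 : ∀ H : Subgroup G, H.index ≠ 2)
    (hcent : ∀ x : G, orderOf x = 2 → Subgroup.centralizer ({x} : Set G) ≠ ⊤) :
    2 * k * ninv G ^ 2 + 2 * k * ninv G + Nat.card G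
      ≤ Nat.card G ^ 2 + ninv G * Nat.card G := by
  classical
  have := Fintype.ofFinite G
  have hpt : ∀ x : G, (2 * k * cnt x : ℤ) ≤
      (if x = 1 then (1 : ℤ) else 0) * (2 * k * ninv G)
      + (if orderOf x = 2 then (1 : ℤ) else 0) * (2 * Nat.card G - 4 * k)
      + (1 - (if x = 1 then (1 : ℤ) else 0) - (if orderOf x = 2 then (1 : ℤ) else 0))
        * Nat.card G := by
    intro x
    by_cases hx1 : x = 1
    · subst hx1
      have h0 : ¬ orderOf (1 : G) = 2 := by rw [orderOf_one]; norm_num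
      rw [if_pos rfl, if_neg h0, cnt_one]
      simp
    · by_cases hx2 : orderOf x = 2
      · rw [if_neg hx1, if_pos hx2]
        have h1 := cnt_add_two_le x hx2
        have h3 := hk _ (hcent x hx2)
        have h4 := Subgroup.card_mul_index (Subgroup.centralizer ({x} : Set G))
        have h5 : k * Nat.card (Subgroup.centralizer ({x} : Set G)) ≤ Nat.card G := by
          calc k * Nat.card (Subgroup.centralizer ({x} : Set G))
              ≤ (Subgroup.centralizer ({x} : Set G)).index
                * Nat.card (Subgroup.centralizer ({x} : Set G)) := Nat.mul_le_mul_right _ h3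
            _ = Nat.card G := by rw [mul_comm]; exact h4
        have h6 : 2 * k * cnt x + 4 * k ≤ 2 * Nat.card G := by
          have h7 : k * (cnt x + 2) ≤ k * Nat.card (Subgroup.centralizer ({x} : Set G)) :=
            Nat.mul_le_mul_left _ h1
          nlinarith
        have h8 : (2 * k * cnt x : ℤ) + 4 * k ≤ 2 * Nat.card G := by exact_mod_cast h6
        linarith
      · rw [if_neg hx1, if_neg hx2]
        by_cases hreal : IsConj x x⁻¹
        · have hxx : x ≠ x⁻¹ := by
            intro h
            apply hx2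
            apply orderOf_eq_prime _ hx1
            rw [sq]; nth_rewrite 2 [h]; exact mul_inv_cancel x
          have hcs := card_cstar x hreal hxx
          have hCpos : 0 < Nat.card (Subgroup.centralizer ({x} : Set G)) := Nat.card_pos
          have hne : cstar x ≠ ⊤ := by
            intro htop
            apply h2 (Subgroup.centralizer ({x} : Set G))
            have h4 := Subgroup.card_mul_index (Subgroup.centralizer ({x} : Set G))
            rw [htop, Subgroup.card_top] at hcs
            rw [hcs, mul_comm] at h4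
            exact Nat.eq_of_mul_eq_mul_right hCpos h4
          have h3 := hk _ hne
          have h4 := Subgroup.card_mul_index (cstar x)
          have h5 := cnt_le x
          have h6 : k * (2 * Nat.card (Subgroup.centralizer ({x} : Set G))) ≤ Nat.card G := by
            calc k * (2 * Nat.card (Subgroup.centralizer ({x} : Set G)))
                = k * Nat.card (cstar x) := by rw [hcs]
              _ ≤ (cstar x).index * Nat.card (cstar x) := Nat.mul_le_mul_right _ h3
              _ = Nat.card G := by rw [mul_comm]; exact h4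
          have h7 : 2 * k * cnt x ≤ Nat.card G := by
            have h8 : k * cnt x ≤ k * Nat.card (Subgroup.centralizer ({x} : Set G)) :=
              Nat.mul_le_mul_left _ h5
            nlinarith
          have h9 : (2 * k * cnt x : ℤ) ≤ Nat.card G := by exact_mod_cast h7
          linarith
        · rw [cnt_eq_zero x hreal]
          simp
  have hsum := Finset.sum_le_sum (fun x (_ : x ∈ (Finset.univ : Finset G)) => hpt x)
  have hA : ∑ x : G, (if x = 1 then (1 : ℤ) else 0) = 1 := by simp
  have hI : ∑ x : G, (if orderOf x = 2 then (1 : ℤ) else 0) = ninv G := by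
    rw [Finset.sum_boole]
    unfold ninv
    rw [Nat.card_eq_fintype_card, Fintype.card_subtype]
  have hS : ∑ x : G, (cnt x : ℤ) = (ninv G : ℤ) ^ 2 := by
    exact_mod_cast sum_cnt (G := G)
  have hL : ∑ x : G, (2 * k * cnt x : ℤ) = 2 * k * (ninv G : ℤ) ^ 2 := by
    rw [← Finset.mul_sum, hS]
  have hR : ∑ x : G, ((if x = 1 then (1 : ℤ) else 0) * (2 * k * ninv G)
      + (if orderOf x = 2 then (1 : ℤ) else 0) * (2 * Nat.card G - 4 * k)
      + (1 - (if x = 1 then (1 : ℤ) else 0) - (if orderOf x = 2 then (1 : ℤ) else 0))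
        * Nat.card G)
      = 1 * (2 * k * ninv G) + (ninv G : ℤ) * (2 * Nat.card G - 4 * k)
        + ((Nat.card G : ℤ) - 1 - ninv G) * Nat.card G := by
    rw [Finset.sum_add_distrib, Finset.sum_add_distrib, ← Finset.sum_mul, ← Finset.sum_mul,
      ← Finset.sum_mul, Finset.sum_sub_distrib, Finset.sum_sub_distrib, hA, hI]
    simp [Nat.card_eq_fintype_card]
  rw [hL, hR] at hsum
  have hgoal : (2 * k * (ninv G : ℤ) ^ 2 + 2 * k * ninv G + Nat.card G : ℤ)
      ≤ (Nat.card G : ℤ) ^ 2 + ninv G * Nat.card G := by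
    nlinarith
  exact_mod_cast hgoal

end Cfsg.Agent.Lib.Helper4.BF
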