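import Mathlib
import Cfsg.Prelude.Def_Characters
import Cfsg.Prelude.Def_Blocks
import Cfsg.Agent.Lib.Helper15.DetChar
import Cfsg.Agent.Lib.Helper15.CosetAvg
import Cfsg.Agent.Lib.Helper78.Gallagher
import Cfsg.Agent.Lib.Helper81.CliffCorr
import Cfsg.Agent.Lib.Helper81.Glaub
import Cfsg.Agent.Lib.Helper4.GlauDet
import Cfsg.Agent.S0867
import Cfsg.Agent.S0887

/-!
Counting irreducible characters of degree prime to the index of a normal subgroup `K` of
coprime order and index (`G = K H`, `K ∩ H = 1`):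

* `coprime_degree_iff` : `χ(1)` is prime to `|G : K|` iff `χ|_K` is irreducible;
* `exists_twist_of_ext`, `twist_injective` : Gallagher for extensions, linear case;
* `count_ext` : `#{χ ∈ Irr G : χ|_K irreducible} = #{θ ∈ Irr K : G-invariant} * #Lin(G/K)`;
* `card_lin` : `#Lin(G/K) = #Lin(H)`;
* `count_coprime` : the number of `χ ∈ Irr G` of degree prime to `|H|` is
  `#{θ ∈ Irr K : G-invariant} * #Lin(H)`.
-/

set_option autoImplicit false

namespace Cfsg.Agent.Lib.Helper4.CopCount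

open Cfsg Cfsg.Agent.Lib.CT Cfsg.Agent.Lib.CT.Wedderburn Cfsg.Agent.Lib.Helper15.CliffTools
  Cfsg.Agent.Lib.Helper15.CosetAvg
open Cfsg.Agent.Lib.Helper81.Mult Cfsg.Agent.Lib.Helper81.Cliff Cfsg.Agent.Lib.Helper81.CliffCorr
  Cfsg.Agent.Lib.Helper81.Expand Cfsg.Agent.Lib.Helper81.Irr

universe u

/-- Two irreducible characters of `G` with the same irreducible restriction to the normal
subgroup `N` differ by a linear character trivial on `N`. -/
theorem exists_twist_of_ext {G : Type u} [Group G] [Fintype G] (N : Subgroup G) [hNn : N.Normal]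
    [Fintype N] (η χ' : G → ℂ) (hη : IsIrrCharacter G η) (hχ' : IsIrrCharacter G χ')
    (hηN : IsIrrCharacter N (fun n : N => η n)) (hres : ∀ n : N, χ' n = η n) :
    ∃ l : G →* ℂˣ, (∀ n ∈ N, l n = 1) ∧ χ' = fun g => ((l g : ℂˣ) : ℂ) * η g := by
  classical
  have hone : Cfsg.IsIrrCharacter N (fun _ : N => (1 : ℂ)) := Ops.isIrrCharacter_one
  have hprod : Cfsg.IsIrrCharacter N (fun n : N => (fun _ : N => (1 : ℂ)) n * η n) := by
    simpa using hηN
  obtain ⟨-, -, hG3⟩ := Cfsg.Agent.Lib.Helper78.Gallagher.gallagher_core N hNn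
    (fun _ => 1) hone (fun _ _ => rfl) η hη hprod
  have h1 : Cfsg.classInner (Cfsg.indFun N (fun n : N => (fun _ : N => (1 : ℂ)) n * η n)) χ'
      ≠ 0 := by
    rw [FrobRec.frobenius_reciprocity N _ χ' (char_isClassFunction (isCharacter_of_irr hχ'))]
    simp only [one_mul]
    have h3 : (fun n : N => χ' n) = (fun n : N => η n) := funext hres
    rw [h3, NormOne.inner_self_eq_one_of_irr hηN]
    exact one_ne_zero
  obtain ⟨β, hβ, hβχ⟩ := hG3 ⟨χ', hχ'⟩ h1
  simp only at hβχ
  have hβN : ∀ n : N, (β : G → ℂ) n = (β : G → ℂ) 1 := by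
    by_contra hnt
    apply hβ
    rw [FrobRec.frobenius_reciprocity N _ _ (char_isClassFunction (isCharacter_of_irr β.2))]
    unfold Cfsg.classInner
    simp only [one_mul]
    rw [← map_sum, sum_subgroup_irr_of_not_trivial N β.2 hnt]
    simp
  have hη1 : η 1 ≠ 0 := irr_apply_one_ne_zero hη
  have hβ1 : (β : G → ℂ) 1 = 1 := by
    have h2 := congrFun hβχ 1
    have h3 := hres 1
    rw [Subgroup.coe_one] at h3
    rw [Pi.mul_apply, h3] at h2
    have h5 : (β : G → ℂ) 1 * η 1 = 1 * η 1 := by rw [h2, one_mul]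
    exact mul_right_cancel₀ hη1 h5
  obtain ⟨l, hl⟩ := (LinChar.isCharacter_linear_iff (β : G → ℂ)).mp
    ⟨isCharacter_of_irr β.2, hβ1⟩
  refine ⟨l, ?_, ?_⟩
  · intro n hn
    have h2 := hβN ⟨n, hn⟩
    rw [hβ1, hl] at h2
    exact Units.ext h2
  · rw [← hβχ, hl]
    rfl

/-- Gallagher, injectivity for linear twists: if `η` restricts irreducibly to `N` and
`l η = l' η` for linear characters `l, l'` trivial on `N`, then `l = l'`. -/
theorem twist_injective {G : Type u} [Group G] [Fintype G] (N : Subgroup G) [Fintype N]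
    (η : G → ℂ) (hη : IsIrrCharacter G η) (hηN : IsIrrCharacter N (fun n : N => η n))
    (l l' : G →* ℂˣ) (hl : ∀ n ∈ N, l n = 1) (hl' : ∀ n ∈ N, l' n = 1)
    (h : ∀ g, ((l g : ℂˣ) : ℂ) * η g = ((l' g : ℂˣ) : ℂ) * η g) : l = l' := by
  classical
  haveI := finite_irr (G := ↥N)
  haveI : Fintype (IrrCharacter ↥N) := Fintype.ofFinite _
  let β : G →* ℂˣ := l⁻¹ * l'
  have hβ : ∀ x, ((β x : ℂˣ) : ℂ) = 1 := by
    refine gallagher_lin N ⟨η, hη⟩ ⟨fun n : N => η n, hηN⟩ rfl (fun g => ((β g : ℂˣ) : ℂ))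
      (LinChar.isCharacter_of_hom β) (by simp) ?_ ?_
    · intro m hm
      show (((l⁻¹ * l') m : ℂˣ) : ℂ) = 1
      rw [MonoidHom.mul_apply, MonoidHom.inv_apply, hl m hm, hl' m hm]
      simp
    · intro x
      show (((l⁻¹ * l') x : ℂˣ) : ℂ) * η x = η x
      rw [MonoidHom.mul_apply, MonoidHom.inv_apply, Units.val_mul, mul_assoc, ← h x,
        ← mul_assoc, ← Units.val_mul, inv_mul_cancel, Units.val_one, one_mul]
  apply MonoidHom.ext
  intro x
  have h1 : β x = 1 := Units.ext (hβ x)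
  have h2 : (l x)⁻¹ * l' x = 1 := h1
  exact (inv_mul_eq_one.1 h2)

/-- For coprime order and index of the normal subgroup `K`: the degree of `χ ∈ Irr G` is prime
to the index iff `χ` restricts irreducibly to `K`. -/
theorem coprime_degree_iff {G : Type u} [Group G] [Finite G] (K : Subgroup G) [K.Normal]
    (hcop : (Nat.card K).Coprime K.index) (χ : IrrCharacter G) :
    (charDegree χ.1).Coprime K.index ↔ IsIrrCharacter K (res K χ.1) := by
  classical
  haveI : Fintype G := Fintype.ofFinite G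
  haveI : Fintype K := Fintype.ofFinite K
  haveI := finite_irr (G := ↥K)
  haveI : Fintype (IrrCharacter ↥K) := Fintype.ofFinite _
  have hΨ : IsCharacter K (res K χ.1) := isCharacter_res K (irr_isCharacter χ)
  have hdeg : charDegree (res K χ.1) = charDegree χ.1 := rfl
  constructor
  · intro h
    have hne : charDegree (res K χ.1) ≠ 0 := by
      rw [hdeg]
      exact (deg_pos χ).ne'
    obtain ⟨θ, hθ⟩ := exists_constituent hΨ hne
    have hcon : classInner (fun k : K => χ.1 k) θ.1 ≠ 0 := by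
      have h1 := Cfsg.Agent.Lib.Helper81.Glaub.classInner_eq_mult hΨ θ
      have h2 : classInner (fun k : K => χ.1 k) θ.1 = (mult (res K χ.1) θ : ℂ) := h1
      rw [h2]
      exact_mod_cast hθ
    obtain ⟨h1, h2⟩ := Cfsg.Agent.S0887.result K χ.1 χ.2 θ.1 θ.2 hcon (charDegree χ.1)
      (charDegree θ.1) (deg_cast χ) (deg_cast θ)
    have h3 : charDegree χ.1 / charDegree θ.1 = 1 := by
      have h4 : charDegree χ.1 / charDegree θ.1 ∣ charDegree χ.1 := Nat.div_dvd_of_dvd h1
      have h5 := Nat.dvd_gcd h4 h2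
      rw [h] at h5
      exact Nat.dvd_one.1 h5
    have h5 : charDegree χ.1 = charDegree θ.1 := by
      have h6 := Nat.div_mul_cancel h1
      rw [h3, one_mul] at h6
      exact h6.symm
    have hexp := charDegree_expand hΨ
    have hsplit := Finset.add_sum_erase Finset.univ
      (fun ψ : IrrCharacter K => mult (res K χ.1) ψ * charDegree ψ.1) (Finset.mem_univ θ)
    rw [← hexp, hdeg, h5] at hsplit
    have hsplit' : mult (res K χ.1) θ * charDegree θ.1 +
        ∑ x ∈ Finset.univ.erase θ, mult (res K χ.1) x * charDegree x.1 = charDegree θ.1 :=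
      hsplit
    have hdpos : 0 < charDegree θ.1 := deg_pos θ
    have hmpos : 1 ≤ mult (res K χ.1) θ := Nat.one_le_iff_ne_zero.2 hθ
    have hle : charDegree θ.1 ≤ mult (res K χ.1) θ * charDegree θ.1 :=
      Nat.le_mul_of_pos_left _ hmpos
    have hrest : ∑ x ∈ Finset.univ.erase θ, mult (res K χ.1) x * charDegree x.1 = 0 := by
      omega
    have hm1 : mult (res K χ.1) θ = 1 := by
      have h7 : mult (res K χ.1) θ * charDegree θ.1 = 1 * charDegree θ.1 := by
        omega
      exact Nat.eq_of_mul_eq_mul_right hdpos h7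
    have key : ∀ ψ : IrrCharacter K, ψ ≠ θ → mult (res K χ.1) ψ = 0 := by
      intro ψ hψ
      have h8 := (Finset.sum_eq_zero_iff.1 hrest) ψ (Finset.mem_erase.2 ⟨hψ, Finset.mem_univ ψ⟩)
      rcases Nat.mul_eq_zero.1 h8 with h9 | h9
      · exact h9
      · exact absurd h9 (deg_pos ψ).ne'
    have heq : res K χ.1 = θ.1 := by
      funext k
      rw [char_expand hΨ k, Finset.sum_eq_single θ]
      · rw [hm1, Nat.cast_one, one_mul]
      · intro ψ _ hψ
        rw [key ψ hψ, Nat.cast_zero, zero_mul]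
      · intro hθ'
        exact absurd (Finset.mem_univ θ) hθ'
    rw [heq]
    exact θ.2
  · intro h
    have h1 : charDegree χ.1 ∣ Nat.card K :=
      Cfsg.Agent.Lib.Helper80.Integrality.charDegree_dvd_card (⟨res K χ.1, h⟩ : IrrCharacter K)
    exact hcop.coprime_dvd_left h1

/-- The number of irreducible characters of `G` restricting irreducibly to the normal subgroup
`K` of coprime order and index. -/
theorem count_ext {G : Type u} [Group G] [Finite G] (K : Subgroup G) [hK : K.Normal]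
    (hcop : (Nat.card K).Coprime K.index) :
    Nat.card {χ : IrrCharacter G // IsIrrCharacter K (res K χ.1)} =
      Nat.card {θ : IrrCharacter K // ∀ (g : G) (k : K),
        θ.1 ⟨g * k * g⁻¹, hK.conj_mem (k : G) k.2 g⟩ = θ.1 k} *
        Nat.card {l : G →* ℂˣ // ∀ k ∈ K, l k = 1} := by
  classical
  haveI : Fintype G := Fintype.ofFinite G
  haveI : Fintype K := Fintype.ofFinite K
  rw [← Nat.card_prod]
  have hext : ∀ θ : {θ : IrrCharacter K // ∀ (g : G) (k : K),
      θ.1 ⟨g * k * g⁻¹, hK.conj_mem (k : G) k.2 g⟩ = θ.1 k},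
      ∃ χ : G → ℂ, IsIrrCharacter G χ ∧ ∀ k : K, χ k = θ.1.1 k := by
    intro θ
    have hd : θ.1.1 1 = (charDegree θ.1.1 : ℂ) := deg_cast θ.1
    have hc : Nat.Coprime K.index (detOrder θ.1.1 * charDegree θ.1.1) := by
      apply Nat.Coprime.mul_right
      · exact (hcop.coprime_dvd_left
          (Cfsg.Agent.Lib.Helper4.GlauDet.detOrder_dvd_card θ.1.2)).symm
      · exact (hcop.coprime_dvd_left
          (Cfsg.Agent.Lib.Helper80.Integrality.charDegree_dvd_card θ.1)).symm
    obtain ⟨χ, ⟨h1, h2, -⟩, -⟩ := Cfsg.Agent.S0867.result K θ.1.1 θ.1.2 θ.2 _ hd hc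
    exact ⟨χ, h1, h2⟩
  choose E hE1 hE2 using hext
  symm
  let Φ : {θ : IrrCharacter K // ∀ (g : G) (k : K),
      θ.1 ⟨g * k * g⁻¹, hK.conj_mem (k : G) k.2 g⟩ = θ.1 k} ×
      {l : G →* ℂˣ // ∀ k ∈ K, l k = 1} →
      {χ : IrrCharacter G // IsIrrCharacter K (res K χ.1)} :=
    fun p => ⟨⟨fun g => ((p.2.1 g : ℂˣ) : ℂ) * E p.1 g,
      LinChar.isIrrCharacter_linear_mul (LinChar.isCharacter_of_hom p.2.1) (by simp)
        (hE1 p.1)⟩, by
      have h1 : res K (fun g => ((p.2.1 g : ℂˣ) : ℂ) * E p.1 g) = p.1.1.1 := by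
        funext k
        show ((p.2.1 (k : G) : ℂˣ) : ℂ) * E p.1 k = p.1.1.1 k
        rw [p.2.2 k k.2, Units.val_one, one_mul, hE2]
      show IsIrrCharacter K (res K (fun g => ((p.2.1 g : ℂˣ) : ℂ) * E p.1 g))
      rw [h1]
      exact p.1.1.2⟩
  apply Nat.card_congr
  apply Equiv.ofBijective Φ
  constructor
  · rintro ⟨θ, l⟩ ⟨θ', l'⟩ h
    have h0 : ∀ g, ((l.1 g : ℂˣ) : ℂ) * E θ g = ((l'.1 g : ℂˣ) : ℂ) * E θ' g := fun g =>
      congrFun (congrArg (fun x : {χ : IrrCharacter G // IsIrrCharacter K (res K χ.1)} =>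
        x.1.1) h) g
    have hθ : θ = θ' := by
      apply Subtype.ext
      apply Subtype.ext
      funext k
      have h1 := h0 k
      rw [l.2 k k.2, l'.2 k k.2, Units.val_one, one_mul, one_mul, hE2, hE2] at h1
      exact h1
    subst hθ
    have hEN : IsIrrCharacter K (fun k : K => E θ k) := by
      have h1 : (fun k : K => E θ k) = θ.1.1 := funext (hE2 θ)
      rw [h1]
      exact θ.1.2
    have hl : l = l' := Subtype.ext (twist_injective K (E θ) (hE1 θ) hEN l.1 l'.1 l.2 l'.2 h0)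
    rw [hl]
  · rintro ⟨χ, hχ⟩
    have hinv : ∀ (g : G) (k : K),
        res K χ.1 ⟨g * k * g⁻¹, hK.conj_mem (k : G) k.2 g⟩ = res K χ.1 k :=
      fun g k => irr_conj χ k g
    have hEN : IsIrrCharacter K (fun k : K => E ⟨⟨res K χ.1, hχ⟩, hinv⟩ k) := by
      have h1 : (fun k : K => E ⟨⟨res K χ.1, hχ⟩, hinv⟩ k) = res K χ.1 := funext (hE2 _)
      rw [h1]
      exact hχ
    obtain ⟨l, hl1, hl2⟩ := exists_twist_of_ext K (E ⟨⟨res K χ.1, hχ⟩, hinv⟩) χ.1 (hE1 _) χ.2
      hEN (fun k => (hE2 ⟨⟨res K χ.1, hχ⟩, hinv⟩ k).symm)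
    refine ⟨(⟨⟨res K χ.1, hχ⟩, hinv⟩, ⟨l, hl1⟩), ?_⟩
    apply Subtype.ext
    apply Subtype.ext
    exact hl2.symm

/-- A complement `H` of the normal subgroup `K` is isomorphic to the quotient. -/
noncomputable def quotEquiv {G : Type u} [Group G] (K H : Subgroup G) [K.Normal]
    (hdec : ∀ g : G, ∃ k ∈ K, ∃ h ∈ H, g = k * h) (hdisj : K ⊓ H = ⊥) : H ≃* G ⧸ K :=
  MulEquiv.ofBijective ((QuotientGroup.mk' K).comp H.subtype) (by
    constructor
    · rw [injective_iff_map_eq_one]
      intro h hh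
      have h1 : (h : G) ∈ K := (QuotientGroup.eq_one_iff _).1 hh
      have h2 : (h : G) ∈ K ⊓ H := ⟨h1, h.2⟩
      rw [hdisj, Subgroup.mem_bot] at h2
      exact Subtype.ext h2
    · intro x
      obtain ⟨g, rfl⟩ := QuotientGroup.mk_surjective x
      obtain ⟨k, hk, h, hh, rfl⟩ := hdec g
      refine ⟨⟨h, hh⟩, ?_⟩
      show ((h : G) : G ⧸ K) = ((k * h : G) : G ⧸ K)
      rw [QuotientGroup.mk_mul, (QuotientGroup.eq_one_iff k).2 hk, one_mul])

theorem quotEquiv_apply {G : Type u} [Group G] (K H : Subgroup G) [K.Normal]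
    (hdec : ∀ g : G, ∃ k ∈ K, ∃ h ∈ H, g = k * h) (hdisj : K ⊓ H = ⊥) (h : H) :
    quotEquiv K H hdec hdisj h = ((h : G) : G ⧸ K) := rfl

theorem index_eq_card {G : Type u} [Group G] (K H : Subgroup G) [K.Normal]
    (hdec : ∀ g : G, ∃ k ∈ K, ∃ h ∈ H, g = k * h) (hdisj : K ⊓ H = ⊥) :
    K.index = Nat.card H := by
  rw [Subgroup.index_eq_card]
  exact (Nat.card_congr (quotEquiv K H hdec hdisj).toEquiv).symm

/-- Linear characters of `G` trivial on `K` correspond to linear characters of a complement. -/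
theorem card_lin {G : Type u} [Group G] (K H : Subgroup G) [K.Normal]
    (hdec : ∀ g : G, ∃ k ∈ K, ∃ h ∈ H, g = k * h) (hdisj : K ⊓ H = ⊥) :
    Nat.card {l : G →* ℂˣ // ∀ k ∈ K, l k = 1} = Nat.card (H →* ℂˣ) := by
  classical
  let e : H ≃* G ⧸ K := quotEquiv K H hdec hdisj
  let F : {l : G →* ℂˣ // ∀ k ∈ K, l k = 1} → (H →* ℂˣ) := fun l => l.1.comp H.subtype
  apply Nat.card_congr
  apply Equiv.ofBijective F
  constructor
  · intro l l' hll'
    apply Subtype.ext
    apply MonoidHom.ext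
    intro g
    obtain ⟨k, hk, h, hh, rfl⟩ := hdec g
    rw [map_mul, map_mul, l.2 k hk, l'.2 k hk]
    have h1 := congrArg (fun f : H →* ℂˣ => f ⟨h, hh⟩) hll'
    have h2 : l.1 h = l'.1 h := h1
    rw [h2]
  · intro μ
    refine ⟨⟨(μ.comp e.symm.toMonoidHom).comp (QuotientGroup.mk' K), ?_⟩, ?_⟩
    · intro k hk
      show μ (e.symm (QuotientGroup.mk' K k)) = 1
      have h1 : QuotientGroup.mk' K k = 1 := (QuotientGroup.eq_one_iff k).2 hk
      rw [h1, map_one, map_one]
    · apply MonoidHom.ext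
      intro h
      show μ (e.symm (QuotientGroup.mk' K (h : G))) = μ h
      have h1 : QuotientGroup.mk' K (h : G) = e h := rfl
      rw [h1, MulEquiv.symm_apply_apply]

/-- `G = K H` with `K` normal, `|K|` and `|H|` coprime: the number of irreducible characters of
`G` of degree prime to `|H|` is the number of `G`-invariant irreducible characters of `K` times
the number of linear characters of `H`. -/
theorem count_coprime {G : Type u} [Group G] [Finite G] (K H : Subgroup G) [hK : K.Normal]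
    (hdec : ∀ g : G, ∃ k ∈ K, ∃ h ∈ H, g = k * h)
    (hcop : (Nat.card K).Coprime (Nat.card H)) :
    Nat.card {χ : IrrCharacter G // (charDegree χ.1).Coprime (Nat.card H)} =
      Nat.card {θ : IrrCharacter K // ∀ (g : G) (k : K),
        θ.1 ⟨g * k * g⁻¹, hK.conj_mem (k : G) k.2 g⟩ = θ.1 k} * Nat.card (H →* ℂˣ) := by
  have hdisj : K ⊓ H = ⊥ := (Subgroup.disjoint_of_coprime_natCard hcop).eq_bot
  have hidx : K.index = Nat.card H := index_eq_card K H hdec hdisj
  have hcop' : (Nat.card K).Coprime K.index := by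
    rw [hidx]
    exact hcop
  rw [← card_lin K H hdec hdisj, ← count_ext K hcop']
  apply Nat.card_congr
  apply Equiv.subtypeEquivRight
  intro χ
  rw [← hidx]
  exact coprime_degree_iff K hcop' χ

end Cfsg.Agent.Lib.Helper4.CopCount
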