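import Mathlib
import Cfsg.Agent.Lib.Helper45.EPStmt
import Cfsg.Agent.Lib.Helper4.GenCount

/-!
# S5988 piece FIXCONGE

Fixed point congruence for an isometry `x`, `x ^ r = 1`, on the elliptic `m`-spaces; generic
version `fixcong_pred` for any predicate on subspaces preserved by `x`.
-/

set_option autoImplicit false

universe u

open scoped Matrix

namespace Cfsg.Agent.Lib.Helper4.EPFIXCONGE

open Cfsg.Agent.Lib.Helper45.EPStmt
open Cfsg.Agent.Lib.Helper94.OPStmt (P NP FxP NDegP StabP)
open Cfsg.Agent.Lib.Helper4.GenCount (glEquiv glEquiv_coe glEquiv_apply)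

/-- fixed point congruence for a predicate on subspaces preserved by `x`, `x ^ r = 1` -/
theorem fixcong_pred {F : Type u} [Field F] [Fintype F] {ι : Type} [Fintype ι] [DecidableEq ι]
    (Pr : Submodule F (ι → F) → Prop) (r : ℕ) [Fact r.Prime]
    (x : Matrix.GeneralLinearGroup ι F)
    (hmap : ∀ W, Pr W → Pr (W.map (Matrix.toLin' (x : Matrix ι ι F))))
    (hxr : x ^ r = 1) :
    Nat.card {W : Submodule F (ι → F) // Pr W} ≡
      Nat.card {W : Submodule F (ι → F) //
        Pr W ∧ W.map (Matrix.toLin' (x : Matrix ι ι F)) ≤ W} [MOD r] := by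
  classical
  have hfin : Finite (Submodule F (ι → F)) := inferInstance
  let f : Function.End {W : Submodule F (ι → F) // Pr W} := fun s =>
    ⟨s.1.map (Matrix.toLin' (x : Matrix ι ι F)), hmap s.1 s.2⟩
  have hf1 : ∀ s, (f s).1 = s.1.map (Matrix.toLin' (x : Matrix ι ι F)) := fun s => rfl
  have hpow : ∀ (k : ℕ) (s : {W : Submodule F (ι → F) // Pr W}),
      ((f ^ k) s).1 = s.1.map
        (Matrix.toLin' ((x ^ k : Matrix.GeneralLinearGroup ι F) : Matrix ι ι F)) := by
    intro k
    induction k with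
    | zero =>
      intro s
      rw [pow_zero, pow_zero, Units.val_one, Matrix.toLin'_one, Submodule.map_id]
      rfl
    | succ k ih =>
      intro s
      rw [pow_succ', pow_succ', Units.val_mul, Matrix.toLin'_mul, Submodule.map_comp, ← ih s]
      rfl
  have hfr : f ^ r ^ 1 = 1 := by
    rw [pow_one]
    funext s
    apply Subtype.ext
    rw [hpow, hxr, Units.val_one, Matrix.toLin'_one, Submodule.map_id]
    rfl
  have hmod := Equiv.Perm.card_fixedPoints_modEq (f := f) (p := r) (n := 1) hfr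
  have hfix_iff : ∀ s : {W : Submodule F (ι → F) // Pr W},
      f s = s ↔ s.1.map (Matrix.toLin' (x : Matrix ι ι F)) ≤ s.1 := by
    intro s
    constructor
    · intro h
      have h1 : (f s).1 = s.1 := congrArg Subtype.val h
      rw [hf1] at h1
      exact le_of_eq h1
    · intro h
      apply Subtype.ext
      rw [hf1]
      apply Submodule.eq_of_le_of_finrank_eq h
      rw [← glEquiv_coe]
      exact LinearEquiv.finrank_map_eq (glEquiv x) s.1
  have hequiv : Nat.card (Function.fixedPoints f) =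
      Nat.card {W : Submodule F (ι → F) //
        Pr W ∧ W.map (Matrix.toLin' (x : Matrix ι ι F)) ≤ W} := by
    apply Nat.card_congr
    exact
      { toFun := fun s => ⟨s.1.1, s.1.2, (hfix_iff s.1).1 s.2⟩
        invFun := fun W => ⟨⟨W.1, W.2.1⟩, (hfix_iff ⟨W.1, W.2.1⟩).2 W.2.2⟩
        left_inv := fun s => rfl
        right_inv := fun W => rfl }
  rw [← hequiv, Nat.card_eq_fintype_card, Nat.card_eq_fintype_card]
  exact hmod

/-- a linear automorphism preserving `Q` maps elliptic `m`-spaces to elliptic `m`-spaces -/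
theorem memE_map {F : Type u} [Field F] (d m : ℕ)
    (e : (P d → F) ≃ₗ[F] (P d → F))
    (he : ∀ v, Cfsg.quadFormPlus d F (e v) = Cfsg.quadFormPlus d F v)
    (W : Submodule F (P d → F)) (hW : MemE d F m W) :
    MemE d F m (W.map (e : (P d → F) →ₗ[F] (P d → F))) := by
  have hpolar : ∀ a b, QuadraticMap.polar (Cfsg.quadFormPlus d F) (e a) (e b) =
      QuadraticMap.polar (Cfsg.quadFormPlus d F) a b := by
    intro a b
    simp only [QuadraticMap.polar, ← map_add, he]
  have hfr : Module.finrank F ↥(W.map (e : (P d → F) →ₗ[F] (P d → F))) = Module.finrank F ↥W :=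
    LinearEquiv.finrank_map_eq e W
  refine ⟨hfr.trans hW.1, ?_, ?_⟩
  · rintro x ⟨w, hw, rfl⟩ hx
    have hw0 : w ≠ 0 := by
      rintro rfl
      apply hx
      simp
    obtain ⟨⟨a, ha, ha'⟩, ⟨b, hb, hb'⟩⟩ := hW.2.1 w hw hw0
    refine ⟨⟨e a, ⟨a, ha, rfl⟩, ?_⟩, ⟨e b, ⟨b, hb, rfl⟩, ?_⟩⟩
    · show QuadraticMap.polar (Cfsg.quadFormPlus d F) (e a) (e w) ≠ 0
      rw [hpolar]
      exact ha'
    · show QuadraticMap.polar (Cfsg.quadFormPlus d F) (e w) (e b) ≠ 0
      rw [hpolar]
      exact hb'
  · rintro ⟨U', hU'W, hts, hdim⟩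
    apply hW.2.2
    refine ⟨U'.map (e.symm : (P d → F) →ₗ[F] (P d → F)), ?_, ?_, ?_⟩
    · rintro _ ⟨u', hu', rfl⟩
      obtain ⟨w, hw, hwe⟩ := hU'W hu'
      have : e.symm u' = w := by
        rw [← hwe]
        exact e.symm_apply_apply w
      show e.symm u' ∈ W
      rw [this]
      exact hw
    · rintro _ ⟨u', hu', rfl⟩
      show Cfsg.quadFormPlus d F (e.symm u') = 0
      have h1 := he (e.symm u')
      rw [e.apply_symm_apply] at h1
      rw [← h1]
      exact hts u' hu'
    · have h2 : Module.finrank F ↥(U'.map (e.symm : (P d → F) →ₗ[F] (P d → F))) =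
          Module.finrank F ↥U' := LinearEquiv.finrank_map_eq e.symm U'
      rw [h2, hdim, hfr]

theorem main : FixCongE.{u} := by
  intro F _ _ d m r _ x hx hxr
  have hiso : ∀ v, Cfsg.quadFormPlus d F (glEquiv x v) = Cfsg.quadFormPlus d F v := by
    intro v
    rw [glEquiv_apply]
    exact hx v v
  exact fixcong_pred (MemE d F m) r x
    (fun W hW => memE_map d m (glEquiv x) hiso W hW) hxr

end Cfsg.Agent.Lib.Helper4.EPFIXCONGE
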