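import Mathlib
import Cfsg.Agent.Lib.Helper45.EPStmt
import Cfsg.Agent.Lib.Helper44.TPStmt
import Cfsg.Agent.Lib.Helper44.NegPairs
import Cfsg.Agent.Lib.Helper44.OTyp1
import Cfsg.Agent.Lib.Helper44.WittND2
import Cfsg.Agent.Lib.Helper44.TwoMinusG
import Cfsg.Agent.Lib.Helper8.HypHYPSUB
import Cfsg.Agent.Lib.Helper91.HypHYPFIB
import Cfsg.Agent.Lib.Helper94.EllStmt
import Cfsg.Agent.Lib.Helper4.EllACARD

/-!
# S5988 piece UCARDE (all `q`)

For a nondegenerate `U` with `m < dim U < c`, `r` does not divide the number of elliptic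
`m`-spaces inside `U`.  Char-free: Witt (`Helper44.WittND2.exists_O_map`) makes the isometry group
of `U` transitive on them, and an isometry of `U` of order `r` extends (by the identity on the
perp) to an isometry of the whole space, where `DimObsA` applies.
-/

set_option autoImplicit false

universe u

open scoped Matrix

namespace Cfsg.Agent.Lib.Helper4.EPUCARDE

open Module QuadraticMap
open Cfsg.Agent.Lib.Helper44.QSpace Cfsg.Agent.Lib.Helper44.QClass Cfsg.Agent.Lib.Helper44.OTyp1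
open Cfsg.Agent.Lib.Helper44.WittND Cfsg.Agent.Lib.Helper44.WittND2
open Cfsg.Agent.Lib.Helper44.NegPairs (plusQ)
open Cfsg.Agent.Lib.Helper94.EllStmt (AEll)
open Cfsg.Agent.Lib.Helper37.HypStmt (cc)
open Cfsg.Agent.Lib.Helper94.OPStmt (P NP FxP NDegP StabP)
open Cfsg.Agent.Lib.Helper45.EPStmt

section gen

variable {F : Type u} [Field F] [Fintype F] {V : Type u} [AddCommGroup V] [Module F V]
  [FiniteDimensional F V]

/-- the number of singular vectors of an elliptic subspace (all characteristics) -/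
theorem card_of_aell (Q : QuadraticForm F V) {k : ℕ} {W : Submodule F V}
    (hW : AEll Q (2 * (k + 1)) W) :
    Nat.card {v : W // res Q W v = 0} * Fintype.card F
      = Fintype.card F ^ (k + 1)
        + Fintype.card F ^ 2 * ((Fintype.card F ^ k - 1) * Fintype.card F ^ k) := by
  have hS : Sep (res Q W) := sep_res_of_ndsub hW.2.1
  rcases exists_hyp_even k W (res Q W) hW.1 hS with ⟨e, f, hH⟩ | ⟨e, f, x, y, ζ, hH, hE, horth⟩
  · exfalso
    apply hW.2.2
    have S : Cfsg.Agent.Lib.Helper91.HypHYPFIB.Sys (polarBilin (res Q W)) e f :=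
      ⟨hH.2.2.2.1, hH.2.2.2.2, hH.2.2.1, fun a b => by
        have h3 : polarBilin (res Q W) (f a) (e b) = polar (res Q W) (e b) (f a) :=
          polar_comm _ _ _
        rw [h3, hH.2.2.1 b a]
        simp [eq_comm]⟩
    refine ⟨(Submodule.span F (Set.range e)).map W.subtype, Submodule.map_subtype_le _ _, ?_, ?_⟩
    · intro t ht
      obtain ⟨t₀, ht₀, rfl⟩ := Submodule.mem_map.mp ht
      exact Cfsg.Agent.Lib.Helper44.TwoMinusG.ts_span (res Q W) e hH.1 hH.2.2.2.1 t₀ ht₀
    · rw [Submodule.finrank_map_subtype_eq,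
        Cfsg.Agent.Lib.Helper91.HypHYPFIB.finrank_span_e S, hW.1]
  · exact card_M (res Q W) hH hE horth hW.1

/-- transitivity of the isometry group on elliptic `m`-subspaces (all characteristics) -/
theorem atrans (Q : QuadraticForm F V) (hS : Sep Q) (m : ℕ) (hmev : Even m)
    (W W' : Submodule F V) (hW : AEll Q m W) (hW' : AEll Q m W') :
    ∃ g : V ≃ₗ[F] V, (∀ v, Q (g v) = Q v) ∧ W.map (g : V →ₗ[F] V) = W' := by
  obtain ⟨k, rfl⟩ : ∃ k, m = 2 * (k + 1) := by
    obtain ⟨j, hj⟩ := hmev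
    rcases Nat.eq_zero_or_pos j with h0 | hpos
    · exfalso
      subst h0
      apply hW.2.2
      refine ⟨⊥, bot_le, ?_, ?_⟩
      · intro t ht
        rw [(Submodule.mem_bot F).mp ht, map_zero]
      · rw [finrank_bot, hW.1, hj]
    · exact ⟨j - 1, by omega⟩
  have c1 := card_of_aell Q hW
  have c2 := card_of_aell Q hW'
  have hq0 : 0 < Fintype.card F := Fintype.card_pos
  have hc : Nat.card {v : W // res Q W v = 0} = Nat.card {v : W' // res Q W' v = 0} :=
    Nat.eq_of_mul_eq_mul_right hq0 (c1.trans c2.symm)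
  have hS1 : Sep (res Q W) := sep_res_of_ndsub hW.2.1
  have hS2 : Sep (res Q W') := sep_res_of_ndsub hW'.2.1
  obtain ⟨j, hj⟩ := exists_iso (res Q W) (res Q W') hS1 hS2 hW.1 hW'.1 hc
  have hjinj := Cfsg.Agent.Lib.Helper8.HypHYPSUB.isom_inj hS1 j hj
  have hdim : finrank F W = finrank F W' := by rw [hW.1, hW'.1]
  obtain ⟨e, he⟩ : ∃ e : W ≃ₗ[F] W', ∀ w, e w = j w :=
    ⟨LinearMap.linearEquivOfInjective j hjinj hdim, fun w => rfl⟩
  have hU : W ⊓ LinearMap.BilinForm.orthogonal (polarBilin Q) W = ⊥ := by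
    rw [eq_bot_iff]
    rintro x ⟨hx1, hx2⟩
    rw [Submodule.mem_bot]
    apply hW.2.1 x hx1
    intro y hy
    rw [polar_comm]
    exact hx2 y hy
  obtain ⟨g, hg, hmap⟩ := exists_O_map hS hU e (fun u => by rw [he]; exact hj u)
  exact ⟨g, hg, hmap⟩

/-- if no isometry has order `r`, then `r` does not divide the number of elliptic
`m`-subspaces -/
theorem acard_core (Q : QuadraticForm F V) (hS : Sep Q) (m : ℕ) (hm : Even m) (r : ℕ)
    [Fact r.Prime]
    (hCa : ∀ g : V ≃ₗ[F] V, (∀ v, Q (g v) = Q v) → g ^ r = 1 → g = 1)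
    (hex : ∃ W : Submodule F V, AEll Q m W) :
    ¬ r ∣ Nat.card {W : Submodule F V // AEll Q m W} := by
  intro hdvd
  classical
  have hVfin : Finite V := Module.finite_of_finite F
  have hGLfin : Finite (V ≃ₗ[F] V) :=
    Finite.of_injective (fun g : V ≃ₗ[F] V => (g : V → V)) DFunLike.coe_injective
  let G : Subgroup (V ≃ₗ[F] V) :=
    { carrier := {g | ∀ v, Q (g v) = Q v}
      mul_mem' := by
        intro a b ha hb v
        rw [LinearEquiv.mul_apply, ha, hb]
      one_mem' := by
        intro v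
        rfl
      inv_mem' := by
        intro a ha v
        have e : a (a⁻¹ v) = v := by
          rw [← LinearEquiv.mul_apply, mul_inv_cancel]
          rfl
        rw [← ha (a⁻¹ v), e] }
  have hGmem : ∀ g : G, ∀ v, Q ((g : V ≃ₗ[F] V) v) = Q v := fun g => g.2
  let act : MulAction G {W : Submodule F V // AEll Q m W} :=
    { smul := fun g s => ⟨s.1.map ((g : V ≃ₗ[F] V) : V →ₗ[F] V),
        Cfsg.Agent.Lib.Helper4.EllACARD.aell_map Q m (g : V ≃ₗ[F] V) (hGmem g) s.1 s.2⟩
      one_smul := by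
        intro s
        apply Subtype.ext
        show s.1.map (((1 : G) : V ≃ₗ[F] V) : V →ₗ[F] V) = s.1
        ext x
        constructor
        · rintro ⟨w, hw, rfl⟩
          exact hw
        · intro hx
          exact ⟨x, hx, rfl⟩
      mul_smul := by
        intro a b s
        apply Subtype.ext
        show s.1.map (((a * b : G) : V ≃ₗ[F] V) : V →ₗ[F] V) =
          (s.1.map ((b : V ≃ₗ[F] V) : V →ₗ[F] V)).map ((a : V ≃ₗ[F] V) : V →ₗ[F] V)
        ext x
        constructor
        · rintro ⟨w, hw, rfl⟩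
          exact ⟨(b : V ≃ₗ[F] V) w, ⟨w, hw, rfl⟩, rfl⟩
        · rintro ⟨_, ⟨w, hw, rfl⟩, rfl⟩
          exact ⟨w, hw, rfl⟩ }
  have hsmul : ∀ (g : G) (s : {W : Submodule F V // AEll Q m W}),
      (g • s).1 = s.1.map ((g : V ≃ₗ[F] V) : V →ₗ[F] V) := fun g s => rfl
  have htrans : MulAction.IsPretransitive G {W : Submodule F V // AEll Q m W} := by
    refine ⟨fun s s' => ?_⟩
    obtain ⟨g, hg, hgW⟩ := atrans Q hS m hm s.1 s'.1 s.2 s'.2
    refine ⟨⟨g, hg⟩, ?_⟩
    apply Subtype.ext
    rw [hsmul]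
    exact hgW
  obtain ⟨W₀, hW₀⟩ := hex
  have hidx : (MulAction.stabilizer G
      (⟨W₀, hW₀⟩ : {W : Submodule F V // AEll Q m W})).index =
      Nat.card {W : Submodule F V // AEll Q m W} :=
    MulAction.index_stabilizer_of_transitive G _
  have hrG : r ∣ Nat.card G := by
    rw [← hidx] at hdvd
    exact hdvd.trans (Subgroup.index_dvd_card _)
  obtain ⟨g, hg⟩ := exists_prime_orderOf_dvd_card' r hrG
  have hgr : ((g : V ≃ₗ[F] V)) ^ r = 1 := by
    have h0 := pow_orderOf_eq_one g
    rw [hg] at h0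
    have h1 := congrArg Subtype.val h0
    simpa using h1
  have hg1 := hCa (g : V ≃ₗ[F] V) (hGmem g) hgr
  have hg1' : g = 1 := Subtype.ext hg1
  rw [hg1', orderOf_one] at hg
  exact (Fact.out : r.Prime).one_lt.ne hg

end gen

section plus

variable {F : Type u} [Field F] {d : ℕ}

theorem rq_apply (U : Submodule F (P d → F)) (x : ↥U) :
    res (plusQ d F) U x = Cfsg.quadFormPlus d F (x : P d → F) := rfl

theorem polar_rq (U : Submodule F (P d → F)) (x y : ↥U) :
    QuadraticMap.polar (res (plusQ d F) U) x y =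
      QuadraticMap.polar (Cfsg.quadFormPlus d F) (x : P d → F) (y : P d → F) := rfl

/-- transfer of ellipticity between `↥U` and the ambient space -/
theorem aell_iff (U : Submodule F (P d → F)) (m : ℕ) (Ws : Submodule F ↥U) :
    AEll (res (plusQ d F) U) m Ws ↔ MemE d F m (Ws.map U.subtype) := by
  have hfr : Module.finrank F ↥(Ws.map U.subtype) = Module.finrank F ↥Ws :=
    Submodule.finrank_map_subtype_eq U Ws
  have hnd : (∀ x ∈ Ws, (∀ y ∈ Ws, QuadraticMap.polar (res (plusQ d F) U) x y = 0) → x = 0) ↔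
      Cfsg.Geo.IsNondegenerateOn (QuadraticMap.polar (Cfsg.quadFormPlus d F))
        (Ws.map U.subtype) := by
    constructor
    · intro h w hw hw0
      obtain ⟨w₀, hw₀, rfl⟩ := Submodule.mem_map.mp hw
      have hw₀0 : w₀ ≠ 0 := by
        rintro rfl
        exact hw0 (map_zero _)
      have hex : ∃ y ∈ Ws, QuadraticMap.polar (res (plusQ d F) U) w₀ y ≠ 0 := by
        by_contra hc
        push Not at hc
        exact hw₀0 (h w₀ hw₀ hc)
      obtain ⟨y, hy, hy0⟩ := hex
      rw [polar_rq] at hy0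
      refine ⟨⟨U.subtype y, Submodule.mem_map_of_mem hy, ?_⟩,
        ⟨U.subtype y, Submodule.mem_map_of_mem hy, ?_⟩⟩
      · rw [QuadraticMap.polar_comm]
        exact hy0
      · exact hy0
    · intro h x hx hxy
      by_contra hx0
      have hx0' : U.subtype x ≠ 0 := by
        intro h0
        exact hx0 (Subtype.ext h0)
      obtain ⟨-, z, hz, hz0⟩ := h (U.subtype x) (Submodule.mem_map_of_mem hx) hx0'
      obtain ⟨y, hy, rfl⟩ := Submodule.mem_map.mp hz
      exact hz0 (hxy y hy)
  have hpl : (∃ T : Submodule F ↥U, T ≤ Ws ∧ (∀ t ∈ T, res (plusQ d F) U t = 0) ∧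
      2 * Module.finrank F ↥T = Module.finrank F ↥Ws) ↔
      Cfsg.Geo.IsPlusTypeOn (Cfsg.quadFormPlus d F) (Ws.map U.subtype) := by
    constructor
    · rintro ⟨T, hT, hts, hdim⟩
      refine ⟨T.map U.subtype, Submodule.map_mono hT, ?_, ?_⟩
      · intro w hw
        obtain ⟨t, ht, rfl⟩ := Submodule.mem_map.mp hw
        exact hts t ht
      · rw [Submodule.finrank_map_subtype_eq, hfr, hdim]
    · rintro ⟨U', hU', hts, hdim⟩
      have hU'U : U' ≤ U := hU'.trans (Submodule.map_subtype_le U Ws)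
      refine ⟨U'.comap U.subtype, ?_, ?_, ?_⟩
      · intro t ht
        obtain ⟨w, hw, hwt⟩ := Submodule.mem_map.mp (hU' ht)
        have : w = t := Subtype.ext hwt
        rw [← this]
        exact hw
      · intro t ht
        exact hts (t : P d → F) ht
      · have h1 : Module.finrank F ↥((U'.comap U.subtype).map U.subtype) =
            Module.finrank F ↥(U'.comap U.subtype) :=
          Submodule.finrank_map_subtype_eq U _
        rw [Submodule.map_comap_subtype, inf_eq_right.mpr hU'U] at h1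
        rw [← h1, hdim, hfr]
  constructor
  · rintro ⟨h1, h2, h3⟩
    exact ⟨hfr.trans h1, hnd.mp h2, fun h => h3 (hpl.mpr h)⟩
  · rintro ⟨h1, h2, h3⟩
    exact ⟨hfr.symm.trans h1, hnd.mpr h2, fun h => h3 (hpl.mp h)⟩

end plus

/-- a nondegenerate `U` of dimension `< c` has no isometry of order `r` -/
theorem no_order_r (hDim : DimObsA.{u}) (hPerp : Cfsg.Agent.Lib.Helper44.TPStmt.Perp.{u})
    {F : Type u} [Field F] [Fintype F] (p : ℕ) [Fact p.Prime] [CharP F p] (d : ℕ) (r : ℕ)
    [Fact r.Prime] (hr2 : r ≠ 2) (hrp : r ≠ p) (U : Submodule F (P d → F)) (hU : NDegP d F U)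
    (hUc : Module.finrank F ↥U < cc (orderOf ((Fintype.card F : ℕ) : ZMod r)))
    (g : ↥U ≃ₗ[F] ↥U) (hg : ∀ v, res (plusQ d F) U (g v) = res (plusQ d F) U v)
    (hgr : g ^ r = 1) : g = 1 := by
  classical
  obtain ⟨Y, horth, -, hinf, hdim, -⟩ := hPerp F d U hU
  have hcard : Module.finrank F (P d → F) = 2 * d := by
    rw [Module.finrank_fintype_fun_eq_card]
    simp only [P, Fintype.card_sum, Fintype.card_fin]
    omega
  have hsup : U ⊔ Y = ⊤ := by
    apply Submodule.eq_top_of_finrank_eq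
    have h1 := Submodule.finrank_sup_add_finrank_inf_eq U Y
    rw [hinf, finrank_bot, add_zero] at h1
    rw [h1, hdim, hcard]
  have hcompl : IsCompl U Y := ⟨disjoint_iff.mpr hinf, codisjoint_iff.mpr hsup⟩
  let φ : (P d → F) →ₗ[F] (P d → F) :=
    LinearMap.ofIsCompl hcompl (U.subtype ∘ₗ g.toLinearMap) Y.subtype
  have hφU : ∀ a : ↥U, φ (a : P d → F) = ((g a : ↥U) : P d → F) := fun a => by
    show LinearMap.ofIsCompl hcompl (U.subtype ∘ₗ g.toLinearMap) Y.subtype (a : P d → F) = _
    rw [LinearMap.ofIsCompl_apply_left]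
    rfl
  have hφY : ∀ b : ↥Y, φ (b : P d → F) = (b : P d → F) := fun b => by
    show LinearMap.ofIsCompl hcompl (U.subtype ∘ₗ g.toLinearMap) Y.subtype (b : P d → F) = _
    rw [LinearMap.ofIsCompl_apply_right]
    rfl
  have hφ : ∀ (a : ↥U) (b : ↥Y), φ ((a : P d → F) + (b : P d → F)) =
      ((g a : ↥U) : P d → F) + (b : P d → F) := fun a b => by
    rw [map_add, hφU, hφY]
  have hpow : ∀ (k : ℕ) (a : ↥U) (b : ↥Y), (φ ^ k) ((a : P d → F) + (b : P d → F)) =
      (((g ^ k) a : ↥U) : P d → F) + (b : P d → F) := by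
    intro k
    induction k with
    | zero => intro a b; rfl
    | succ k ih =>
      intro a b
      rw [pow_succ', Module.End.mul_apply, ih, hφ, pow_succ', LinearEquiv.mul_apply]
  have hφr : φ ^ r = 1 := by
    apply LinearMap.ext
    intro v
    obtain ⟨a, b, rfl, -⟩ := Submodule.existsUnique_add_of_isCompl hcompl v
    rw [hpow, hgr]
    rfl
  have hxr0 : (LinearMap.toMatrix' φ) ^ r = 1 := by
    apply Matrix.toLin'.injective
    rw [Matrix.toLin'_pow, Matrix.toLin'_toMatrix', hφr, Matrix.toLin'_one]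
    rfl
  have hr0 : r ≠ 0 := (Fact.out : r.Prime).ne_zero
  let x : Matrix.GeneralLinearGroup (P d) F := Units.ofPowEqOne (LinearMap.toMatrix' φ) r hxr0 hr0
  have hxval : (x : Matrix (P d) (P d) F) = LinearMap.toMatrix' φ := rfl
  have hxv : ∀ v, (x : Matrix (P d) (P d) F) *ᵥ v = φ v := by
    intro v
    rw [hxval, ← Matrix.toLin'_apply, Matrix.toLin'_toMatrix']
  have hxr : x ^ r = 1 := by
    apply Units.ext
    rw [Units.val_pow_eq_pow_val, hxval, hxr0]
    rfl
  have hQadd : ∀ s t : P d → F, Cfsg.quadFormPlus d F (s + t) =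
      Cfsg.quadFormPlus d F s + Cfsg.quadFormPlus d F t +
        QuadraticMap.polar (Cfsg.quadFormPlus d F) s t := by
    intro s t
    unfold QuadraticMap.polar
    ring
  have hxiso : x ∈ Cfsg.isometryGroup F (Cfsg.quadFormPlus d F) := by
    intro v w
    show Cfsg.quadFormPlus d F ((x : Matrix (P d) (P d) F) *ᵥ v) = Cfsg.quadFormPlus d F v
    rw [hxv]
    obtain ⟨a, b, rfl, -⟩ := Submodule.existsUnique_add_of_isCompl hcompl v
    rw [hφ, hQadd, hQadd, horth _ (g a).2 _ b.2, horth _ a.2 _ b.2]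
    have h1 := hg a
    rw [rq_apply, rq_apply] at h1
    rw [h1]
  have hStab : StabP (x : Matrix (P d) (P d) F) U := by
    rintro _ ⟨u, hu, rfl⟩
    rw [Matrix.toLin'_apply, hxv]
    have := hφU ⟨u, hu⟩
    rw [this]
    exact (g ⟨u, hu⟩).2
  have hdvd := hDim F p d r hr2 hrp x hxiso hxr U hStab hU
  have hle : Module.finrank F ↥U - Module.finrank F ↥(U ⊓ FxP (x : Matrix (P d) (P d) F)) <
      cc (orderOf ((Fintype.card F : ℕ) : ZMod r)) := lt_of_le_of_lt (Nat.sub_le _ _) hUc
  have hzero := Nat.eq_zero_of_dvd_of_lt hdvd hle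
  have hUle : U ≤ FxP (x : Matrix (P d) (P d) F) := by
    have h1 : U ⊓ FxP (x : Matrix (P d) (P d) F) = U :=
      Submodule.eq_of_le_of_finrank_le inf_le_left (by omega)
    rw [← h1]
    exact inf_le_right
  apply LinearEquiv.ext
  intro w
  have h1 := (Cfsg.Agent.Lib.Helper94.OPStmt.mem_FxP (x : Matrix (P d) (P d) F) (w : P d → F)).1
    (hUle w.2)
  rw [hxv, hφU] at h1
  exact Subtype.ext h1

theorem main (hSub : SubTypeE.{u}) (hDim : DimObsA.{u})
    (hPerp : Cfsg.Agent.Lib.Helper44.TPStmt.Perp.{u}) : UCardE.{u} := by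
  intro F _ _ p _ _ d m hm2 hmev r _ hr2 hrp U hU hmU hUc
  classical
  obtain ⟨W₁, hW₁U, hW₁⟩ := (hSub F d m U hU hmev hmU).2 hm2
  have hSep : Sep (res (plusQ d F) U) := by
    intro x hx
    by_contra hx0
    have hx0' : (x : P d → F) ≠ 0 := fun h0 => hx0 (Subtype.ext h0)
    obtain ⟨-, z, hz, hz0⟩ := hU (x : P d → F) x.2 hx0'
    exact hz0 (hx ⟨z, hz⟩)
  have hne : ∃ Ws : Submodule F ↥U, AEll (res (plusQ d F) U) m Ws := by
    refine ⟨W₁.comap U.subtype, ?_⟩
    rw [aell_iff, Submodule.map_comap_subtype, inf_eq_right.mpr hW₁U]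
    exact hW₁
  have key := acard_core (res (plusQ d F) U) hSep m hmev r
    (fun g hg hgr => no_order_r hDim hPerp p d r hr2 hrp U hU hUc g hg hgr) hne
  have hcard : Nat.card {W : Submodule F (P d → F) // MemE d F m W ∧ W ≤ U} =
      Nat.card {Ws : Submodule F ↥U // AEll (res (plusQ d F) U) m Ws} := by
    refine Nat.card_congr
      { toFun := fun W => ⟨W.1.comap U.subtype, ?_⟩
        invFun := fun Ws => ⟨Ws.1.map U.subtype, ⟨(aell_iff U m Ws.1).mp Ws.2,
          Submodule.map_subtype_le U Ws.1⟩⟩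
        left_inv := ?_
        right_inv := ?_ }
    · rw [aell_iff, Submodule.map_comap_subtype, inf_eq_right.mpr W.2.2]
      exact W.2.1
    · intro W
      apply Subtype.ext
      show (W.1.comap U.subtype).map U.subtype = W.1
      rw [Submodule.map_comap_subtype, inf_eq_right.mpr W.2.2]
    · intro Ws
      apply Subtype.ext
      show (Ws.1.map U.subtype).comap U.subtype = Ws.1
      exact Submodule.comap_map_eq_of_injective (Submodule.injective_subtype U) Ws.1
  rw [hcard]
  exact key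

end Cfsg.Agent.Lib.Helper4.EPUCARDE
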