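import Mathlib
import Cfsg.Prelude.Def_Characters
import Cfsg.Agent.Lib.Helper81.Glaub
import Cfsg.Agent.Lib.Helper9.MNN2

/-!
The Glauberman correspondence for a solvable group of operators, counting form.

`G` a finite group, `A ≤ MulAut G` solvable of order coprime to `|G|`, `ι : C →* G` an
isomorphism of `C` onto the fixed points of `A`.  For every subgroup `X ≤ MulAut G` containing
and normalising `A`, the number of `X`-invariant irreducible characters of `G` equals the number
of `X`-invariant irreducible characters of `C` (`count_solv`).  With `X = A` this is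
`card_invariant_solv : #Irr_A(G) = #Irr(C)`.

Proof: induction on `|A|`; an `X`-invariant subgroup `B₀ < A` with `a ^ p ∈ B₀` for all `a ∈ A`;
the induction hypothesis for `B₀` and then helper81's `p`-group correspondence
(`Helper81.Glaub.glaub_pgroup`) on the fixed points of `B₀`, which is canonical and therefore
`X`-equivariant (`pcount`).
-/

set_option autoImplicit false

namespace Cfsg.Agent.Lib.Helper4.GlauSolv

open Cfsg Cfsg.Agent.Lib.Helper81.Glaub Cfsg.Agent.Lib.Helper81.GlaubCore
  Cfsg.Agent.Lib.Helper81.Mult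

universe u

/-- An automorphism of `H` preserving the range of an injective homomorphism `ι : C →* H`
induces an automorphism of `C`. -/
theorem exists_aut {H C : Type u} [Group H] [Group C] (ι : C →* H) (hι : Function.Injective ι)
    (y : MulAut H) (hy : ∀ h, h ∈ ι.range → y h ∈ ι.range)
    (hy' : ∀ h, h ∈ ι.range → y⁻¹ h ∈ ι.range) :
    ∃ τ : MulAut C, ∀ c, ι (τ c) = y (ι c) := by
  classical
  choose f hf using fun c : C => hy (ι c) ⟨c, rfl⟩
  choose g hg using fun c : C => hy' (ι c) ⟨c, rfl⟩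
  refine ⟨{ toFun := f, invFun := g, left_inv := ?_, right_inv := ?_, map_mul' := ?_ }, hf⟩
  · intro c
    apply hι
    rw [hg, hf]
    simp
  · intro c
    apply hι
    rw [hf, hg]
    simp
  · intro c c'
    apply hι
    rw [hf, map_mul, map_mul, map_mul, hf, hf]

/-- The `p`-group Glauberman correspondence is equivariant: counting form. -/
theorem pcount (p : ℕ) [Fact p.Prime] {H : Type u} [Group H] [Fintype H]
    (P Y : Subgroup (MulAut H)) {C : Type u} [Group C] [Fintype C] (ι : C →* H)
    (hP : IsPGroup p P) (hpH : ¬ p ∣ Nat.card H) (hPY : P ≤ Y)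
    (hnorm : ∀ y ∈ Y, ∀ s ∈ P, y * s * y⁻¹ ∈ P)
    (hι : Function.Injective ι) (hrange : ∀ g, g ∈ ι.range ↔ ∀ s ∈ P, s g = g) :
    Nat.card {γ : IrrCharacter H // ∀ y ∈ Y, ∀ h, γ.1 (y h) = γ.1 h} =
      Nat.card {β : IrrCharacter C // ∀ y ∈ Y, ∀ c c' : C, ι c' = y (ι c) → β.1 c' = β.1 c} := by
  classical
  have hp : p.Prime := Fact.out
  obtain ⟨h1, h2, h3⟩ := glaub_pgroup p P ι hP hpH hι hrange
  have hYr : ∀ y ∈ Y, ∀ h, h ∈ ι.range → y h ∈ ι.range := by
    intro y hy h hh
    rw [hrange] at hh ⊢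
    intro s hs
    have h4 : y⁻¹ * s * y ∈ P := by
      have h5 := hnorm y⁻¹ (Y.inv_mem hy) s hs
      simpa using h5
    have h5 := hh _ h4
    have h6 : s (y h) = y ((y⁻¹ * s * y) h) := by simp [MulAut.mul_apply]
    rw [h6, h5]
  have hτ : ∀ y ∈ Y, ∃ τ : MulAut C, ∀ c, ι (τ c) = y (ι c) := fun y hy =>
    exists_aut ι hι y (hYr y hy) (hYr y⁻¹ (Y.inv_mem hy))
  have hInvP : ∀ γ : {γ : IrrCharacter H // ∀ y ∈ Y, ∀ h, γ.1 (y h) = γ.1 h},
      ∀ s ∈ P, ∀ h, γ.1.1 (s h) = γ.1.1 h := fun γ s hs h => γ.2 s (hPY hs) h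
  choose f hf1 hf2 using
    fun γ : {γ : IrrCharacter H // ∀ y ∈ Y, ∀ h, γ.1 (y h) = γ.1 h} => h1 γ.1 (hInvP γ)
  have hnd : ∀ γ, ¬ p ∣ mult (fun c => γ.1.1 (ι c)) (f γ) := fun γ =>
    not_dvd_of_modEq hp _ (hf1 γ)
  have hfinv : ∀ γ, ∀ y ∈ Y, ∀ c c' : C, ι c' = y (ι c) → (f γ).1 c' = (f γ).1 c := by
    intro γ y hy c c' hcc'
    obtain ⟨τ, hτ⟩ := hτ y hy
    have hc' : c' = τ c := hι (by rw [hcc', hτ])
    have h5 : irrComp τ (f γ) = f γ := by
      by_contra hne
      have h6 := hf2 γ (irrComp τ (f γ)) hne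
      have h7 : (fun c => γ.1.1 (ι c)) = (fun c => (fun c => γ.1.1 (ι c)) (τ c)) := by
        funext c
        show γ.1.1 (ι c) = γ.1.1 (ι (τ c))
        rw [hτ, γ.2 y hy]
      rw [h7, mult_comp_equiv τ (fun c => γ.1.1 (ι c)) (f γ)] at h6
      exact hnd γ h6
    rw [hc']
    exact congrArg (fun β : IrrCharacter C => β.1 c) h5
  let F : {γ : IrrCharacter H // ∀ y ∈ Y, ∀ h, γ.1 (y h) = γ.1 h} →
      {β : IrrCharacter C // ∀ y ∈ Y, ∀ c c' : C, ι c' = y (ι c) → β.1 c' = β.1 c} :=
    fun γ => ⟨f γ, hfinv γ⟩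
  have hFinj : Function.Injective F := by
    intro γ γ' hγ
    have h5 : f γ = f γ' := congrArg Subtype.val hγ
    apply Subtype.ext
    exact h2 γ.1 γ'.1 (hInvP γ) (hInvP γ') (f γ) (hnd γ) (by rw [h5]; exact hnd γ')
  have hFsurj : Function.Surjective F := by
    rintro ⟨β, hβ⟩
    obtain ⟨γ, hγP, hγnd⟩ := h3 β
    have hγY : ∀ y ∈ Y, ∀ h, γ.1 (y h) = γ.1 h := by
      intro y hy
      obtain ⟨τ, hτ⟩ := hτ y hy
      have hγ'P : ∀ s ∈ P, ∀ h, (irrComp y γ).1 (s h) = (irrComp y γ).1 h := by
        intro s hs h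
        show γ.1 (y (s h)) = γ.1 (y h)
        have h6 : y (s h) = (y * s * y⁻¹) (y h) := by simp [MulAut.mul_apply]
        rw [h6]
        exact hγP _ (hnorm y hy s hs) _
      have hβτ : irrComp τ β = β := by
        apply Subtype.ext
        funext c
        show β.1 (τ c) = β.1 c
        exact hβ y hy c (τ c) (hτ c)
      have h7 : mult (fun c => (irrComp y γ).1 (ι c)) β = mult (fun c => γ.1 (ι c)) β := by
        have h8 : (fun c => (irrComp y γ).1 (ι c)) =
            (fun c => (fun c => γ.1 (ι c)) (τ c)) := by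
          funext c
          show γ.1 (y (ι c)) = γ.1 (ι (τ c))
          rw [hτ]
        rw [h8]
        conv_lhs => rw [← hβτ]
        exact mult_comp_equiv τ (fun c => γ.1 (ι c)) β
      have h9 := h2 (irrComp y γ) γ hγ'P hγP β (by rw [h7]; exact hγnd) hγnd
      intro h
      exact congrArg (fun χ : IrrCharacter H => χ.1 h) h9
    refine ⟨⟨γ, hγY⟩, ?_⟩
    apply Subtype.ext
    show f ⟨γ, hγY⟩ = β
    by_contra hne
    exact hγnd (hf2 ⟨γ, hγY⟩ β (Ne.symm hne))
  exact Nat.card_congr (Equiv.ofBijective F ⟨hFinj, hFsurj⟩)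

/-- The subgroup of common fixed points of a group of automorphisms. -/
def fixAll {G : Type u} [Group G] (A : Subgroup (MulAut G)) : Subgroup G where
  carrier := {g | ∀ a ∈ A, a g = g}
  mul_mem' := fun {x y} hx hy a ha => by
    rw [map_mul, hx a ha, hy a ha]
  one_mem' := fun a _ => map_one a
  inv_mem' := fun {x} hx a ha => by
    rw [map_inv, hx a ha]

theorem mem_fixAll {G : Type u} [Group G] (A : Subgroup (MulAut G)) (g : G) :
    g ∈ fixAll A ↔ ∀ a ∈ A, a g = g := Iff.rfl

theorem count_aux {G : Type u} [Group G] [Finite G] (X : Subgroup (MulAut G)) :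
    ∀ (n : ℕ) (A : Subgroup (MulAut G)) (C : Type u) [Group C] [Finite C] (ι : C →* G),
    Nat.card A = n → Group.IsSolvable A → (Nat.card G).Coprime (Nat.card A) → A ≤ X →
    (∀ x ∈ X, ∀ a ∈ A, x * a * x⁻¹ ∈ A) → Function.Injective ι →
    (∀ g, g ∈ ι.range ↔ ∀ a ∈ A, a g = g) →
    Nat.card {χ : IrrCharacter G // ∀ x ∈ X, ∀ g, χ.1 (x g) = χ.1 g} =
      Nat.card {β : IrrCharacter C // ∀ x ∈ X, ∀ c c' : C, ι c' = x (ι c) → β.1 c' = β.1 c} := by
  classical
  intro n
  induction n using Nat.strong_induction_on with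
  | _ n ih =>
    intro A C _ _ ι hn hsolv hcop hAX hnorm hι hrange
    haveI : Fintype G := Fintype.ofFinite G
    haveI : Fintype C := Fintype.ofFinite C
    by_cases hA : A = ⊥
    · subst hA
      have hbij : Function.Bijective ι := ⟨hι, fun g => (hrange g).2 (fun a ha => by
        rw [Subgroup.mem_bot.1 ha]
        rfl)⟩
      let e : C ≃* G := MulEquiv.ofBijective ι hbij
      apply Nat.card_congr
      refine Equiv.subtypeEquiv ⟨irrComp e, irrComp e.symm, irrComp_symm e, irrComp_symm' e⟩ ?_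
      intro χ
      constructor
      · intro h x hx c c' hcc'
        show χ.1 (e c') = χ.1 (e c)
        have h1 : e c' = x (e c) := hcc'
        rw [h1]
        exact h x hx _
      · intro h x hx g
        obtain ⟨c, rfl⟩ := e.surjective g
        obtain ⟨c', hc'⟩ := e.surjective (x (e c))
        rw [← hc']
        exact h x hx c c' hc'
    · haveI : Nontrivial A := (Subgroup.nontrivial_iff_ne_bot A).2 hA
      haveI : Group.IsSolvable A := hsolv
      obtain ⟨N, hNn, hNp⟩ := Cfsg.Agent.Lib.Helper9.MNN2.exists_normal_index_prime (G := A)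
      obtain ⟨p, hpdef⟩ : ∃ p : ℕ, p = N.index := ⟨_, rfl⟩
      have hpp : p.Prime := by
        rw [hpdef]
        exact hNp
      haveI : Fact p.Prime := ⟨hpp⟩
      let B₀ : Subgroup (MulAut G) :=
        { carrier := {b | ∀ x ∈ X, x * b * x⁻¹ ∈ N.map A.subtype}
          one_mem' := by
            intro x hx
            have h1 : x * 1 * x⁻¹ = 1 := by group
            rw [h1]
            exact Subgroup.one_mem _
          mul_mem' := by
            intro b b' hb hb' x hx
            have h1 : x * (b * b') * x⁻¹ = (x * b * x⁻¹) * (x * b' * x⁻¹) := by group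
            rw [h1]
            exact Subgroup.mul_mem _ (hb x hx) (hb' x hx)
          inv_mem' := by
            intro b hb x hx
            have h1 : x * b⁻¹ * x⁻¹ = (x * b * x⁻¹)⁻¹ := by group
            rw [h1]
            exact Subgroup.inv_mem _ (hb x hx) }
      have hB₀N : B₀ ≤ N.map A.subtype := by
        intro b hb
        have h1 := hb 1 X.one_mem
        have h2 : (1 : MulAut G) * b * 1⁻¹ = b := by group
        rwa [h2] at h1
      have hNA : N.map A.subtype ≤ A := by
        rintro _ ⟨a, -, rfl⟩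
        exact a.2
      have hB₀A : B₀ ≤ A := hB₀N.trans hNA
      have hB₀X : ∀ x ∈ X, ∀ b ∈ B₀, x * b * x⁻¹ ∈ B₀ := by
        intro x hx b hb x' hx'
        have h1 : x' * (x * b * x⁻¹) * x'⁻¹ = (x' * x) * b * (x' * x)⁻¹ := by group
        rw [h1]
        exact hb _ (X.mul_mem hx' hx)
      have hpow : ∀ a ∈ A, a ^ p ∈ B₀ := by
        intro a ha x hx
        have h1 : x * a ^ p * x⁻¹ = (x * a * x⁻¹) ^ p := conj_pow.symm
        rw [h1]
        have h2 := hnorm x hx a ha
        have h3 : (⟨x * a * x⁻¹, h2⟩ : A) ^ p ∈ N := by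
          rw [hpdef]
          exact Subgroup.pow_index_mem N _
        exact ⟨(⟨x * a * x⁻¹, h2⟩ : A) ^ p, h3, rfl⟩
      have hcardNA : Nat.card N * p = Nat.card A := by
        rw [hpdef]
        exact N.card_mul_index
      have hcardB : Nat.card B₀ < n := by
        have h1 : Nat.card B₀ ≤ Nat.card (N.map A.subtype) := Subgroup.card_le_of_le hB₀N
        have h2 : Nat.card (N.map A.subtype) = Nat.card N :=
          Subgroup.card_map_of_injective (Subgroup.subtype_injective A)
        have h3 : 0 < Nat.card N := Nat.card_pos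
        have h4 := hpp.two_le
        rw [← hn, ← hcardNA]
        nlinarith
      have hpA : p ∣ Nat.card A := Dvd.intro_left _ hcardNA
      let D : Subgroup G := fixAll B₀
      have hD : ∀ x ∈ X, ∀ d ∈ D, x d ∈ D := by
        intro x hx d hd b hb
        have h1 : x⁻¹ * b * x ∈ B₀ := by
          have h2 := hB₀X x⁻¹ (X.inv_mem hx) b hb
          simpa using h2
        have h2 := hd _ h1
        have h3 : b (x d) = x ((x⁻¹ * b * x) d) := by simp [MulAut.mul_apply]
        rw [h3, h2]
      have ih1 := ih (Nat.card B₀) hcardB B₀ D D.subtype rfl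
        (solvable_of_solvable_injective (Subgroup.inclusion_injective hB₀A))
        (hcop.coprime_dvd_right (Subgroup.card_dvd_of_le hB₀A)) (hB₀A.trans hAX) hB₀X
        (Subgroup.subtype_injective D) (by
          intro g
          rw [Subgroup.range_subtype]
          rfl)
      rw [ih1]
      let r : X →* MulAut D := restrictAut X D hD
      let Y : Subgroup (MulAut D) := r.range
      let P : Subgroup (MulAut D) := (A.subgroupOf X).map r
      have hPY : P ≤ Y := by
        rintro _ ⟨a, -, rfl⟩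
        exact ⟨a, rfl⟩
      have hP : IsPGroup p P := by
        rintro ⟨_, a, ha, rfl⟩
        refine ⟨1, ?_⟩
        apply Subtype.ext
        rw [pow_one]
        show (r a) ^ p = 1
        rw [← map_pow]
        apply MulEquiv.ext
        intro d
        apply Subtype.ext
        show ((a ^ p : X) : MulAut G) (d : G) = d
        have h1 : ((a ^ p : X) : MulAut G) = (a : MulAut G) ^ p := rfl
        rw [h1]
        exact d.2 _ (hpow a.1 ha)
      have hpD : ¬ p ∣ Nat.card D := by
        intro h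
        have h1 : p ∣ Nat.card G := dvd_trans h (Subgroup.card_subgroup_dvd_card D)
        have h2 := Nat.dvd_gcd h1 hpA
        rw [hcop] at h2
        exact hpp.one_lt.ne' (Nat.dvd_one.1 h2)
      have hnormY : ∀ y ∈ Y, ∀ s ∈ P, y * s * y⁻¹ ∈ P := by
        rintro _ ⟨x, rfl⟩ _ ⟨a, ha, rfl⟩
        refine ⟨x * a * x⁻¹, ?_, by simp⟩
        exact hnorm x.1 x.2 a.1 ha
      have hιD : ∀ c, ι c ∈ D := by
        intro c b hb
        exact (hrange (ι c)).1 ⟨c, rfl⟩ b (hB₀A hb)
      let ι' : C →* D := ι.codRestrict D hιD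
      have hι' : Function.Injective ι' := by
        intro c c' h
        exact hι (congrArg Subtype.val h)
      have hrange' : ∀ d : D, d ∈ ι'.range ↔ ∀ s ∈ P, s d = d := by
        intro d
        constructor
        · rintro ⟨c, rfl⟩ _ ⟨a, ha, rfl⟩
          apply Subtype.ext
          show (a : MulAut G) (ι c) = ι c
          exact (hrange (ι c)).1 ⟨c, rfl⟩ a.1 ha
        · intro h
          have h1 : ∀ a ∈ A, a (d : G) = d := by
            intro a ha
            have h2 := h (r ⟨a, hAX ha⟩) ⟨⟨a, hAX ha⟩, ha, rfl⟩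
            exact congrArg Subtype.val h2
          obtain ⟨c, hc⟩ := (hrange (d : G)).2 h1
          exact ⟨c, Subtype.ext hc⟩
      have pc := pcount p P Y ι' hP hpD hPY hnormY hι' hrange'
      have e1 : Nat.card {β : IrrCharacter D // ∀ x ∈ X, ∀ c c' : D,
          D.subtype c' = x (D.subtype c) → β.1 c' = β.1 c} =
          Nat.card {γ : IrrCharacter D // ∀ y ∈ Y, ∀ h, γ.1 (y h) = γ.1 h} := by
        apply Nat.card_congr
        apply Equiv.subtypeEquivRight
        intro γ
        constructor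
        · rintro h _ ⟨x, rfl⟩ d
          exact h x.1 x.2 d (r x d) rfl
        · intro h x hx c c' hcc'
          have h1 : c' = r ⟨x, hx⟩ c := Subtype.ext hcc'
          rw [h1]
          exact h (r ⟨x, hx⟩) ⟨_, rfl⟩ c
      have e2 : Nat.card {β : IrrCharacter C // ∀ y ∈ Y, ∀ c c' : C,
          ι' c' = y (ι' c) → β.1 c' = β.1 c} =
          Nat.card {β : IrrCharacter C // ∀ x ∈ X, ∀ c c' : C,
            ι c' = x (ι c) → β.1 c' = β.1 c} := by
        apply Nat.card_congr
        apply Equiv.subtypeEquivRight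
        intro β
        constructor
        · intro h x hx c c' hcc'
          exact h (r ⟨x, hx⟩) ⟨_, rfl⟩ c c' (Subtype.ext hcc')
        · rintro h _ ⟨x, rfl⟩ c c' hcc'
          exact h x.1 x.2 c c' (congrArg Subtype.val hcc')
      rw [e1, pc, e2]

/-- **Solvable Glauberman count**, equivariant form. -/
theorem count_solv {G : Type u} [Group G] [Finite G] (A X : Subgroup (MulAut G))
    {C : Type u} [Group C] [Finite C] (ι : C →* G)
    (hsolv : Group.IsSolvable A) (hcop : (Nat.card G).Coprime (Nat.card A)) (hAX : A ≤ X)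
    (hnorm : ∀ x ∈ X, ∀ a ∈ A, x * a * x⁻¹ ∈ A) (hι : Function.Injective ι)
    (hrange : ∀ g, g ∈ ι.range ↔ ∀ a ∈ A, a g = g) :
    Nat.card {χ : IrrCharacter G // ∀ x ∈ X, ∀ g, χ.1 (x g) = χ.1 g} =
      Nat.card {β : IrrCharacter C // ∀ x ∈ X, ∀ c c' : C, ι c' = x (ι c) → β.1 c' = β.1 c} :=
  count_aux X _ A C ι rfl hsolv hcop hAX hnorm hι hrange

/-- **Solvable Glauberman count**: the number of `A`-invariant irreducible characters of `G` is
the number of irreducible characters of the fixed-point subgroup. -/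
theorem card_invariant_solv {G : Type u} [Group G] [Finite G] (A : Subgroup (MulAut G))
    {C : Type u} [Group C] [Finite C] (ι : C →* G)
    (hsolv : Group.IsSolvable A) (hcop : (Nat.card G).Coprime (Nat.card A))
    (hι : Function.Injective ι) (hrange : ∀ g, g ∈ ι.range ↔ ∀ a ∈ A, a g = g) :
    Nat.card {χ : IrrCharacter G // ∀ a ∈ A, ∀ g, χ.1 (a g) = χ.1 g} =
      Nat.card (IrrCharacter C) := by
  rw [count_solv A A ι hsolv hcop le_rfl
    (fun x hx a ha => A.mul_mem (A.mul_mem hx ha) (A.inv_mem hx)) hι hrange]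
  apply Nat.card_congr
  apply Equiv.subtypeUnivEquiv
  intro β x hx c c' hcc'
  have h1 : ι c' = ι c := by
    rw [hcc']
    exact (hrange (ι c)).1 ⟨c, rfl⟩ x hx
  rw [hι h1]

end Cfsg.Agent.Lib.Helper4.GlauSolv
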