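import Mathlib
import Cfsg.Agent.Lib.Helper96.HallConjStmt

/-!
# S2535 piece PAR: conjugacy inside a subgroup of index two
-/

set_option autoImplicit false

namespace Cfsg.Agent.Lib.Helper4.HCPAR

open Equiv Cfsg.Agent.Lib.Helper96.HallSymStmt Cfsg.Agent.Lib.Helper96.HallConjStmt
open scoped Pointwise

theorem main : Cfsg.Agent.Lib.Helper96.HallConjStmt.PAR := by
  intro G _ B hB H₁ H₂ hH₁ hconj
  obtain ⟨g, rfl⟩ := hconj
  -- find `a ∈ B` with the same conjugate
  have key : ∃ a : G, a ∈ B ∧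
      H₁.map (MulAut.conj g).toMonoidHom = H₁.map (MulAut.conj a).toMonoidHom := by
    by_cases hg : g ∈ B
    · exact ⟨g, hg, rfl⟩
    · obtain ⟨t, ht, htB⟩ := SetLike.not_le_iff_exists.1 hH₁
      refine ⟨g * t, ?_, ?_⟩
      · rw [Subgroup.mul_mem_iff_of_index_two hB]
        exact ⟨fun h => absurd h hg, fun h => absurd h htB⟩
      · ext y
        simp only [Subgroup.mem_map, MulEquiv.coe_toMonoidHom, MulAut.conj_apply]
        constructor
        · rintro ⟨h, hh, rfl⟩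
          refine ⟨t⁻¹ * h * t, H₁.mul_mem (H₁.mul_mem (H₁.inv_mem ht) hh) ht, ?_⟩
          group
        · rintro ⟨h, hh, rfl⟩
          refine ⟨t * h * t⁻¹, H₁.mul_mem (H₁.mul_mem ht hh) (H₁.inv_mem ht), ?_⟩
          group
  obtain ⟨a, ha, hEq⟩ := key
  refine ⟨⟨a, ha⟩, ?_⟩
  rw [hEq]
  ext b
  simp only [Subgroup.mem_subgroupOf, Subgroup.mem_map, MulEquiv.coe_toMonoidHom,
    MulAut.conj_apply]
  constructor
  · rintro ⟨h, hh, hb⟩
    have hhB : h ∈ B := by
      have : h = a⁻¹ * (b : G) * a := by rw [← hb]; group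
      rw [this]
      exact B.mul_mem (B.mul_mem (B.inv_mem ha) b.2) ha
    refine ⟨⟨h, hhB⟩, hh, ?_⟩
    apply Subtype.ext
    simpa using hb
  · rintro ⟨c, hc, rfl⟩
    exact ⟨(c : G), hc, by simp⟩

end Cfsg.Agent.Lib.Helper4.HCPAR
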