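import Mathlib
import Cfsg.Agent.Lib.Helper96.HallConjStmt

/-!
# S2535 piece PINV: an element of prime order `p` fixes pointwise an invariant set of size `< p`
-/

set_option autoImplicit false

namespace Cfsg.Agent.Lib.Helper4.HCPINV

open Equiv Cfsg.Agent.Lib.Helper96.HallSymStmt Cfsg.Agent.Lib.Helper96.HallConjStmt
open scoped Pointwise

theorem main : Cfsg.Agent.Lib.Helper96.HallConjStmt.PINV := by
  intro Ω _ _ g p hp hgp Δ hΔ hlt x hx
  by_contra hne
  have hper : Function.IsPeriodicPt (g : Ω → Ω) p x := by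
    show (g : Ω → Ω)^[p] x = x
    rw [Equiv.Perm.iterate_eq_pow, hgp]; rfl
  have hdvd : Function.minimalPeriod (g : Ω → Ω) x ∣ p := hper.minimalPeriod_dvd
  rcases (Nat.dvd_prime hp).1 hdvd with h1 | h1
  · have : Function.IsFixedPt (g : Ω → Ω) x :=
      Function.minimalPeriod_eq_one_iff_isFixedPt.1 h1
    exact hne this
  · have hinj : (Set.Iio p).InjOn (fun k : ℕ => (g : Ω → Ω)^[k] x) := by
      have := Function.iterate_injOn_Iio_minimalPeriod (f := (g : Ω → Ω)) (x := x)
      rw [h1] at this
      exact this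
    have hmem : ∀ k : ℕ, (g : Ω → Ω)^[k] x ∈ Δ := by
      intro k
      induction k with
      | zero => simpa using hx
      | succ k ih =>
        rw [Function.iterate_succ_apply']
        exact hΔ _ ih
    have hsub : (fun k : ℕ => (g : Ω → Ω)^[k] x) '' (Set.Iio p) ⊆ Δ := by
      rintro _ ⟨k, -, rfl⟩
      exact hmem k
    have hcard : ((fun k : ℕ => (g : Ω → Ω)^[k] x) '' (Set.Iio p)).ncard = p := by
      rw [Set.InjOn.ncard_image hinj]
      rw [Set.ncard_eq_toFinset_card']
      simp
    have hle := Set.ncard_le_ncard hsub (Set.toFinite Δ)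
    omega

end Cfsg.Agent.Lib.Helper4.HCPINV
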