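import Mathlib
import Cfsg.Agent.Lib.Helper88.MCStmt
import Cfsg.Agent.S4037

set_option autoImplicit false

/-!
# S4245 piece EVENB

`B ⊴ A` cyclic of even order, `A.index = p ^ s`: the involution of `B` is central in `A`, its
class has prime power size, and its normal closure is solvable (Kazarin, S4037).
-/

namespace Cfsg.Agent.Lib.Helper4.MCEVENB

open Cfsg.Agent.Lib.Helper88.MCStmt

universe u

theorem main : EvenB.{u} := by
  intro G _ _ A p s hp hidx B hBn hBc hBe
  classical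
  haveI : Fintype ↥B := Fintype.ofFinite _
  have h2 : 2 ∣ Nat.card ↥B := even_iff_two_dvd.1 hBe
  haveI : Fact (Nat.Prime 2) := ⟨Nat.prime_two⟩
  obtain ⟨z, hz⟩ := exists_prime_orderOf_dvd_card' 2 h2
  have huniq : ∀ w : ↥B, orderOf w = 2 → w = z := by
    intro w hw
    have hcard := IsCyclic.card_orderOf_eq_totient (α := ↥B) (d := 2)
      (by rw [← Nat.card_eq_fintype_card]; exact h2)
    rw [Nat.totient_two] at hcard
    exact Finset.card_le_one.1 hcard.le w (by simp [hw]) z (by simp [hz])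
  have hzG2 : orderOf (((z : ↥A) : G)) = 2 := by
    rw [Subgroup.orderOf_coe, Subgroup.orderOf_coe]; exact hz
  have hzG1 : (((z : ↥A) : G)) ≠ 1 := by
    intro h
    rw [h, orderOf_one] at hzG2
    omega
  have hcent : A ≤ Subgroup.centralizer ({((z : ↥A) : G)} : Set G) := by
    intro a ha
    rw [Subgroup.mem_centralizer_iff]
    intro h hh
    rw [Set.mem_singleton_iff] at hh
    subst hh
    have hconj : (⟨a, ha⟩ : ↥A) * (z : ↥A) * (⟨a, ha⟩ : ↥A)⁻¹ ∈ B := hBn.conj_mem _ z.2 _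
    have hord : orderOf (⟨_, hconj⟩ : ↥B) = 2 := by
      rw [← Subgroup.orderOf_coe]
      show orderOf ((⟨a, ha⟩ : ↥A) * (z : ↥A) * (⟨a, ha⟩ : ↥A)⁻¹) = 2
      rw [← MulAut.conj_apply, MulEquiv.orderOf_eq, Subgroup.orderOf_coe]
      exact hz
    have h3 := huniq ⟨_, hconj⟩ hord
    have h4 : (⟨a, ha⟩ : ↥A) * (z : ↥A) * (⟨a, ha⟩ : ↥A)⁻¹ = (z : ↥A) := congrArg Subtype.val h3
    have h5 : a * ((z : ↥A) : G) * a⁻¹ = ((z : ↥A) : G) := congrArg Subtype.val h4
    calc ((z : ↥A) : G) * a = a * ((z : ↥A) : G) * a⁻¹ * a := by rw [h5]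
      _ = a * ((z : ↥A) : G) := by group
  have hdvd : (Subgroup.centralizer ({((z : ↥A) : G)} : Set G)).index ∣ p ^ s := by
    rw [← hidx]; exact Subgroup.index_dvd_of_le hcent
  obtain ⟨j, -, hj⟩ := (Nat.dvd_prime_pow hp).1 hdvd
  have hcls : (ConjClasses.mk ((z : ↥A) : G)).carrier.ncard =
      (Subgroup.centralizer ({((z : ↥A) : G)} : Set G)).index := by
    rw [← ConjAct.orbit_eq_carrier_conjClasses, ← MulAction.index_stabilizer,
      ConjAct.stabilizer_eq_centralizer]
    rfl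
  have hsolv : Group.IsSolvable ↥(Subgroup.normalClosure ({((z : ↥A) : G)} : Set G)) :=
    Cfsg.Agent.S4037.result ((z : ↥A) : G) hp j (hcls.trans hj)
  refine ⟨Subgroup.normalClosure ({((z : ↥A) : G)} : Set G), Subgroup.normalClosure_normal, ?_,
    hsolv⟩
  intro hbot
  have hmem : ((z : ↥A) : G) ∈ Subgroup.normalClosure ({((z : ↥A) : G)} : Set G) :=
    Subgroup.subset_normalClosure (Set.mem_singleton _)
  rw [hbot, Subgroup.mem_bot] at hmem
  exact hzG1 hmem

end Cfsg.Agent.Lib.Helper4.MCEVENB
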