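import Mathlib

/-!
# Tools for the S4017 pieces: the order of `A ⊔ B` when `B` normalizes `A`
-/

set_option autoImplicit false

namespace Cfsg.Agent.Lib.Helper4.MixTools

universe u

/-- if `B` normalizes `A` then `|A ⊔ B|` divides `|A| |B|` -/
theorem card_sup_dvd {G : Type u} [Group G] [Finite G] (A B : Subgroup G)
    (hB : B ≤ Subgroup.normalizer (A : Set G)) :
    Nat.card ↥(A ⊔ B) ∣ Nat.card A * Nat.card B := by
  have hAH : A ≤ A ⊔ B := le_sup_left
  have hBH : B ≤ A ⊔ B := le_sup_right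
  have hHN : A ⊔ B ≤ Subgroup.normalizer (A : Set G) := sup_le Subgroup.le_normalizer hB
  have hnorm : (A.subgroupOf (A ⊔ B)).Normal := Subgroup.normal_subgroupOf_of_le_normalizer hHN
  have h1 : Nat.card ↥(A ⊔ B) =
      Nat.card ↥(A.subgroupOf (A ⊔ B)) * (A.subgroupOf (A ⊔ B)).index :=
    (Subgroup.card_mul_index _).symm
  have h2 : Nat.card ↥(A.subgroupOf (A ⊔ B)) = Nat.card A :=
    Nat.card_congr (Subgroup.subgroupOfEquivOfLe hAH).toEquiv
  have h3 : (A.subgroupOf (A ⊔ B)).index ∣ Nat.card B := by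
    have hsup : B.subgroupOf (A ⊔ B) ⊔ A.subgroupOf (A ⊔ B) = ⊤ := by
      rw [← Subgroup.subgroupOf_sup hBH hAH, sup_comm, Subgroup.subgroupOf_self]
    have h4 : (A.subgroupOf (A ⊔ B)).relIndex (B.subgroupOf (A ⊔ B) ⊔ A.subgroupOf (A ⊔ B)) =
        (A.subgroupOf (A ⊔ B)).relIndex (B.subgroupOf (A ⊔ B)) :=
      Subgroup.relIndex_sup_right (B.subgroupOf (A ⊔ B)) (A.subgroupOf (A ⊔ B))
    rw [hsup, Subgroup.relIndex_top_right] at h4
    rw [h4]
    have h5 := Subgroup.relIndex_dvd_card (A.subgroupOf (A ⊔ B)) (B.subgroupOf (A ⊔ B))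
    rwa [Nat.card_congr (Subgroup.subgroupOfEquivOfLe hBH).toEquiv] at h5
  rw [h1, h2]
  exact Nat.mul_dvd_mul_left _ h3

end Cfsg.Agent.Lib.Helper4.MixTools
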