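import Mathlib
import Cfsg.Agent.Lib.Helper68.MixStmt
import Cfsg.Agent.Lib.Helper4.MixTools

/-!
# S4017 piece FROB1: no normal `q`-complement
-/

set_option autoImplicit false

namespace Cfsg.Agent.Lib.Helper4.MixFROB1

open Cfsg.Agent.Lib.Helper68.MixStmt Cfsg.Agent.Lib.Helper4.MixTools

universe u

theorem main : Cfsg.Agent.Lib.Helper68.MixStmt.FROB1.{u} := by
  intro G _ _ p q hp hq hpq hpG hqG hE hnot S K hKn hcomp
  have hqF : Fact q.Prime := ⟨hq⟩
  have hr : ∃ r : ℕ, r.Prime ∧ r ∣ Nat.card G ∧ r ≠ p ∧ r ≠ q := by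
    by_contra hno
    apply hnot
    intro r hr hrd
    by_contra h
    push Not at h
    exact hno ⟨r, hr, hrd, h.1, h.2⟩
  obtain ⟨r, hr, hrG, hrp, hrq⟩ := hr
  have hrF : Fact r.Prime := ⟨hr⟩
  have hcard : Nat.card K * Nat.card (S : Subgroup G) = Nat.card G := hcomp.card_mul_card
  have hScard : Nat.card (S : Subgroup G) = q ^ (Nat.card G).factorization q :=
    S.card_eq_multiplicity
  have hrK : r ∣ Nat.card K := by
    rw [← hcard] at hrG
    rcases (Nat.Prime.dvd_mul hr).1 hrG with h | h
    · exact h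
    · rw [hScard] at h
      exact absurd ((Nat.prime_dvd_prime_iff_eq hr hq).1 (hr.dvd_of_dvd_pow h)) hrq
  have hqK : ¬ q ∣ Nat.card K := by
    intro h
    have h1 : q ^ ((Nat.card G).factorization q + 1) ∣ Nat.card G := by
      have h2 : q ^ ((Nat.card G).factorization q + 1) ∣
          Nat.card K * Nat.card (S : Subgroup G) := by
        rw [hScard, pow_succ, mul_comm]
        exact Nat.mul_dvd_mul_right h _
      rwa [hcard] at h2
    exact Nat.pow_succ_factorization_not_dvd Nat.card_pos.ne' hq h1
  obtain ⟨R⟩ : Nonempty (Sylow r K) := inferInstance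
  have hfrat : Subgroup.normalizer (((R : Subgroup K).map K.subtype : Subgroup G) : Set G) ⊔ K
      = ⊤ := Sylow.normalizer_sup_eq_top R
  have hR₀card : Nat.card ((R : Subgroup K).map K.subtype) = r ^ (Nat.card K).factorization r := by
    rw [Subgroup.card_map_of_injective K.subtype_injective]
    exact R.card_eq_multiplicity
  have hb0 : (Nat.card K).factorization r ≠ 0 := by
    have h1 := Nat.Prime.factorization_pos_of_dvd hr Nat.card_pos.ne' hrK
    omega
  have hKnorm : Subgroup.normalizer (((R : Subgroup K).map K.subtype : Subgroup G) : Set G) ≤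
      Subgroup.normalizer (K : Set G) := by
    intro n _
    rw [Subgroup.mem_normalizer_iff]
    intro h
    constructor
    · intro hh
      exact hKn.conj_mem h hh n
    · intro hh
      have h1 := hKn.conj_mem _ hh n⁻¹
      simpa [mul_assoc] using h1
  have hqN : q ∣ Nat.card
      (Subgroup.normalizer (((R : Subgroup K).map K.subtype : Subgroup G) : Set G)) := by
    have h1 := card_sup_dvd K _ hKnorm
    rw [sup_comm, hfrat, Subgroup.card_top] at h1
    rcases (Nat.Prime.dvd_mul hq).1 (hqG.trans h1) with h | h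
    · exact absurd h hqK
    · exact h
  obtain ⟨t, ht⟩ := exists_prime_orderOf_dvd_card' q hqN
  have hTN : Subgroup.zpowers (t : G) ≤
      Subgroup.normalizer (((R : Subgroup K).map K.subtype : Subgroup G) : Set G) :=
    Subgroup.zpowers_le.2 t.2
  have hTcard : Nat.card (Subgroup.zpowers (t : G)) = q := by
    rw [Nat.card_zpowers, Subgroup.orderOf_coe, ht]
  have hdvd := card_sup_dvd ((R : Subgroup K).map K.subtype) (Subgroup.zpowers (t : G)) hTN
  have hHne : (R : Subgroup K).map K.subtype ⊔ Subgroup.zpowers (t : G) ≠ ⊤ := by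
    intro htop
    have h1 : p ∣ Nat.card ↥((R : Subgroup K).map K.subtype ⊔ Subgroup.zpowers (t : G)) := by
      rw [htop, Subgroup.card_top]
      exact hpG
    have h2 : p ∣ r ^ (Nat.card K).factorization r * q := by
      rw [← hR₀card, ← hTcard]
      exact h1.trans hdvd
    rcases (Nat.Prime.dvd_mul hp).1 h2 with h | h
    · exact hrp ((Nat.prime_dvd_prime_iff_eq hp hr).1 (hp.dvd_of_dvd_pow h)).symm
    · exact hpq ((Nat.prime_dvd_prime_iff_eq hp hq).1 h)
  have hqH : q ∣ Nat.card ↥((R : Subgroup K).map K.subtype ⊔ Subgroup.zpowers (t : G)) := by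
    have h1 : q ∣ Nat.card (Subgroup.zpowers (t : G)) := by rw [hTcard]
    exact h1.trans (Subgroup.card_dvd_of_le le_sup_right)
  have hrH : r ∣ Nat.card ↥((R : Subgroup K).map K.subtype ⊔ Subgroup.zpowers (t : G)) := by
    have h1 : r ∣ Nat.card ((R : Subgroup K).map K.subtype) := by
      rw [hR₀card]
      exact dvd_pow_self r hb0
    exact h1.trans (Subgroup.card_dvd_of_le le_sup_left)
  rcases hE _ hHne hqH r hr hrH with h | h
  · exact hrp h
  · exact hrq h

end Cfsg.Agent.Lib.Helper4.MixFROB1
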