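import Mathlib
import Cfsg.Agent.Lib.Helper68.MixStmt
import Cfsg.Agent.Lib.Helper4.MixTools

/-!
# S4017 piece FROB2: a `q'`-element normalizing, not centralizing a `q`-group yields a
`p`-element doing the same
-/

set_option autoImplicit false

namespace Cfsg.Agent.Lib.Helper4.MixFROB2

open Cfsg.Agent.Lib.Helper68.MixStmt Cfsg.Agent.Lib.Helper4.MixTools

universe u

theorem main : Cfsg.Agent.Lib.Helper68.MixStmt.FROB2.{u} := by
  intro G _ _ p q hp hq hpq hpG hE Q₁ g hQ₁ hgN hcop hgC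
  have hqF : Fact q.Prime := ⟨hq⟩
  have hZN : Subgroup.zpowers g ≤ Subgroup.normalizer (Q₁ : Set G) := Subgroup.zpowers_le.2 hgN
  have hCtop : (Subgroup.centralizer (Q₁ : Set G)).subgroupOf (Subgroup.zpowers g) ≠ ⊤ := by
    intro h
    have h1 : (⟨g, Subgroup.mem_zpowers g⟩ : Subgroup.zpowers g) ∈
        (Subgroup.centralizer (Q₁ : Set G)).subgroupOf (Subgroup.zpowers g) := by
      rw [h]; trivial
    exact hgC (Subgroup.mem_subgroupOf.1 h1)
  have hidx : ((Subgroup.centralizer (Q₁ : Set G)).subgroupOf (Subgroup.zpowers g)).index ≠ 1 :=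
    fun h => hCtop (Subgroup.index_eq_one.1 h)
  obtain ⟨ℓ, hℓ, hℓdvd⟩ := Nat.exists_prime_and_dvd hidx
  have hℓF : Fact ℓ.Prime := ⟨hℓ⟩
  obtain ⟨S⟩ : Nonempty (Sylow ℓ (Subgroup.zpowers g)) := inferInstance
  have hSC : ¬ (S : Subgroup (Subgroup.zpowers g)) ≤
      (Subgroup.centralizer (Q₁ : Set G)).subgroupOf (Subgroup.zpowers g) := by
    intro hle
    have h1 := Subgroup.index_dvd_of_le hle
    exact S.not_dvd_index (hℓdvd.trans h1)
  obtain ⟨z, hzS, hzC⟩ := SetLike.not_le_iff_exists.1 hSC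
  have hyord : ∃ k, orderOf (z : G) = ℓ ^ k := by
    obtain ⟨k, hk⟩ := (IsPGroup.iff_orderOf.1 S.isPGroup') ⟨z, hzS⟩
    refine ⟨k, ?_⟩
    rw [← hk, ← Subgroup.orderOf_coe, ← Subgroup.orderOf_coe]
  obtain ⟨k, hk⟩ := hyord
  have hyN : (z : G) ∈ Subgroup.normalizer (Q₁ : Set G) := hZN z.2
  have hyC : (z : G) ∉ Subgroup.centralizer (Q₁ : Set G) :=
    fun h => hzC (Subgroup.mem_subgroupOf.2 h)
  have hℓq : ℓ ≠ q := by
    rintro rfl
    have h1 : ℓ ∣ Nat.card (Subgroup.zpowers g) := hℓdvd.trans (Subgroup.index_dvd_card _)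
    rw [Nat.card_zpowers] at h1
    exact (Nat.Prime.coprime_iff_not_dvd hℓ).1 hcop.symm h1
  by_cases hℓp : ℓ = p
  · subst hℓp
    exact ⟨z, ⟨k, hk⟩, hyN, hyC⟩
  · exfalso
    have hYN : Subgroup.zpowers (z : G) ≤ Subgroup.normalizer (Q₁ : Set G) :=
      Subgroup.zpowers_le.2 hyN
    have hdvd := card_sup_dvd Q₁ (Subgroup.zpowers (z : G)) hYN
    have hYcard : Nat.card (Subgroup.zpowers (z : G)) = ℓ ^ k := by
      rw [Nat.card_zpowers, hk]
    obtain ⟨a, ha⟩ := (IsPGroup.iff_card.1 hQ₁)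
    have hk0 : k ≠ 0 := by
      rintro rfl
      rw [pow_zero, orderOf_eq_one_iff] at hk
      apply hyC
      rw [hk]
      exact Subgroup.one_mem _
    have ha0 : a ≠ 0 := by
      rintro rfl
      rw [pow_zero] at ha
      have hbot : Q₁ = ⊥ := Subgroup.eq_bot_of_card_eq Q₁ ha
      apply hyC
      rw [Subgroup.mem_centralizer_iff]
      intro h hh
      have hh' : h ∈ Q₁ := hh
      rw [hbot, Subgroup.mem_bot] at hh'
      rw [hh']
      simp
    have hHne : Q₁ ⊔ Subgroup.zpowers (z : G) ≠ ⊤ := by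
      intro htop
      have h1 : p ∣ Nat.card ↥(Q₁ ⊔ Subgroup.zpowers (z : G)) := by
        rw [htop, Subgroup.card_top]
        exact hpG
      have h2 : p ∣ q ^ a * ℓ ^ k := by
        rw [← ha, ← hYcard]
        exact h1.trans hdvd
      rcases (Nat.Prime.dvd_mul hp).1 h2 with h | h
      · exact hpq ((Nat.prime_dvd_prime_iff_eq hp hq).1 (hp.dvd_of_dvd_pow h))
      · exact hℓp ((Nat.prime_dvd_prime_iff_eq hp hℓ).1 (hp.dvd_of_dvd_pow h)).symm
    have hqH : q ∣ Nat.card ↥(Q₁ ⊔ Subgroup.zpowers (z : G)) := by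
      have h1 : q ∣ Nat.card Q₁ := by
        rw [ha]
        exact dvd_pow_self q ha0
      exact h1.trans (Subgroup.card_dvd_of_le le_sup_left)
    have hℓH : ℓ ∣ Nat.card ↥(Q₁ ⊔ Subgroup.zpowers (z : G)) := by
      have h1 : ℓ ∣ Nat.card (Subgroup.zpowers (z : G)) := by
        rw [hYcard]
        exact dvd_pow_self ℓ hk0
      exact h1.trans (Subgroup.card_dvd_of_le le_sup_right)
    rcases hE (Q₁ ⊔ Subgroup.zpowers (z : G)) hHne hqH ℓ hℓ hℓH with h | h
    · exact hℓp h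
    · exact hℓq h

end Cfsg.Agent.Lib.Helper4.MixFROB2
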