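import Mathlib
import Cfsg.Agent.Lib.Helper68.MixStmt

/-!
# S4017 piece ORB: orbits of a `p`-element on a normalized, not centralized subgroup
-/

set_option autoImplicit false

namespace Cfsg.Agent.Lib.Helper4.MixORB

open Cfsg.Agent.Lib.Helper68.MixStmt

universe u

theorem main : Cfsg.Agent.Lib.Helper68.MixStmt.ORB.{u} := by
  intro G _ _ p Q₁ y hp hy hyN hyC
  obtain ⟨e, he⟩ := hy
  -- a non-centralized element
  have hex : ∃ s₀ ∈ Q₁, y * s₀ * y⁻¹ ≠ s₀ := by
    by_contra hno
    push Not at hno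
    apply hyC
    rw [Subgroup.mem_centralizer_iff]
    intro h hh
    have h1 := hno h hh
    calc h * y = (y * h * y⁻¹) * y := by rw [h1]
      _ = y * h := by group
  obtain ⟨s₀, hs₀, hne⟩ := hex
  let f : G → G := fun g => y * g * y⁻¹
  have hf : ∀ g, f g = y * g * y⁻¹ := fun g => rfl
  have hiter : ∀ (k : ℕ) (g : G), f^[k] g = y ^ k * g * (y ^ k)⁻¹ := by
    intro k
    induction k with
    | zero => intro g; simp
    | succ k ih =>
      intro g
      rw [Function.iterate_succ_apply', ih, pow_succ', hf]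
      group
  have hQ : ∀ g ∈ Q₁, f g ∈ Q₁ := by
    intro g hg
    exact (Subgroup.mem_normalizer_iff.1 hyN g).1 hg
  have hQk : ∀ k : ℕ, f^[k] s₀ ∈ Q₁ := by
    intro k
    induction k with
    | zero => simpa using hs₀
    | succ k ih =>
      rw [Function.iterate_succ_apply']
      exact hQ _ ih
  have hne1 : ∀ k : ℕ, f^[k] s₀ ≠ 1 := by
    intro k h1
    rw [hiter] at h1
    have h2 : s₀ = 1 := by
      have h3 := congrArg (fun z => (y ^ k)⁻¹ * z * y ^ k) h1
      simpa [mul_assoc] using h3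
    apply hne
    rw [h2]
    group
  have hper : Function.IsPeriodicPt f (orderOf y) s₀ := by
    show f^[orderOf y] s₀ = s₀
    rw [hiter, pow_orderOf_eq_one]
    simp
  have hdvd : Function.minimalPeriod f s₀ ∣ p ^ e := he ▸ hper.minimalPeriod_dvd
  obtain ⟨j, hj, hdj⟩ := (Nat.dvd_prime_pow hp).1 hdvd
  have hj0 : j ≠ 0 := by
    rintro rfl
    rw [pow_zero] at hdj
    have hfix : Function.IsFixedPt f s₀ := Function.minimalPeriod_eq_one_iff_isFixedPt.1 hdj
    exact hne hfix
  have hpd : p ≤ Function.minimalPeriod f s₀ := by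
    rw [hdj]
    exact Nat.le_self_pow hj0 p
  have hinj : (Set.Iio (Function.minimalPeriod f s₀)).InjOn (fun k : ℕ => f^[k] s₀) :=
    Function.iterate_injOn_Iio_minimalPeriod
  have hOsub : (fun k : ℕ => f^[k] s₀) '' (Set.Iio (Function.minimalPeriod f s₀)) ⊆
      (Q₁ : Set G) \ {1} := by
    rintro _ ⟨k, -, rfl⟩
    exact ⟨hQk k, hne1 k⟩
  have hOcard : ((fun k : ℕ => f^[k] s₀) '' (Set.Iio (Function.minimalPeriod f s₀))).ncard =
      Function.minimalPeriod f s₀ := by
    rw [Set.InjOn.ncard_image hinj, Set.ncard_eq_toFinset_card']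
    simp
  have hQcard : ((Q₁ : Set G) \ {1}).ncard = Nat.card Q₁ - 1 := by
    rw [Set.ncard_sdiff_singleton_of_mem (Q₁.one_mem)]
    congr 1
  have hle : Function.minimalPeriod f s₀ ≤ Nat.card Q₁ - 1 := by
    rw [← hOcard, ← hQcard]
    exact Set.ncard_le_ncard hOsub (Set.toFinite _)
  have hQpos : 0 < Nat.card Q₁ := Nat.card_pos
  refine ⟨by omega, ?_⟩
  intro hcard s hs hs1 t ht ht1
  have hOeq : (fun k : ℕ => f^[k] s₀) '' (Set.Iio (Function.minimalPeriod f s₀)) =
      (Q₁ : Set G) \ {1} := by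
    apply Set.eq_of_subset_of_ncard_le hOsub _ (Set.toFinite _)
    rw [hOcard, hQcard]
    omega
  have hsO : s ∈ (fun k : ℕ => f^[k] s₀) '' (Set.Iio (Function.minimalPeriod f s₀)) := by
    rw [hOeq]
    exact ⟨hs, hs1⟩
  have htO : t ∈ (fun k : ℕ => f^[k] s₀) '' (Set.Iio (Function.minimalPeriod f s₀)) := by
    rw [hOeq]
    exact ⟨ht, ht1⟩
  obtain ⟨i, hi, rfl⟩ := hsO
  obtain ⟨l, hl, rfl⟩ := htO
  refine ⟨l + (Function.minimalPeriod f s₀ - i), ?_⟩
  rw [← hiter]
  show f^[l + (Function.minimalPeriod f s₀ - i)] (f^[i] s₀) = f^[l] s₀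
  rw [← Function.iterate_add_apply]
  have hi' : i < Function.minimalPeriod f s₀ := hi
  have e1 : l + (Function.minimalPeriod f s₀ - i) + i = l + Function.minimalPeriod f s₀ := by
    omega
  rw [e1, Function.iterate_add_apply, Function.iterate_minimalPeriod]

end Cfsg.Agent.Lib.Helper4.MixORB
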