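import Mathlib
import Cfsg.Agent.Lib.Helper4.Q8BlockB
import Cfsg.Agent.Lib.Helper16.Grouping
import Cfsg.Agent.Lib.Helper80.Integrality
import Cfsg.Agent.S0876

/-!
# A character of the principal 2-block with the central involution in its kernel does not vanish
at the elements of order 4

Setting of `Q8BlockB` (Sylow 2-subgroup of order 8, central involution `t`, one class of elements
`a` of order 4 with 2-nilpotent centralizer).  If `χ ∈ B₀` has `χ t = χ 1` and `χ a = 0`, then `χ`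
vanishes on the whole section of `a`, `4 ∣ χ 1`, and `|G| / 2 = ∑_{y odd} |χ y|² = χ 1 · μ` with `μ`
in the local ideal: a contradiction since `|G| / 8` is odd.
-/

set_option autoImplicit false

namespace Cfsg.Agent.Lib.Helper4.Q8BlockC

open Cfsg Cfsg.Agent.Lib.CT.Wedderburn Cfsg.Agent.Lib.Helper77.LocalRing
  Cfsg.Agent.Lib.CT.ThirdMain Cfsg.Agent.Lib.Helper75.Section Cfsg.Agent.Lib.Helper75.Section2
  Cfsg.Agent.Lib.Helper75.Section3 Cfsg.Agent.Lib.Helper75.PNilBlock
  Cfsg.Agent.Lib.Helper75.KleinFour2 Cfsg.Agent.Lib.Helper4.Q8BlockA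
  Cfsg.Agent.Lib.Helper4.Q8BlockB Cfsg.Agent.Lib.Helper16.CentralChar
open scoped ComplexConjugate

universe u
variable {G : Type u} [Group G]

/-- Vanishing on the section of `a`. -/
theorem apply_section_eq_zero [Finite G] (M : Ideal AlgInt) (hM : IsPModular 2 M) (a : G)
    (ha4 : orderOf a = 4)
    (K : Subgroup (Subgroup.centralizer ({a} : Set G))) [K.Normal] (hK : ¬ 2 ∣ Nat.card K)
    (hKi : K.index = 4) (χ : IrrCharacter G) (hχ : χ ∈ principalBlock M G)
    (h0 : (χ : G → ℂ) a = 0) (x y : G) (hx : IsConj x a) (hxy : Commute x y)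
    (hy : ¬ 2 ∣ orderOf y) : (χ : G → ℂ) (x * y) = 0 := by
  obtain ⟨c, hc⟩ := isConj_iff.mp hx
  have hcl := Cfsg.Agent.Lib.CT.Orth.irr_isClassFunction χ
  have hmem : c * y * c⁻¹ ∈ Subgroup.centralizer ({a} : Set G) := by
    rw [Subgroup.mem_centralizer_singleton_iff, ← hc]
    have h := hxy.eq
    calc c * y * c⁻¹ * (c * x * c⁻¹) = c * (y * x) * c⁻¹ := by group
      _ = c * (x * y) * c⁻¹ := by rw [h]
      _ = c * x * c⁻¹ * (c * y * c⁻¹) := by group
  have hord : ¬ 2 ∣ orderOf (⟨c * y * c⁻¹, hmem⟩ : Subgroup.centralizer ({a} : Set G)) := by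
    rw [← Subgroup.orderOf_coe]
    show ¬ 2 ∣ orderOf (c * y * c⁻¹)
    rw [← orderOf_eq_of_isConj (isConj_iff.mpr ⟨c, rfl⟩)]
    exact hy
  have h1 := Q8BlockA.apply_mul_of_mem M hM a ⟨2, by rw [ha4]; norm_num⟩ K hK hKi χ hχ
    ⟨c * y * c⁻¹, hmem⟩ hord
  have h2 : c * (x * y) * c⁻¹ = a * (c * y * c⁻¹) := by rw [← hc]; group
  rw [← hcl (x * y) c, h2, h1, h0]

/-- The degree is divisible by 4. -/
theorem four_dvd_degree [Finite G] (P : Sylow 2 G) (hP8 : Nat.card P = 8) (t a : G)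
    (ht2 : orderOf t = 2) (ha4 : orderOf a = 4) (htP : t ∈ (P : Subgroup G))
    (hconj : ∀ g : G, (∃ k : ℕ, orderOf g = 2 ^ k) → g = 1 ∨ g = t ∨ IsConj g a)
    (χ : IrrCharacter G) (hχt : (χ : G → ℂ) t = (χ : G → ℂ) 1) (h0 : (χ : G → ℂ) a = 0) :
    ∃ d : ℕ, (χ : G → ℂ) 1 = 4 * (d : ℂ) := by
  classical
  have hχ := isCharacter_of_irr χ.2
  have hcl := char_isClassFunction hχ
  have ht1 : t ≠ 1 := by
    rintro rfl
    simp at ht2
  have ha1 : a ≠ 1 := by
    rintro rfl
    simp at ha4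
  have := Fintype.ofFinite (P : Subgroup G)
  obtain ⟨d, hd⟩ := Cfsg.Agent.Lib.CT.Clifford.classInner_char_nat
    (Cfsg.Agent.Lib.CT.Ops.isCharacter_restrict (P : Subgroup G) hχ)
    (Cfsg.Agent.Lib.CT.Ops.isCharacter_one (G := (P : Subgroup G)))
  unfold classInner at hd
  simp only [map_one, mul_one] at hd
  have hval : ∀ x : (P : Subgroup G), (χ : G → ℂ) (x : G) =
      (if x = 1 then (χ : G → ℂ) 1 else 0) +
        (if x = ⟨t, htP⟩ then (χ : G → ℂ) 1 else 0) := by
    intro x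
    have hx2 : ∃ k, orderOf (x : G) = 2 ^ k := by
      have hdvd : orderOf (x : G) ∣ 2 ^ 3 := by
        rw [Subgroup.orderOf_coe]
        have := orderOf_dvd_natCard x
        rwa [hP8] at this
      obtain ⟨k, -, hk⟩ := (Nat.dvd_prime_pow Nat.prime_two).mp hdvd
      exact ⟨k, hk⟩
    rcases hconj (x : G) hx2 with h | h | h
    · have hx1 : x = 1 := Subtype.ext h
      have hne : x ≠ ⟨t, htP⟩ := by
        rw [hx1]
        intro h'
        exact ht1 (congrArg Subtype.val h').symm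
      rw [if_pos hx1, if_neg hne, add_zero, h]
    · have hxt : x = ⟨t, htP⟩ := Subtype.ext h
      have hne : x ≠ 1 := by
        rw [hxt]
        intro h'
        exact ht1 (congrArg Subtype.val h')
      rw [if_neg hne, if_pos hxt, zero_add, h, hχt]
    · have hord := orderOf_eq_of_isConj h
      have hx1 : x ≠ 1 := by
        intro h'
        rw [h', ha4] at hord
        simp at hord
      have hxt : x ≠ ⟨t, htP⟩ := by
        intro h'
        rw [h', ha4] at hord
        simp only at hord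
        rw [ht2] at hord
        norm_num at hord
      obtain ⟨c, hc⟩ := isConj_iff.mp h
      rw [if_neg hx1, if_neg hxt, add_zero, ← h0, ← hc, hcl]
  rw [Finset.sum_congr rfl (fun x _ => hval x), Finset.sum_add_distrib, Finset.sum_ite_eq',
    Finset.sum_ite_eq'] at hd
  simp only [Finset.mem_univ, if_true] at hd
  rw [hP8] at hd
  refine ⟨d, ?_⟩
  push_cast at hd
  linear_combination 4 * hd

/-- An element with centralizer of odd index commutes with a conjugate of `a`. -/
theorem exists_commute_conj [Finite G] (P : Sylow 2 G) (hP8 : Nat.card P = 8) (t a : G)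
    (hconj : ∀ g : G, (∃ k : ℕ, orderOf g = 2 ^ k) → g = 1 ∨ g = t ∨ IsConj g a)
    (r : G) (hidx : ¬ 2 ∣ (Subgroup.centralizer ({r} : Set G)).index) :
    ∃ x : G, Commute x r ∧ IsConj x a := by
  classical
  haveI : Fact (Nat.Prime 2) := ⟨Nat.prime_two⟩
  have h8G : 2 ^ 3 ∣ Nat.card G := by
    rw [← Subgroup.card_mul_index (P : Subgroup G), hP8]
    exact Dvd.intro _ rfl
  have h8C : 2 ^ 3 ∣ Nat.card (Subgroup.centralizer ({r} : Set G)) := by
    rw [← Subgroup.card_mul_index (Subgroup.centralizer ({r} : Set G))] at h8G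
    exact Nat.Coprime.dvd_of_dvd_mul_right
      (Nat.Coprime.pow_left 3 ((Nat.Prime.coprime_iff_not_dvd Nat.prime_two).mpr hidx)) h8G
  obtain ⟨Q, hQ⟩ := Sylow.exists_subgroup_card_pow_prime 2 h8C
  by_contra hno
  push_neg at hno
  have hcase : ∀ x : Q, ((x : Subgroup.centralizer ({r} : Set G)) : G) = 1 ∨
      ((x : Subgroup.centralizer ({r} : Set G)) : G) = t := by
    intro x
    have hx2 : ∃ k, orderOf ((x : Subgroup.centralizer ({r} : Set G)) : G) = 2 ^ k := by
      have hdvd : orderOf ((x : Subgroup.centralizer ({r} : Set G)) : G) ∣ 2 ^ 3 := by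
        rw [Subgroup.orderOf_coe, Subgroup.orderOf_coe]
        have := orderOf_dvd_natCard x
        rwa [hQ] at this
      obtain ⟨k, -, hk⟩ := (Nat.dvd_prime_pow Nat.prime_two).mp hdvd
      exact ⟨k, hk⟩
    rcases hconj _ hx2 with h | h | h
    · exact Or.inl h
    · exact Or.inr h
    · exfalso
      have hcm : ((x : Subgroup.centralizer ({r} : Set G)) : G) * r =
          r * ((x : Subgroup.centralizer ({r} : Set G)) : G) :=
        Subgroup.mem_centralizer_singleton_iff.mp (x : Subgroup.centralizer ({r} : Set G)).2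
      exact hno _ hcm h
  have hinj : Function.Injective (fun x : Q => decide (x = 1)) := by
    intro x y hxy
    have hxy' : decide (x = 1) = decide (y = 1) := hxy
    have hiff : x = 1 ↔ y = 1 := decide_eq_decide.mp hxy'
    by_cases hx : x = 1
    · rw [hx, hiff.mp hx]
    · have hy : y ≠ 1 := fun hy => hx (hiff.mpr hy)
      have hxt : ((x : Subgroup.centralizer ({r} : Set G)) : G) = t := by
        rcases hcase x with h | h
        · exact absurd (Subtype.ext (Subtype.ext h)) hx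
        · exact h
      have hyt : ((y : Subgroup.centralizer ({r} : Set G)) : G) = t := by
        rcases hcase y with h | h
        · exact absurd (Subtype.ext (Subtype.ext h)) hy
        · exact h
      exact Subtype.ext (Subtype.ext (hxt.trans hyt.symm))
  have hle := Nat.card_le_card_of_injective _ hinj
  rw [hQ] at hle
  simp at hle

/-- **A character of the principal block with `t` in its kernel does not vanish at `a`.** -/
theorem apply_ne_zero_of_ker [Finite G] (M : Ideal AlgInt) (hM : IsPModular 2 M)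
    (P : Sylow 2 G) (hP8 : Nat.card P = 8) (t a : G) (ht2 : orderOf t = 2)
    (htc : ∀ g : G, g * t = t * g) (htP : t ∈ (P : Subgroup G)) (ha4 : orderOf a = 4)
    (hconj : ∀ g : G, (∃ k : ℕ, orderOf g = 2 ^ k) → g = 1 ∨ g = t ∨ IsConj g a)
    (K : Subgroup (Subgroup.centralizer ({a} : Set G))) [K.Normal] (hK : ¬ 2 ∣ Nat.card K)
    (hKi : K.index = 4) (χ : IrrCharacter G) (hχ : χ ∈ principalBlock M G)
    (hχt : (χ : G → ℂ) t = (χ : G → ℂ) 1) : (χ : G → ℂ) a ≠ 0 := by
  classical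
  intro h0
  haveI : Fact (Nat.Prime 2) := ⟨Nat.prime_two⟩
  have hMp := isPrime_of_isPModular hM
  have := Fintype.ofFinite G
  have hcl := Cfsg.Agent.Lib.CT.Orth.irr_isClassFunction χ
  have hχc := isCharacter_of_irr χ.2
  obtain ⟨d, hd⟩ := four_dvd_degree P hP8 t a ht2 ha4 htP hconj χ hχt h0
  have hχ1 : (χ : G → ℂ) 1 ≠ 0 := irr_apply_one_ne_zero χ.2
  have hnorm := norm_pRegular M hM t a ht2 htc ha4 hconj K hK hKi χ hχ
  rw [h0, zero_mul, zero_div, sub_zero] at hnorm
  unfold classInner at hnorm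
  have hsumT : ∑ g : G, pRegularPart 2 (χ : G → ℂ) g * conj ((χ : G → ℂ) g) =
      ∑ g ∈ Finset.univ.filter (fun g : G => ¬ 2 ∣ orderOf g),
        (χ : G → ℂ) g * (χ : G → ℂ) g⁻¹ := by
    rw [Finset.sum_filter]
    refine Finset.sum_congr rfl fun g _ => ?_
    by_cases hg : 2 ∣ orderOf g
    · rw [pRegularPart_of_singular 2 _ hg, zero_mul, if_neg (not_not.mpr hg)]
    · rw [pRegularPart_of_regular 2 _ hg, if_pos hg, char_apply_inv hχc]
  have hTstab : ∀ x ∈ Finset.univ.filter (fun g : G => ¬ 2 ∣ orderOf g), ∀ h : G,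
      h * x * h⁻¹ ∈ Finset.univ.filter (fun g : G => ¬ 2 ∣ orderOf g) := by
    intro x hx h
    rw [Finset.mem_filter] at hx ⊢
    refine ⟨Finset.mem_univ _, ?_⟩
    rw [← orderOf_eq_of_isConj (isConj_iff.mpr ⟨h, rfl⟩)]
    exact hx.2
  obtain ⟨R, hRT, hR⟩ := Cfsg.Agent.Lib.Helper16.Grouping.sum_stable
    (Finset.univ.filter (fun g : G => ¬ 2 ∣ orderOf g)) hTstab
    (fun g => (χ : G → ℂ) g * (χ : G → ℂ) g⁻¹)
  have hinner : ∀ r ∈ R, ∑ x ∈ conjFinset r, (χ : G → ℂ) x * (χ : G → ℂ) x⁻¹ =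
      (χ : G → ℂ) 1 * (centralChar (χ : G → ℂ) r * (χ : G → ℂ) r⁻¹) := by
    intro r _
    have h1 : ∀ x ∈ conjFinset r, (χ : G → ℂ) x * (χ : G → ℂ) x⁻¹ =
        (χ : G → ℂ) r * (χ : G → ℂ) r⁻¹ := by
      intro x hx
      obtain ⟨c, hc⟩ := isConj_iff.mp (mem_conjFinset.mp hx)
      rw [← hc, hcl, show (c * r * c⁻¹)⁻¹ = c * r⁻¹ * c⁻¹ by group, hcl]
    rw [Finset.sum_congr rfl h1, Finset.sum_const, card_conjFinset, nsmul_eq_mul]
    unfold centralChar
    field_simp
  have hterm : ∀ r ∈ R, MemLocalIdeal M (centralChar (χ : G → ℂ) r * (χ : G → ℂ) r⁻¹) := by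
    intro r hr
    have hr2 : ¬ 2 ∣ orderOf r := (Finset.mem_filter.mp (hRT hr)).2
    have hblock := hχ r
    have hc1 : centralChar (fun _ : G => (1 : ℂ)) r =
        ((Subgroup.centralizer ({r} : Set G)).index : ℂ) := by
      unfold centralChar
      simp
    rw [hc1] at hblock
    by_cases hidx : 2 ∣ (Subgroup.centralizer ({r} : Set G)).index
    · have h1 : MemLocalIdeal M (centralChar (χ : G → ℂ) r) := by
        have h2 := memLocalIdeal_sub hMp (memLocalIdeal_natCast_of_dvd hM hidx) hblock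
        rwa [sub_sub_cancel] at h2
      exact memLocalIdeal_mul_right hMp h1 (memLocalRing_of_isIntegral hMp
        (Cfsg.Agent.Lib.Helper80.Integrality.isIntegral_irrCharacter χ r⁻¹))
    · have hcc : MemLocalRing M (centralChar (χ : G → ℂ) r) :=
        memLocalRing_of_isIntegral hMp
          (Cfsg.Agent.Lib.Helper80.Integrality.isIntegral_centralChar χ r)
      have h1 : MemLocalIdeal M ((χ : G → ℂ) r⁻¹) := by
        obtain ⟨x, hxr, hxa⟩ := exists_commute_conj P hP8 t a hconj r hidx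
        have hxr' : Commute x r⁻¹ := hxr.inv_right
        have hr2' : ¬ 2 ∣ orderOf r⁻¹ := by rwa [orderOf_inv]
        have hz := apply_section_eq_zero M hM a ha4 K hK hKi χ hχ h0 x r⁻¹ hxa hxr' hr2'
        have hxo : orderOf x = 2 ^ 2 := by rw [orderOf_eq_of_isConj hxa, ha4]; norm_num
        have hpa : IsPPart 2 (x * r⁻¹) x := ⟨r⁻¹, rfl, hxr', ⟨2, hxo⟩, hr2'⟩
        have hpb : IsPPart 2 r⁻¹ 1 :=
          ⟨r⁻¹, one_mul _, Commute.one_left _, ⟨0, by rw [orderOf_one, pow_zero]⟩, hr2'⟩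
        have hcong := (Cfsg.Agent.S0876.result 2 M hM (x * r⁻¹) r⁻¹ x 1 hpa hpb).mp
          (by rw [inv_mul_cancel_left, inv_one, one_mul]) χ
        rw [hz, zero_sub] at hcong
        exact memLocalIdeal_neg_iff.mp hcong
      exact memLocalIdeal_mul_left hMp hcc h1
  have hμ : MemLocalIdeal M (∑ r ∈ R, centralChar (χ : G → ℂ) r * (χ : G → ℂ) r⁻¹) :=
    memLocalIdeal_sum hMp R _ hterm
  rw [hsumT, hR, Finset.sum_congr rfl hinner, ← Finset.mul_sum] at hnorm
  have hcard : (Nat.card G : ℂ) = 8 * ((P : Subgroup G).index : ℂ) := by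
    rw [← Subgroup.card_mul_index (P : Subgroup G), hP8]
    push_cast
    ring
  have hne : (Nat.card G : ℂ) ≠ 0 := Nat.cast_ne_zero.mpr Nat.card_pos.ne'
  have hidx0 : ((P : Subgroup G).index : ℂ) ≠ 0 := by
    intro h
    rw [h, mul_zero] at hcard
    exact hne hcard
  have hd0 : (d : ℂ) ≠ 0 := by
    intro h
    rw [h, mul_zero] at hd
    exact hχ1 hd
  have hkey : ((P : Subgroup G).index : ℂ) =
      (d : ℂ) * ∑ r ∈ R, centralChar (χ : G → ℂ) r * (χ : G → ℂ) r⁻¹ := by
    rw [hcard, hd] at hnorm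
    field_simp at hnorm
    linear_combination (-1 / 8 : ℂ) * hnorm
  have hmem : MemLocalIdeal M (((P : Subgroup G).index : ℕ) : ℂ) := by
    rw [hkey]
    exact memLocalIdeal_mul_left hMp (memLocalRing_natCast hMp d) hμ
  exact P.not_dvd_index ((memLocalIdeal_natCast_iff hM _).mp hmem)

end Cfsg.Agent.Lib.Helper4.Q8BlockC
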