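import Mathlib
import Cfsg.Agent.Lib.Helper4.Q8BlockC
import Cfsg.Agent.S0925

/-!
# The principal 2-block has seven characters

Setting of `Q8BlockB`/`Q8BlockC`.  Evaluating the expansion of the 2-regular part `ψ°` of `ψ ∈ B₀`
at `t * y` shows that the 2-regular parts of `B₀` are spanned by those of
`B₀⁺ = {χ ∈ B₀ | χ t = χ 1}` and also by those of `B₀⁻ = B₀ ∖ B₀⁺`.  Since `B₀⁺` consists of
four characters with a linear relation on the 2-regular elements, `l(B₀) ≤ 3`, and
`l(B₀) ≤ |B₀⁻|`; with `2 l(B₀) + 1 = k(B₀) = 4 + |B₀⁻|` this gives `k(B₀) = 7`.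
-/

set_option autoImplicit false

namespace Cfsg.Agent.Lib.Helper4.Q8BlockD

open Cfsg Cfsg.Agent.Lib.CT.Wedderburn Cfsg.Agent.Lib.Helper77.LocalRing
  Cfsg.Agent.Lib.CT.ThirdMain Cfsg.Agent.Lib.Helper75.Section Cfsg.Agent.Lib.Helper75.Section2
  Cfsg.Agent.Lib.Helper75.Section3 Cfsg.Agent.Lib.Helper75.PNilBlock
  Cfsg.Agent.Lib.Helper75.KleinFour2 Cfsg.Agent.Lib.Helper75.BlockRank
  Cfsg.Agent.Lib.Helper4.Q8BlockA
  Cfsg.Agent.Lib.Helper4.Q8BlockB Cfsg.Agent.Lib.Helper4.Q8BlockC
open scoped ComplexConjugate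

universe u
variable {G : Type u} [Group G]

/-- The expansion of the 2-regular part of `ψ` with the coefficients twisted by the scalars of
the central involution `t`. -/
theorem pRegularPart_expand [Fintype G] [Fintype (IrrCharacter G)] (t : G)
    (ht2 : orderOf t = 2) (htc : ∀ g : G, g * t = t * g) (ε : IrrCharacter G → ℂ)
    (hε : ∀ χ : IrrCharacter G, ∀ g : G, (χ : G → ℂ) (t * g) = ε χ * (χ : G → ℂ) g)
    (ψ : IrrCharacter G) (s : ℂ) :
    pRegularPart 2 (ψ : G → ℂ) = ∑ χ : IrrCharacter G,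
      (classInner (pRegularPart 2 (ψ : G → ℂ)) (χ : G → ℂ) * (1 + s * ε χ)) •
        pRegularPart 2 (χ : G → ℂ) := by
  classical
  have hcl : IsClassFunction G (pRegularPart 2 (ψ : G → ℂ)) :=
    isClassFunction_pRegularPart 2 (char_isClassFunction (isCharacter_of_irr ψ.2))
  have hexp := Cfsg.Agent.Lib.CT.Orth.classFunction_expand_sum _ hcl
  funext g
  rw [Finset.sum_apply]
  by_cases hg : 2 ∣ orderOf g
  · rw [pRegularPart_of_singular 2 _ hg]
    symm
    apply Finset.sum_eq_zero
    intro χ _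
    rw [Pi.smul_apply, pRegularPart_of_singular 2 _ hg, smul_zero]
  · have htg : 2 ∣ orderOf (t * g) := by
      have hcop : (orderOf t).Coprime (orderOf g) := by
        rw [ht2]
        exact (Nat.Prime.coprime_iff_not_dvd Nat.prime_two).mpr hg
      have hcomm : Commute t g := (htc g).symm
      rw [hcomm.orderOf_mul_eq_mul_orderOf_of_coprime hcop, ht2]
      exact dvd_mul_right 2 _
    have h1 := hexp g
    have h2 := hexp (t * g)
    rw [pRegularPart_of_singular 2 _ htg] at h2
    have h3 : ∑ χ : IrrCharacter G, classInner (pRegularPart 2 (ψ : G → ℂ)) (χ : G → ℂ) *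
        (ε χ * (χ : G → ℂ) g) = 0 := by
      rw [h2]
      exact Finset.sum_congr rfl (fun χ _ => by rw [hε χ g])
    calc pRegularPart 2 (ψ : G → ℂ) g
        = (∑ χ : IrrCharacter G, classInner (pRegularPart 2 (ψ : G → ℂ)) (χ : G → ℂ) *
            (χ : G → ℂ) g) + s * (∑ χ : IrrCharacter G,
              classInner (pRegularPart 2 (ψ : G → ℂ)) (χ : G → ℂ) *
                (ε χ * (χ : G → ℂ) g)) := by rw [h3, mul_zero, add_zero, h1]
      _ = ∑ χ : IrrCharacter G,
            ((classInner (pRegularPart 2 (ψ : G → ℂ)) (χ : G → ℂ) * (1 + s * ε χ)) •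
              pRegularPart 2 (χ : G → ℂ)) g := by
          rw [Finset.mul_sum, ← Finset.sum_add_distrib]
          refine Finset.sum_congr rfl fun χ _ => ?_
          rw [Pi.smul_apply, pRegularPart_of_regular 2 _ hg, smul_eq_mul]
          ring

/-- The 2-regular parts of `B₀` lie in the span of those of a set `T` containing every `χ ∈ B₀`
whose twisted coefficient `1 + s ε_χ` does not vanish. -/
theorem span_le_of_sign [Finite G] (M : Ideal AlgInt) (hM : IsPModular 2 M) (t : G)
    (ht2 : orderOf t = 2) (htc : ∀ g : G, g * t = t * g) (ε : IrrCharacter G → ℂ)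
    (hε : ∀ χ : IrrCharacter G, ∀ g : G, (χ : G → ℂ) (t * g) = ε χ * (χ : G → ℂ) g)
    (s : ℂ) (T : Set (IrrCharacter G))
    (hT : ∀ χ ∈ principalBlock M G, 1 + s * ε χ ≠ 0 → χ ∈ T) :
    Submodule.span ℂ ((fun χ : IrrCharacter G => pRegularPart 2 (χ : G → ℂ)) ''
        principalBlock M G) ≤
      Submodule.span ℂ ((fun χ : IrrCharacter G => pRegularPart 2 (χ : G → ℂ)) '' T) := by
  classical
  haveI : Fact (Nat.Prime 2) := ⟨Nat.prime_two⟩
  have := Fintype.ofFinite G
  have := finite_irrCharacter G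
  have := Fintype.ofFinite (IrrCharacter G)
  have hPB : IsPBlock M (principalBlock M G) := ⟨triv G, rfl⟩
  rw [Submodule.span_le]
  rintro _ ⟨ψ, hψ, rfl⟩
  show pRegularPart 2 (ψ : G → ℂ) ∈ _
  rw [pRegularPart_expand t ht2 htc ε hε ψ s]
  refine Submodule.sum_mem _ fun χ _ => ?_
  by_cases hχB : χ ∈ principalBlock M G
  · by_cases hs : 1 + s * ε χ = 0
    · rw [hs, mul_zero, zero_smul]
      exact Submodule.zero_mem _
    · exact Submodule.smul_mem _ _ (Submodule.subset_span ⟨χ, hT χ hχB hs, rfl⟩)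
  · rw [classInner_pRegularPart_eq_zero 2 M hM (principalBlock M G) hPB ψ χ hψ hχB, zero_mul,
      zero_smul]
    exact Submodule.zero_mem _

theorem finrank_span_image_le {ι V : Type*} [AddCommGroup V] [Module ℂ V] [Finite ι]
    (f : ι → V) (T : Set ι) :
    Module.finrank ℂ (Submodule.span ℂ (f '' T)) ≤ T.ncard := by
  classical
  have := Fintype.ofFinite ι
  have h1 : f '' T = ↑(T.toFinset.image f) := by simp
  rw [h1]
  calc Module.finrank ℂ (Submodule.span ℂ (↑(T.toFinset.image f) : Set V))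
      ≤ (T.toFinset.image f).card := finrank_span_finset_le_card _
    _ ≤ T.toFinset.card := Finset.card_image_le
    _ = T.ncard := (Set.ncard_eq_toFinset_card' T).symm

/-- Block orthogonality between `a` and the 2-regular elements: `∑_{χ ∈ B₀} χ(a) χ° = 0`. -/
theorem relation [Finite G] [Fintype (IrrCharacter G)] (M : Ideal AlgInt)
    (hM : IsPModular 2 M) (a : G) (ha4 : orderOf a = 4)
    [DecidablePred (· ∈ principalBlock M G)] :
    ∑ χ : IrrCharacter G, (if χ ∈ principalBlock M G then (χ : G → ℂ) a else 0) •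
      pRegularPart 2 (χ : G → ℂ) = 0 := by
  classical
  haveI : Fact (Nat.Prime 2) := ⟨Nat.prime_two⟩
  have hPB : IsPBlock M (principalBlock M G) := ⟨triv G, rfl⟩
  have ha1 : a ≠ 1 := by
    rintro rfl
    simp at ha4
  funext g
  rw [Finset.sum_apply, Pi.zero_apply]
  by_cases hg : 2 ∣ orderOf g
  · apply Finset.sum_eq_zero
    intro χ _
    rw [Pi.smul_apply, pRegularPart_of_singular 2 _ hg, smul_zero]
  · have hpa : IsPPart 2 a a :=
      ⟨1, mul_one a, Commute.one_right a, ⟨2, by rw [ha4]; norm_num⟩,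
        by rw [orderOf_one]; norm_num⟩
    have hpb : IsPPart 2 g⁻¹ 1 :=
      ⟨g⁻¹, one_mul _, Commute.one_left _, ⟨0, by rw [orderOf_one, pow_zero]⟩,
        by rwa [orderOf_inv]⟩
    have hnc : ¬ IsConj a 1 := fun h => ha1 (isConj_one_left.mp h)
    have h := (Cfsg.Agent.S0925.result 2 M hM).2 a g⁻¹ a 1 hpa hpb hnc (principalBlock M G) hPB
    rw [inv_inv, finsum_mem_def, finsum_eq_sum_of_fintype] at h
    refine Eq.trans (Finset.sum_congr rfl fun χ _ => ?_) h
    rw [Pi.smul_apply, pRegularPart_of_regular 2 _ hg, smul_eq_mul]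
    by_cases hχ : χ ∈ principalBlock M G
    · rw [if_pos hχ, Set.indicator_of_mem hχ]
    · rw [if_neg hχ, Set.indicator_of_notMem hχ, zero_mul]

/-- The 2-regular part of the principal character lies in the span of the 2-regular parts of the
other characters of `B₀` not vanishing at `a`. -/
theorem span_ne_zero_le [Finite G] (M : Ideal AlgInt) (hM : IsPModular 2 M) (a : G)
    (ha4 : orderOf a = 4) :
    Submodule.span ℂ ((fun χ : IrrCharacter G => pRegularPart 2 (χ : G → ℂ)) ''
        {χ : IrrCharacter G | χ ∈ principalBlock M G ∧ (χ : G → ℂ) a ≠ 0}) ≤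
      Submodule.span ℂ ((fun χ : IrrCharacter G => pRegularPart 2 (χ : G → ℂ)) ''
        ({χ : IrrCharacter G | χ ∈ principalBlock M G ∧ (χ : G → ℂ) a ≠ 0} \ {triv G})) := by
  classical
  have := finite_irrCharacter G
  have := Fintype.ofFinite (IrrCharacter G)
  have hMp := isPrime_of_isPModular hM
  have hrel := relation M hM a ha4
  rw [← Finset.add_sum_erase Finset.univ _ (Finset.mem_univ (triv G))] at hrel
  have htriv : triv G ∈ principalBlock M G := triv_mem_principalBlock hMp
  rw [if_pos htriv] at hrel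
  have h1 : ((triv G : IrrCharacter G) : G → ℂ) a = 1 := rfl
  rw [h1, one_smul] at hrel
  have htriv_mem : pRegularPart 2 ((triv G : IrrCharacter G) : G → ℂ) ∈
      Submodule.span ℂ ((fun χ : IrrCharacter G => pRegularPart 2 (χ : G → ℂ)) ''
        ({χ : IrrCharacter G | χ ∈ principalBlock M G ∧ (χ : G → ℂ) a ≠ 0} \ {triv G})) := by
    rw [eq_neg_of_add_eq_zero_left hrel]
    apply Submodule.neg_mem
    refine Submodule.sum_mem _ fun χ hχ => ?_
    have hne : χ ≠ triv G := Finset.ne_of_mem_erase hχ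
    by_cases hχB : χ ∈ principalBlock M G
    · rw [if_pos hχB]
      by_cases h0 : (χ : G → ℂ) a = 0
      · rw [h0, zero_smul]
        exact Submodule.zero_mem _
      · exact Submodule.smul_mem _ _ (Submodule.subset_span ⟨χ, ⟨⟨hχB, h0⟩, hne⟩, rfl⟩)
    · rw [if_neg hχB, zero_smul]
      exact Submodule.zero_mem _
  rw [Submodule.span_le]
  rintro _ ⟨χ, hχ, rfl⟩
  by_cases hne : χ = triv G
  · rw [hne]
    exact htriv_mem
  · exact Submodule.subset_span ⟨χ, ⟨hχ, hne⟩, rfl⟩

/-- **The principal 2-block has exactly seven irreducible characters** (abstract setting: Sylow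
2-subgroup of order 8, central involution `t`, one class of elements `a` of order 4 with
`a * a = t`, and `C_G(a)` with a normal subgroup of odd order and index 4). -/
theorem card_principalBlock [Finite G] (M : Ideal AlgInt) (hM : IsPModular 2 M)
    (P : Sylow 2 G) (hP8 : Nat.card P = 8) (t a : G) (ht2 : orderOf t = 2)
    (htc : ∀ g : G, g * t = t * g) (htP : t ∈ (P : Subgroup G)) (ha4 : orderOf a = 4)
    (hat : a * a = t)
    (hconj : ∀ g : G, (∃ k : ℕ, orderOf g = 2 ^ k) → g = 1 ∨ g = t ∨ IsConj g a)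
    (K : Subgroup (Subgroup.centralizer ({a} : Set G))) [K.Normal] (hK : ¬ 2 ∣ Nat.card K)
    (hKi : K.index = 4) : Nat.card (principalBlock M G) = 7 := by
  classical
  have hMp := isPrime_of_isPModular hM
  have := finite_irrCharacter G
  have htt : t * t = 1 := by rw [← pow_two, ← ht2, pow_orderOf_eq_one]
  have ha1 : a ≠ 1 := by
    rintro rfl
    simp at ha4
  have hinv : IsConj a⁻¹ a := by
    rcases hconj a⁻¹ ⟨2, by rw [orderOf_inv, ha4]; norm_num⟩ with h | h | h
    · exact absurd (inv_eq_one.mp h) ha1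
    · exfalso
      have h1 : orderOf a⁻¹ = orderOf t := by rw [h]
      rw [orderOf_inv, ha4, ht2] at h1
      norm_num at h1
    · exact h
  obtain ⟨-, hcard4⟩ := values_and_ncard M hM t a ht2 ha4 hat hinv K hK hKi
  choose ε hε1 hεt hεmul using fun χ : IrrCharacter G => central_eps χ.2 t htt htc
  have hχ1 : ∀ χ : IrrCharacter G, (χ : G → ℂ) 1 ≠ 0 := fun χ => irr_apply_one_ne_zero χ.2
  have hTeq : {χ : IrrCharacter G | χ ∈ principalBlock M G ∧ (χ : G → ℂ) t = (χ : G → ℂ) 1} =
      {χ : IrrCharacter G | χ ∈ principalBlock M G ∧ (χ : G → ℂ) a ≠ 0} := by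
    ext χ
    constructor
    · rintro ⟨h1, h2⟩
      exact ⟨h1, apply_ne_zero_of_ker M hM P hP8 t a ht2 htc htP ha4 hconj K hK hKi χ h1 h2⟩
    · rintro ⟨h1, h2⟩
      exact ⟨h1, apply_t_of_ne_zero t a ht2 htc ha4 hat hinv χ h2⟩
  have htrivmem : triv G ∈ {χ : IrrCharacter G | χ ∈ principalBlock M G ∧ (χ : G → ℂ) a ≠ 0} :=
    ⟨triv_mem_principalBlock hMp, by
      have h1 : ((triv G : IrrCharacter G) : G → ℂ) a = 1 := rfl
      rw [h1]
      exact one_ne_zero⟩
  have hl3 : blockRank 2 (principalBlock M G) ≤ 3 := by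
    have hs1 := span_le_of_sign M hM t ht2 htc ε hεmul 1
      {χ : IrrCharacter G | χ ∈ principalBlock M G ∧ (χ : G → ℂ) a ≠ 0} (by
        intro χ hχ hs
        refine ⟨hχ, apply_ne_zero_of_ker M hM P hP8 t a ht2 htc htP ha4 hconj K hK hKi χ hχ ?_⟩
        rcases hε1 χ with h | h
        · rw [hεt χ, h, one_mul]
        · exfalso
          apply hs
          rw [h]
          ring)
    have hs2 := span_ne_zero_le M hM a ha4
    have h3 : ({χ : IrrCharacter G | χ ∈ principalBlock M G ∧ (χ : G → ℂ) a ≠ 0} \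
        {triv G}).ncard = 3 := by
      rw [Set.ncard_diff_singleton_of_mem htrivmem, hcard4]
    calc blockRank 2 (principalBlock M G)
        ≤ Module.finrank ℂ (Submodule.span ℂ
            ((fun χ : IrrCharacter G => pRegularPart 2 (χ : G → ℂ)) ''
              ({χ : IrrCharacter G | χ ∈ principalBlock M G ∧ (χ : G → ℂ) a ≠ 0} \
                {triv G}))) := Submodule.finrank_mono (hs1.trans hs2)
      _ ≤ ({χ : IrrCharacter G | χ ∈ principalBlock M G ∧ (χ : G → ℂ) a ≠ 0} \
            {triv G}).ncard := finrank_span_image_le _ _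
      _ = 3 := h3
  have hlm : blockRank 2 (principalBlock M G) ≤
      {χ : IrrCharacter G | χ ∈ principalBlock M G ∧
        (χ : G → ℂ) t ≠ (χ : G → ℂ) 1}.ncard := by
    have hs1 := span_le_of_sign M hM t ht2 htc ε hεmul (-1)
      {χ : IrrCharacter G | χ ∈ principalBlock M G ∧ (χ : G → ℂ) t ≠ (χ : G → ℂ) 1} (by
        intro χ hχ hs
        refine ⟨hχ, ?_⟩
        rcases hε1 χ with h | h
        · exfalso
          apply hs
          rw [h]
          ring
        · rw [hεt χ, h]
          intro h2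
          apply hχ1 χ
          linear_combination (-1 / 2 : ℂ) * h2)
    calc blockRank 2 (principalBlock M G)
        ≤ Module.finrank ℂ (Submodule.span ℂ
            ((fun χ : IrrCharacter G => pRegularPart 2 (χ : G → ℂ)) ''
              {χ : IrrCharacter G | χ ∈ principalBlock M G ∧
                (χ : G → ℂ) t ≠ (χ : G → ℂ) 1})) := Submodule.finrank_mono hs1
      _ ≤ _ := finrank_span_image_le _ _
  have hk := two_mul_blockRank_add_one M hM t a ht2 htc ha4 hconj K hK hKi
  have hsplit : Nat.card (principalBlock M G) =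
      {χ : IrrCharacter G | χ ∈ principalBlock M G ∧
        (χ : G → ℂ) t = (χ : G → ℂ) 1}.ncard +
      {χ : IrrCharacter G | χ ∈ principalBlock M G ∧
        (χ : G → ℂ) t ≠ (χ : G → ℂ) 1}.ncard := by
    rw [Nat.card_coe_set_eq, ← Set.ncard_union_eq
      (by
        rw [Set.disjoint_left]
        rintro χ ⟨-, h1⟩ ⟨-, h2⟩
        exact h2 h1)
      (Set.toFinite _) (Set.toFinite _)]
    congr 1
    ext χ
    constructor
    · intro h
      by_cases h1 : (χ : G → ℂ) t = (χ : G → ℂ) 1
      · exact Or.inl ⟨h, h1⟩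
      · exact Or.inr ⟨h, h1⟩
    · rintro (⟨h, -⟩ | ⟨h, -⟩) <;> exact h
  rw [hTeq, hcard4] at hsplit
  omega

end Cfsg.Agent.Lib.Helper4.Q8BlockD
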