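import Mathlib
import Cfsg.Agent.Lib.Helper4.Q8BlockD
import Cfsg.Agent.Lib.Helper4.Q8Group

/-!
# The principal 2-block of a group with quaternion Sylow 2-subgroup of order 8

If `S ≃* QuaternionGroup 2` is a Sylow 2-subgroup of `G`, `G` has no nontrivial normal subgroup of
odd order, `S ≠ G` and the centre of `G` has order 2 (the conclusion of the Brauer-Suzuki theorem),
then the principal 2-block of `G` has exactly seven irreducible characters.
-/

set_option autoImplicit false

namespace Cfsg.Agent.Lib.Helper4.Q8Main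

open Cfsg

universe u

theorem card_principalBlock_of_center {G : Type u} [Group G] [Finite G] (M : Ideal AlgInt)
    (hM : IsPModular 2 M) (S : Sylow 2 G) (e : (S : Subgroup G) ≃* QuaternionGroup 2)
    (hO : ∀ N : Subgroup G, N.Normal → Odd (Nat.card N) → N = ⊥)
    (hG : (S : Subgroup G) ≠ ⊤) (hc2 : Nat.card (Subgroup.center G) = 2) :
    Nat.card (principalBlock M G) = 7 := by
  haveI : Fact (Nat.Prime 2) := ⟨Nat.prime_two⟩
  haveI : Nontrivial (Subgroup.center G) := Finite.one_lt_card_iff_nontrivial.mp (by omega)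
  obtain ⟨c, hc⟩ := exists_ne (1 : Subgroup.center G)
  have hz1 : (c : G) ≠ 1 := fun h => hc (Subtype.ext h)
  have hz2 : orderOf (c : G) = 2 := by
    apply orderOf_eq_prime
    · have h1 : c ^ 2 = 1 := by rw [← hc2]; exact pow_card_eq_one'
      exact congrArg Subtype.val h1
    · exact hz1
  have hzc : ∀ g : G, g * (c : G) = (c : G) * g := Subgroup.mem_center_iff.mp c.2
  have hnc : ∀ N : Subgroup G, N.Normal → ¬ Subgroup.IsComplement' N (S : Subgroup G) := by
    intro N hN hcomp
    have h1 : (S : Subgroup G).index = Nat.card N := hcomp.index_eq_card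
    have hodd : Odd (Nat.card N) := by
      rw [← h1]
      exact Nat.not_even_iff_odd.mp (fun h => S.not_dvd_index h.two_dvd)
    have hbot := hO N hN hodd
    rw [hbot, Subgroup.card_bot] at h1
    exact hG (Subgroup.index_eq_one.mp h1)
  obtain ⟨hP8, hzS, a₁, ha4, haz, hconj, K, hKn, hK, hKi⟩ :=
    Cfsg.Agent.Lib.Helper4.Q8Group.q8_data S e hnc (c : G) hz2 hzc
  haveI := hKn
  exact Cfsg.Agent.Lib.Helper4.Q8BlockD.card_principalBlock M hM S hP8 (c : G) a₁ hz2 hzc hzS
    ha4 haz hconj K hK hKi

end Cfsg.Agent.Lib.Helper4.Q8Main
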