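import Mathlib
import Cfsg.Agent.Lib.Helper18.ReeHallStmt
import Cfsg.Agent.Lib.Helper4.ReeSpNH

/-! S1158 / S2357, piece KH: the number of elements of order `i ∣ q - 1`, `i > 2`. -/

set_option autoImplicit false

namespace Cfsg.Agent.Lib.Helper4.RHKH

open Cfsg.Agent.Lib.Helper42.ReeSpStmt Cfsg.Agent.Lib.Helper18.ReeHallStmt

universe u v

theorem main : KH.{u, v} := by
  intro G _ _ U H A K _ _ m hax hCnt hOddH hNH i hi2 hidvd
  classical
  unfold NHC at hNH
  have hq3 := three_le_qq m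
  have hq4 := ReeSpCT1.qq_mod4 m
  obtain ⟨j, hj⟩ : ∃ j, qq m = 2 * j + 3 := ⟨(qq m - 3) / 2, by omega⟩
  have hkodd : Odd (j + 1) := by rw [Nat.odd_iff]; omega
  have e1 : 2 * j + 3 - 1 = 2 * (j + 1) := by omega
  have hcardH : Nat.card H = 2 * (j + 1) := by rw [hax.cardH, hj, e1]
  obtain ⟨h₀, hh₀, ho, hgen⟩ := ReeSpCT1.exists_gen H hax.cycH
  rw [hcardH] at ho
  have hiff := ReeSpCT1.odd_iff H h₀ (j + 1) hkodd hh₀ ho hgen
  have hidvd' : i ∣ 2 * (j + 1) := by rw [hj, e1] at hidvd; exact hidvd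
  have hsq : ∀ y ∈ H, y ^ 2 ∈ H ∧ Odd (orderOf (y ^ 2)) := by
    intro y hy
    obtain ⟨a, rfl⟩ := hgen y hy
    apply (hiff _).mpr
    rw [Subgroup.mem_zpowers_iff]
    refine ⟨a, ?_⟩
    rw [← zpow_natCast h₀ 2, ← zpow_mul, mul_comm, zpow_mul, zpow_natCast]
  have h := hCnt G H (fun g => orderOf g = i)
    (fun g x hg => by
      show orderOf (x * g * x⁻¹) = i
      rw [ReeSpNH.ord_conj]; exact hg)
    (by
      intro g y hy hyi hgy
      have hy2 := hsq y hy
      have hyi' : orderOf y = i := hyi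
      have hy21 : y ^ 2 ≠ 1 := by
        intro h2
        have h3 : orderOf y ∣ 2 := orderOf_dvd_of_pow_eq_one h2
        rw [hyi'] at h3
        have h4 := Nat.le_of_dvd (by norm_num) h3
        omega
      refine ReeSpNH.normH hax g (y ^ 2) hy2.1 hy21 hy2.2 ?_
      have e : g * y ^ 2 * g⁻¹ = (g * y * g⁻¹) ^ 2 := conj_pow.symm
      rw [e]; exact H.pow_mem hgy 2)
    (by
      intro g hg
      have hg' : orderOf g = i := hg
      rcases Nat.eq_two_pow_or_exists_odd_prime_and_dvd i with ⟨a, ha⟩ | ⟨p, hp, hpi, hpodd⟩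
      · exfalso
        have ha2 : 2 ≤ a := by
          by_contra hlt
          have h5 : a ≤ 1 := by omega
          have h6 : 2 ^ a ≤ 2 ^ 1 := Nat.pow_le_pow_right (by norm_num) h5
          omega
        have h4 : 4 ∣ i := by
          rw [ha]; exact Dvd.dvd.trans (by norm_num : (4 : ℕ) ∣ 2 ^ 2) (pow_dvd_pow 2 ha2)
        have h4' : 4 ∣ 2 * (j + 1) := h4.trans hidvd'
        rw [Nat.odd_iff] at hkodd
        omega
      · have hp2 : p ≠ 2 := by
          rintro rfl
          exact absurd hpodd (by decide)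
        exact hOddH g p hp hp2 (by rw [hg']; exact hpi) (hpi.trans hidvd))
  have hcnt : Nat.card {y : ↥H // orderOf (y : G) = i} = Nat.totient i := by
    haveI := hax.cycH
    haveI : Fintype ↥H := Fintype.ofFinite _
    have h1 := IsCyclic.card_orderOf_eq_totient (α := ↥H) (d := i)
      (by rw [← Nat.card_eq_fintype_card, hcardH]; exact hidvd')
    rw [← h1, Nat.card_eq_fintype_card, Fintype.card_subtype]
    apply congrArg
    ext y
    simp only [Finset.mem_filter, Finset.mem_univ, true_and, Subgroup.orderOf_coe]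
  beta_reduce at h
  rw [hcnt, hNH, hax.card, hj, e1] at h
  rw [hj]
  have hpos : 0 < 2 * (j + 1) := by omega
  apply Nat.eq_of_mul_eq_mul_left hpos
  calc 2 * (j + 1) * (2 * Nat.card {g : G // orderOf g = i})
      = Nat.card {g : G // orderOf g = i} * (2 * (2 * (j + 1))) := by ring
    _ = Nat.totient i * ((2 * j + 3) ^ 3 * (2 * (j + 1)) * ((2 * j + 3) ^ 3 + 1)) := h
    _ = 2 * (j + 1) * (Nat.totient i * (2 * j + 3) ^ 3 * ((2 * j + 3) ^ 3 + 1)) := by ring

end Cfsg.Agent.Lib.Helper4.RHKH
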