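import Mathlib
import Cfsg.Agent.Lib.Helper18.ReeHallStmt
import Cfsg.Agent.Lib.Helper97.RHCONJH
import Cfsg.Agent.Lib.Helper4.ReeSpNH

/-! S1158, piece NRMH: the subgroup of index 2 of `H` and the normalizers of its subgroups. -/

set_option autoImplicit false

namespace Cfsg.Agent.Lib.Helper4.RHNRMH

open Cfsg.Agent.Lib.Helper42.ReeSpStmt Cfsg.Agent.Lib.Helper18.ReeHallStmt

universe u v

theorem main : NrmH.{u, v} := by
  intro G _ _ U H A K _ _ m hax hNH
  classical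
  unfold NHC at hNH
  have hm := hax.hm
  have hq27 : 27 ≤ qq m := by
    calc 27 = 3 ^ 3 := by norm_num
      _ ≤ 3 ^ (2 * m + 1) := Nat.pow_le_pow_right (by norm_num) (by omega)
  have hq4 := ReeSpCT1.qq_mod4 m
  obtain ⟨j, hj⟩ : ∃ j, qq m = 2 * j + 3 := ⟨(qq m - 3) / 2, by omega⟩
  have hkodd : Odd (j + 1) := by rw [Nat.odd_iff]; omega
  have e1 : 2 * j + 3 - 1 = 2 * (j + 1) := by omega
  have hcardH : Nat.card H = 2 * (j + 1) := by rw [hax.cardH, hj, e1]
  obtain ⟨h₀, hh₀, ho, hgen⟩ := ReeSpCT1.exists_gen H hax.cycH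
  rw [hcardH] at ho
  have hiff := ReeSpCT1.odd_iff H h₀ (j + 1) hkodd hh₀ ho hgen
  have hcardB : Nat.card (Subgroup.zpowers (h₀ ^ 2)) = j + 1 := by
    rw [Nat.card_zpowers, orderOf_pow' h₀ (by norm_num : (2 : ℕ) ≠ 0), ho,
      Nat.gcd_eq_right (dvd_mul_right 2 (j + 1)), Nat.mul_div_cancel_left (j + 1) (by norm_num)]
  have hBH : Subgroup.zpowers (h₀ ^ 2) ≤ H := fun a ha => ((hiff a).mpr ha).1
  have hBne : Subgroup.zpowers (h₀ ^ 2) ≠ ⊥ := by
    intro h
    rw [h, Subgroup.card_bot] at hcardB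
    omega
  have key : ∀ A₀ : Subgroup G, A₀ ≤ Subgroup.zpowers (h₀ ^ 2) → A₀ ≠ ⊥ →
      Subgroup.normalizer (A₀ : Set G) = Subgroup.normalizer (H : Set G) := by
    intro A₀ hA₀ hne
    obtain ⟨x, hx, hx1⟩ : ∃ x ∈ A₀, x ≠ 1 := by
      by_contra hcon
      push_neg at hcon
      exact hne ((Subgroup.eq_bot_iff_forall _).mpr hcon)
    have hxH : x ∈ H := hBH (hA₀ hx)
    have hxodd : Odd (orderOf x) := ((hiff x).mpr (hA₀ hx)).2
    apply le_antisymm
    · intro g hg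
      have hgx : g * x * g⁻¹ ∈ A₀ := (Subgroup.mem_normalizer_iff.mp hg x).mp hx
      exact ReeSpNH.normH hax g x hxH hx1 hxodd (hBH (hA₀ hgx))
    · intro g hg
      have hmap : A₀.map (MulAut.conj g).toMonoidHom = A₀ := by
        refine Cfsg.Agent.Lib.Helper97.RHCONJH.eq_of_card_eq_of_le_cyclic H _ _ hax.cycH ?_
          (hA₀.trans hBH) (Nat.card A₀) Nat.card_pos ?_ rfl
        · rintro _ ⟨z, hz, rfl⟩
          exact (Subgroup.mem_normalizer_iff.mp hg z).mp (hBH (hA₀ hz))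
        · exact Subgroup.card_map_of_injective (MulAut.conj g).injective
      rw [Subgroup.mem_normalizer_iff]
      intro z
      constructor
      · intro hz
        rw [← hmap]
        exact ⟨z, hz, rfl⟩
      · intro hz
        rw [← hmap] at hz
        obtain ⟨w, hw, hwz⟩ := hz
        have h1 : g * w * g⁻¹ = g * z * g⁻¹ := hwz
        have h2 : w = z := mul_left_cancel (mul_right_cancel h1)
        rw [← h2]; exact hw
  refine ⟨Subgroup.zpowers (h₀ ^ 2), inferInstance, ?_, ?_, ?_⟩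
  · rw [hcardB, hj, e1]; omega
  · rw [key _ le_rfl hBne, hNH]
  · intro A₀ hA₀ hne
    rw [key A₀ hA₀ hne, key _ le_rfl hBne]

end Cfsg.Agent.Lib.Helper4.RHNRMH
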