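import Mathlib
import Cfsg.Agent.Lib.Helper18.ReeOutStmt

/-!
# S2127 piece CENTER: the centre of `G` is trivial
-/

set_option autoImplicit false

namespace Cfsg.Agent.Lib.Helper4.ReeOutCENTER

open Cfsg.Agent.Lib.Helper18.ReeOutStmt

universe u v

theorem main : Cfsg.Agent.Lib.Helper18.ReeOutStmt.CENTER.{u, v} := by
  intro G _ K _ _ m φ x e hp hsimple
  rcases (Subgroup.Normal.eq_bot_or_eq_top (inferInstance : (Subgroup.center G).Normal)) with h | h
  · exact h
  · exfalso
    have hc : x 1 0 0 ∈ Subgroup.center G := by rw [h]; exact Subgroup.mem_top _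
    have hcomm : x 0 1 0 * x 1 0 0 = x 1 0 0 * x 0 1 0 :=
      (Subgroup.mem_center_iff.1 hc) (x 0 1 0)
    rw [hp.x_mul, hp.x_mul] at hcomm
    have h3 := (hp.x_inj _ _ _ _ _ _ hcomm).2.2
    simp at h3
end Cfsg.Agent.Lib.Helper4.ReeOutCENTER
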