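import Mathlib
import Cfsg.Agent.Lib.Helper18.ReeOutStmt

/-!
# S2127 piece STAB: the two-point stabilizer `N(P) ∩ N(Q)` is `H`, by orders
-/

set_option autoImplicit false

namespace Cfsg.Agent.Lib.Helper4.ReeOutSTAB

open Cfsg.Agent.Lib.Helper18.ReeOutStmt
open scoped Pointwise

universe u

/-- a subgroup conjugating a Sylow subgroup into itself normalizes it -/
theorem le_normalizer_of_conj {G : Type u} [Group G] [Finite G] {p : ℕ} [Fact p.Prime]
    (S : Sylow p G) (H : Subgroup G)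
    (hS : ∀ h ∈ H, ∀ u ∈ (S : Subgroup G), h * u * h⁻¹ ∈ (S : Subgroup G)) :
    H ≤ Subgroup.normalizer ((S : Subgroup G) : Set G) := by
  intro h hh
  change h ∈ Subgroup.normalizer (S : Set G)
  rw [← Sylow.smul_eq_iff_mem_normalizer]
  have hle : ((h • S : Sylow p G) : Subgroup G) ≤ (S : Subgroup G) := by
    intro y hy
    rw [Sylow.coe_subgroup_smul, Subgroup.mem_smul_pointwise_iff_exists] at hy
    obtain ⟨u, hu, rfl⟩ := hy
    exact hS h hh u hu
  exact Sylow.ext ((h • S).is_maximal' S.isPGroup' hle).symm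

theorem main : Cfsg.Agent.Lib.Helper18.ReeOutStmt.STAB.{u} := by
  intro G _ _ p _ P Q H hTI hReg hQP hcard hG hHP hHQ
  have hHle : H ≤ Subgroup.normalizer ((P : Subgroup G) : Set G) ⊓
      Subgroup.normalizer ((Q : Subgroup G) : Set G) :=
    le_inf (le_normalizer_of_conj P H hHP) (le_normalizer_of_conj Q H hHQ)
  -- `P ∩ N(Q) = 1`
  have hPD : ∀ u ∈ (P : Subgroup G), u ∈ Subgroup.normalizer ((Q : Subgroup G) : Set G) →
      u = 1 := by
    intro u hu huD
    have h1 : u ∈ (P : Subgroup G) ⊓ Subgroup.normalizer ((Q : Subgroup G) : Set G) :=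
      ⟨hu, huD⟩
    change u ∈ (P : Subgroup G) ⊓ Subgroup.normalizer (Q : Set G) at h1
    rw [IsPGroup.inf_normalizer_sylow P.isPGroup' Q, hTI P Q (Ne.symm hQP)] at h1
    exact (Subgroup.mem_bot).1 h1
  -- `|N(P)| = |P| |H|`
  have hN : Nat.card ↥(Subgroup.normalizer ((P : Subgroup G) : Set G)) *
      (Nat.card ↥(P : Subgroup G) + 1) = Nat.card G := by
    rw [← hcard, Sylow.card_eq_index_normalizer P]
    exact Subgroup.card_mul_index (Subgroup.normalizer (P : Set G))
  have hN' : Nat.card ↥(Subgroup.normalizer ((P : Subgroup G) : Set G)) =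
      Nat.card ↥(P : Subgroup G) * Nat.card ↥H := by
    rw [hG] at hN
    exact Nat.eq_of_mul_eq_mul_right (Nat.succ_pos _) hN
  -- injection `P × D → N(P)`
  have hinj : Nat.card (↥(P : Subgroup G) ×
      ↥(Subgroup.normalizer ((P : Subgroup G) : Set G) ⊓
        Subgroup.normalizer ((Q : Subgroup G) : Set G))) ≤
      Nat.card ↥(Subgroup.normalizer ((P : Subgroup G) : Set G)) := by
    apply Nat.card_le_card_of_injective
      (fun x : ↥(P : Subgroup G) × ↥(Subgroup.normalizer ((P : Subgroup G) : Set G) ⊓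
        Subgroup.normalizer ((Q : Subgroup G) : Set G)) =>
        (⟨x.1.1 * x.2.1, mul_mem (Subgroup.le_normalizer x.1.2) x.2.2.1⟩ :
          ↥(Subgroup.normalizer ((P : Subgroup G) : Set G))))
    rintro ⟨⟨u, hu⟩, ⟨d, hd⟩⟩ ⟨⟨u', hu'⟩, ⟨d', hd'⟩⟩ h
    have h' : u * d = u' * d' := congrArg Subtype.val h
    have h1 : u'⁻¹ * u = d' * d⁻¹ := by
      rw [eq_mul_inv_iff_mul_eq, mul_assoc, h', inv_mul_cancel_left]
    have h2 : u'⁻¹ * u = 1 := by
      apply hPD _ (mul_mem (inv_mem hu') hu)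
      rw [h1]
      exact mul_mem hd'.2 (inv_mem hd.2)
    have hu_eq : u = u' := by
      rw [inv_mul_eq_one] at h2
      exact h2.symm
    subst hu_eq
    have hd_eq : d = d' := mul_left_cancel h'
    subst hd_eq
    rfl
  rw [Nat.card_prod, hN'] at hinj
  have hPpos : 0 < Nat.card ↥(P : Subgroup G) := Nat.card_pos
  have hDle : Nat.card ↥(Subgroup.normalizer ((P : Subgroup G) : Set G) ⊓
      Subgroup.normalizer ((Q : Subgroup G) : Set G)) ≤ Nat.card ↥H :=
    Nat.le_of_mul_le_mul_left hinj hPpos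
  exact (Subgroup.eq_of_le_of_card_ge hHle hDle).symm

end Cfsg.Agent.Lib.Helper4.ReeOutSTAB
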