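import Mathlib
import Cfsg.Prelude.Def_Involutions

set_option autoImplicit false

namespace Cfsg.Agent.Lib.Helper4.SE

variable {G : Type*} [Group G]

theorem mem_map_conj (H : Subgroup G) (g x : G) :
    x ∈ H.map (MulAut.conj g).toMonoidHom ↔ g⁻¹ * x * g ∈ H := by
  rw [Subgroup.mem_map]
  constructor
  · rintro ⟨h, hh, rfl⟩
    have : g⁻¹ * ((MulAut.conj g).toMonoidHom h) * g = h := by
      show g⁻¹ * (g * h * g⁻¹) * g = h
      group
    rw [this]; exact hh
  · intro hx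
    refine ⟨g⁻¹ * x * g, hx, ?_⟩
    show g * (g⁻¹ * x * g) * g⁻¹ = x
    group

theorem no_involution_of_odd (K : Subgroup G) (hodd : Odd (Nat.card K)) {s : G} (hs : s ∈ K) :
    orderOf s ≠ 2 := by
  intro h
  have hd : orderOf s ∣ Nat.card K := Subgroup.orderOf_dvd_natCard K hs
  rw [h] at hd
  exact (Nat.not_even_iff_odd.mpr hodd) (even_iff_two_dvd.mpr hd)

theorem exists_involution_of_not_odd [Finite G] (K : Subgroup G) (h : ¬ Odd (Nat.card K)) :
    ∃ s ∈ K, orderOf s = 2 := by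
  rw [Nat.not_odd_iff_even] at h
  obtain ⟨s, hs⟩ := exists_prime_orderOf_dvd_card' (G := K) 2 h.two_dvd
  exact ⟨s.1, s.2, by rw [Subgroup.orderOf_coe]; exact hs⟩

theorem smul_mk_eq_iff (H : Subgroup G) (t g : G) :
    t • (g : G ⧸ H) = (g : G ⧸ H) ↔ g⁻¹ * t * g ∈ H := by
  rw [MulAction.Quotient.smul_mk, QuotientGroup.eq]
  have h1 : (t • g)⁻¹ * g = (g⁻¹ * t * g)⁻¹ := by
    rw [smul_eq_mul]; group
  rw [h1, inv_mem_iff]

/-- In a strongly embedded subgroup, an involution of `H` conjugated into `H` by `g`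
forces `g ∈ H`. -/
theorem mem_of_conj_mem {H : Subgroup G} (hH : Cfsg.IsStronglyEmbedded H) {t g : G}
    (ht : t ∈ H) (ht2 : orderOf t = 2) (hg : g⁻¹ * t * g ∈ H) : g ∈ H := by
  by_contra hgH
  have hodd := hH.2.2 g hgH
  have hmem : t ∈ H ⊓ H.map (MulAut.conj g).toMonoidHom :=
    Subgroup.mem_inf.mpr ⟨ht, (mem_map_conj H g t).mpr hg⟩
  exact no_involution_of_odd _ hodd hmem ht2

/-- Criterion for strong embedding: no involution of `H` is conjugated into `H` by an element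
outside `H`. -/
theorem stronglyEmbedded_of [Finite G] {H : Subgroup G} (hne : H ≠ ⊤) (heven : Even (Nat.card H))
    (h : ∀ s g : G, s ∈ H → orderOf s = 2 → g⁻¹ * s * g ∈ H → g ∈ H) :
    Cfsg.IsStronglyEmbedded H := by
  refine ⟨hne, heven, fun g hg => ?_⟩
  by_contra hnodd
  obtain ⟨s, hs, hs2⟩ := exists_involution_of_not_odd _ hnodd
  rw [Subgroup.mem_inf, mem_map_conj] at hs
  exact hg (h s g hs.1 hs2 hs.2)

end Cfsg.Agent.Lib.Helper4.SE
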