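import Mathlib
import Cfsg.Agent.Lib.Helper4.Invol
import Cfsg.Agent.Lib.Helper4.BF

set_option autoImplicit false

namespace Cfsg.Agent.Lib.Helper4.Simple

variable {G : Type*} [Group G]

/-- In a simple group the action on the cosets of a proper subgroup is faithful. -/
theorem toPermHom_injective [IsSimpleGroup G] (H : Subgroup G) (hH : H ≠ ⊤) :
    Function.Injective (MulAction.toPermHom G (G ⧸ H)) := by
  rw [← MonoidHom.ker_eq_bot_iff]
  rcases (MonoidHom.normal_ker (MulAction.toPermHom G (G ⧸ H))).eq_bot_or_eq_top with h | h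
  · exact h
  · exfalso
    apply hH
    rw [← Subgroup.normalCore_eq_ker] at h
    exact top_le_iff.mp (h ▸ Subgroup.normalCore_le H)

/-- A simple group with a proper subgroup of index `k` has order at most `k!`. -/
theorem card_le_factorial_index [Finite G] [IsSimpleGroup G] (H : Subgroup G) (hH : H ≠ ⊤) :
    Nat.card G ≤ (H.index).factorial := by
  have h1 := Nat.card_le_card_of_injective _ (toPermHom_injective H hH)
  rw [Nat.card_perm] at h1
  exact h1

/-- A simple group with a proper subgroup of index `k` has order dividing `k!`. -/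
theorem card_dvd_factorial_index [Finite G] [IsSimpleGroup G] (H : Subgroup G) (hH : H ≠ ⊤) :
    Nat.card G ∣ (H.index).factorial := by
  have h1 := Subgroup.card_dvd_of_injective _ (toPermHom_injective H hH)
  rw [Nat.card_perm] at h1
  exact h1

/-- The class of an involution consists of involutions, so `|G| ≤ n * |C(t)|`. -/
theorem card_le_ninv_mul [Finite G] (t : G) (ht : orderOf t = 2) :
    Nat.card G ≤ BF.ninv G * Nat.card (Subgroup.centralizer ({t} : Set G)) := by
  rw [← Invol.card_conj_mul_card_centralizer t]
  apply Nat.mul_le_mul_right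
  unfold BF.ninv
  apply Nat.card_le_card_of_injective
    (fun v : {v : G // IsConj t v} => (⟨v.1, by
      obtain ⟨g, hg⟩ := isConj_iff.mp v.2
      rw [← hg, Invol.orderOf_conj]; exact ht⟩ : {t : G // orderOf t = 2}))
  intro a b h
  have h1 : a.1 = b.1 := congrArg (fun w : {t : G // orderOf t = 2} => w.1) h
  exact Subtype.ext h1

theorem ninv_pos [Finite G] (t : G) (ht : orderOf t = 2) : 0 < BF.ninv G := by
  unfold BF.ninv
  rw [Nat.card_pos_iff]
  exact ⟨⟨⟨t, ht⟩⟩, inferInstance⟩

end Cfsg.Agent.Lib.Helper4.Simple
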