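import Mathlib
import Cfsg.Agent.Lib.Helper41.TMStmt

/-!
# S5987 piece FXTYPE (minus form; second seat, helper4)

The type of the fixed space: `Plus (Fx x) ↔ Even i ∧ Odd ((2 d - finrank Fx) / i)`.
-/

set_option autoImplicit false

universe u

namespace Cfsg.Agent.Lib.Helper4.TMFXTYPE

open Cfsg.Agent.Lib.Helper41.TMStmt
open Cfsg.Agent.Lib.Helper45.OMiStmt (M Aniso FxM NDegM StabM)
open Cfsg.Agent.Lib.Helper41.TMTwoStmt (TSubM PlusM FixTSM)

theorem main (hTop : Top.{u}) (hFix : FixND.{u}) (hPerp : Perp.{u}) (hInv : InvDim.{u})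
    (hHalf : HalfOdd.{u}) (hTE : TypeEven.{u}) (hTwo : TwoMinusG.{u}) : FxType.{u} := by
  intro F _ _ a₀ b₀ hab p _ _ d r _ hd hr2 hrp x hx hxr
  have hND : NDegM d F a₀ b₀ (FxM (x : Matrix (M d) (M d) F)) :=
    hFix F a₀ b₀ hab p d r hrp x hx hxr
  obtain ⟨E, horth, hEND, hinf, hdim, hstab⟩ :=
    hPerp F a₀ b₀ hab d hd (FxM (x : Matrix (M d) (M d) F)) hND
  have hStabFx : StabM (x : Matrix (M d) (M d) F) (FxM (x : Matrix (M d) (M d) F)) := by
    rintro _ ⟨v, hv, rfl⟩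
    have hv' : Matrix.toLin' (x : Matrix (M d) (M d) F) v = v := by
      have h1 := LinearMap.mem_ker.mp (show v ∈ LinearMap.ker
        (Matrix.toLin' (x : Matrix (M d) (M d) F) - LinearMap.id) from hv)
      rw [LinearMap.sub_apply, LinearMap.id_apply, sub_eq_zero] at h1
      exact h1
    rw [hv']
    exact hv
  have hStabE : StabM (x : Matrix (M d) (M d) F) E := hstab x hx hStabFx
  have hEinf : E ⊓ FxM (x : Matrix (M d) (M d) F) = ⊥ := by rw [inf_comm]; exact hinf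
  have hcard : Module.finrank F (M d → F) = 2 * d := by
    rw [Module.finrank_fintype_fun_eq_card]
    simp only [M, Fintype.card_sum, Fintype.card_fin]
    omega
  have hsup : FxM (x : Matrix (M d) (M d) F) ⊔ E = ⊤ := by
    apply Submodule.eq_top_of_finrank_eq
    have h1 := Submodule.finrank_sup_add_finrank_inf_eq (FxM (x : Matrix (M d) (M d) F)) E
    rw [hinf, finrank_bot, add_zero] at h1
    rw [h1, hdim, hcard]
  have hNotTop : ¬ PlusM d F a₀ b₀ ⊤ := (hTop F a₀ b₀ hab d).2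
  have hfinE : Module.finrank F ↥E =
      2 * d - Module.finrank F ↥(FxM (x : Matrix (M d) (M d) F)) := by omega
  have horth' : ∀ u ∈ E, ∀ v ∈ FxM (x : Matrix (M d) (M d) F),
      QuadraticMap.polar (Cfsg.quadFormMinus (d - 1) F a₀ b₀) u v = 0 := fun u hu v hv => by
    rw [QuadraticMap.polar_comm]; exact horth v hv u hu
  -- `Fx` and `E` are not both of plus type
  have hnb : PlusM d F a₀ b₀ (FxM (x : Matrix (M d) (M d) F)) → PlusM d F a₀ b₀ E → False := by
    rintro ⟨U₁, hU₁, hts₁, hd₁⟩ ⟨U₂, hU₂, hts₂, hd₂⟩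
    apply hNotTop
    refine ⟨U₁ ⊔ U₂, le_top, ?_, ?_⟩
    · intro w hw
      obtain ⟨u₁, hu₁, u₂, hu₂, rfl⟩ := Submodule.mem_sup.1 hw
      have hpol := horth u₁ (hU₁ hu₁) u₂ (hU₂ hu₂)
      rw [QuadraticMap.polar, hts₁ u₁ hu₁, hts₂ u₂ hu₂, sub_zero, sub_zero] at hpol
      exact hpol
    · have hinfU : U₁ ⊓ U₂ = ⊥ := by
        apply le_bot_iff.1
        calc U₁ ⊓ U₂ ≤ FxM (x : Matrix (M d) (M d) F) ⊓ E := inf_le_inf hU₁ hU₂
          _ = ⊥ := hinf
      have h1 := Submodule.finrank_sup_add_finrank_inf_eq U₁ U₂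
      rw [hinfU, finrank_bot, add_zero] at h1
      rw [h1, finrank_top, hcard]
      omega
  have hdvd : orderOf ((Fintype.card F : ℕ) : ZMod r) ∣ Module.finrank F ↥E :=
    hInv F a₀ b₀ hab p d r hrp x hxr E hStabE hEinf
  constructor
  · intro hP
    have hi : Even (orderOf ((Fintype.card F : ℕ) : ZMod r)) := by
      by_contra hi
      rw [Nat.not_even_iff_odd] at hi
      obtain ⟨U, hUE, _, hUts, hUdim⟩ :=
        hHalf F a₀ b₀ hab p d r hr2 hrp hi x hx hxr E hStabE hEND hEinf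
      exact hnb hP ⟨U, hUE, hUts, hUdim⟩
    refine ⟨hi, ?_⟩
    have h2 := hTE F a₀ b₀ hab p d r hr2 hrp hi x hx hxr E hStabE hEND hEinf
    rw [← hfinE, ← Nat.not_even_iff_odd]
    intro he
    exact hnb hP (h2.2 he)
  · rintro ⟨hi, ho⟩
    have h2 := hTE F a₀ b₀ hab p d r hr2 hrp hi x hx hxr E hStabE hEND hEinf
    have hnE : ¬ PlusM d F a₀ b₀ E := by
      intro hE
      have he := h2.1 hE
      rw [hfinE] at he
      exact (Nat.not_even_iff_odd.2 ho) he
    have hEeven : Even (Module.finrank F ↥E) := by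
      obtain ⟨k, hk⟩ := hdvd
      rw [hk]
      exact hi.mul_right k
    have hsup' : E ⊔ FxM (x : Matrix (M d) (M d) F) = ⊤ := by rw [sup_comm]; exact hsup
    rcases hTwo F a₀ b₀ hab d hd E (FxM (x : Matrix (M d) (M d) F)) hEND hND horth' hsup' hEeven
      with h | h
    · exact absurd h hnE
    · exact h

end Cfsg.Agent.Lib.Helper4.TMFXTYPE
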