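import Mathlib
import Cfsg.Prelude.Def_OddOrderLocal

set_option autoImplicit false

/-!
# A pure transport lemma for `Cfsg.IsOfTypeF ↥X`

`X ≤ G` solvable of odd order, `S` the image of `fittingHall ↥X` in `G`, `U ≤ X` a commutative
complement of `S` in `X`, `U₀ ≤ U` of the same exponent acting on `S` without fixed points:
`↥X` is of Frobenius type (with `U₁ := U`).
-/

namespace Cfsg.Agent.Lib.Helper4.TypeFCore

universe u

theorem typeF_core {G : Type u} [Group G] [Finite G] (X S U U₀ : Subgroup G)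
    (hsolv : Group.IsSolvable ↥X) (hodd : Odd (Nat.card ↥X))
    (hFH : (Cfsg.fittingHall ↥X).map X.subtype = S) (hS : S ≠ ⊥)
    (hUX : U ≤ X) (hU : U ≠ ⊥) (hdisj : U ⊓ S = ⊥)
    (hprod : ∀ x ∈ X, ∃ s ∈ S, ∃ u ∈ U, x = s * u)
    (hcomm : ∀ a ∈ U, ∀ b ∈ U, a * b = b * a)
    (hU₀ : U₀ ≤ U) (hexp : Monoid.exponent ↥U₀ = Monoid.exponent ↥U)
    (hreg : ∀ u ∈ U₀, u ≠ 1 → ∀ x ∈ S, u * x = x * u → x = 1) :
    Cfsg.IsOfTypeF ↥X := by
  -- membership transport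
  have hmemS : ∀ x : ↥X, x ∈ Cfsg.fittingHall ↥X → (x : G) ∈ S := by
    intro x hx
    rw [← hFH]
    exact Subgroup.mem_map.mpr ⟨x, hx, rfl⟩
  have hSmem : ∀ s ∈ S, ∃ h : ↥X, h ∈ Cfsg.fittingHall ↥X ∧ (h : G) = s := by
    intro s hs
    rw [← hFH] at hs
    obtain ⟨h, hh, rfl⟩ := Subgroup.mem_map.mp hs
    exact ⟨h, hh, rfl⟩
  obtain ⟨u₁, hu₁U, hu₁ne⟩ : ∃ u ∈ U, u ≠ 1 := by
    by_contra hcon
    push Not at hcon
    exact hU ((Subgroup.eq_bot_iff_forall U).mpr hcon)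
  have hinter : ∀ g : G, g ∈ U → g ∈ S → g = 1 := by
    intro g hgU hgS
    have : g ∈ U ⊓ S := Subgroup.mem_inf.mpr ⟨hgU, hgS⟩
    rw [hdisj] at this
    exact Subgroup.mem_bot.mp this
  refine ⟨hsolv, hodd, ?_, ?_, U.subgroupOf X, ?_, ?_, ?_, ?_⟩
  · intro hbot
    apply hS
    rw [← hFH, hbot, Subgroup.map_bot]
  · intro htop
    apply hu₁ne
    have h1 : (⟨u₁, hUX hu₁U⟩ : ↥X) ∈ Cfsg.fittingHall ↥X := by rw [htop]; exact Subgroup.mem_top _
    exact hinter u₁ hu₁U (hmemS _ h1)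
  · intro hbot
    apply hu₁ne
    have h1 : (⟨u₁, hUX hu₁U⟩ : ↥X) ∈ U.subgroupOf X := Subgroup.mem_subgroupOf.mpr hu₁U
    rw [hbot] at h1
    exact congrArg Subtype.val (Subgroup.mem_bot.mp h1)
  · apply Subgroup.isComplement'_of_disjoint_and_mul_eq_univ
    · rw [Subgroup.disjoint_def]
      intro x hx1 hx2
      apply Subtype.ext
      exact hinter (x : G) (Subgroup.mem_subgroupOf.mp hx2) (hmemS x hx1)
    · apply Set.eq_univ_of_forall
      intro x
      obtain ⟨s, hs, u, hu, hxe⟩ := hprod (x : G) x.2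
      obtain ⟨h, hh, rfl⟩ := hSmem s hs
      refine Set.mem_mul.mpr ⟨h, hh, ⟨u, hUX hu⟩, Subgroup.mem_subgroupOf.mpr hu, ?_⟩
      apply Subtype.ext
      exact hxe.symm
  · refine ⟨U.subgroupOf X, le_refl _, Subgroup.le_normalizer, ?_, ?_⟩
    · refine ⟨⟨fun a b => ?_⟩⟩
      apply Subtype.ext
      apply Subtype.ext
      exact hcomm _ (Subgroup.mem_subgroupOf.mp a.2) _ (Subgroup.mem_subgroupOf.mp b.2)
    · intro x _ _
      exact inf_le_left
  · refine ⟨U₀.subgroupOf X, ?_, ?_, ?_⟩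
    · intro x hx
      exact Subgroup.mem_subgroupOf.mpr (hU₀ (Subgroup.mem_subgroupOf.mp hx))
    · rw [Monoid.exponent_eq_of_mulEquiv (Subgroup.subgroupOfEquivOfLe (le_trans hU₀ hUX)),
        Monoid.exponent_eq_of_mulEquiv (Subgroup.subgroupOfEquivOfLe hUX), hexp]
    · intro u hu hune x hx hux
      apply Subtype.ext
      refine hreg (u : G) (Subgroup.mem_subgroupOf.mp hu) ?_ (x : G) (hmemS x hx) ?_
      · intro h1
        exact hune (Subtype.ext h1)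
      · exact congrArg Subtype.val hux

end Cfsg.Agent.Lib.Helper4.TypeFCore
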