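import Mathlib
import Cfsg.Agent.Lib.Helper4.UniStmt
import Cfsg.Agent.Lib.Helper4.SchA

/-!
Piece ZB of S4395: the centre of a non-abelian `T` with a field model of order `p^a` has at most
`p^(a/2)` elements.
-/

set_option autoImplicit false
universe u

namespace Cfsg.Agent.Lib.Helper4.UniZB

open Cfsg.Agent.Lib.Helper4.UniStmt
open scoped IsMulCommutative

variable {T : Type u} [Group T]

theorem kap_mul (u : T) (hc : ∀ s : T, s * u * s⁻¹ * u⁻¹ ∈ Subgroup.center T) (s t : T) :
    (s * t) * u * (s * t)⁻¹ * u⁻¹ = (s * u * s⁻¹ * u⁻¹) * (t * u * t⁻¹ * u⁻¹) := by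
  have h1 := Subgroup.mem_center_iff.mp (hc t)
  calc (s * t) * u * (s * t)⁻¹ * u⁻¹ = s * (t * u * t⁻¹ * u⁻¹) * (u * s⁻¹ * u⁻¹) := by group
    _ = (t * u * t⁻¹ * u⁻¹) * (s * (u * s⁻¹ * u⁻¹)) := by rw [h1 s, mul_assoc]
    _ = (s * (u * s⁻¹ * u⁻¹)) * (t * u * t⁻¹ * u⁻¹) := (h1 _).symm
    _ = (s * u * s⁻¹ * u⁻¹) * (t * u * t⁻¹ * u⁻¹) := by group

/-- The commutator-with-`u` homomorphism into the centre. -/
def KH (u : T) (hc : ∀ s : T, s * u * s⁻¹ * u⁻¹ ∈ Subgroup.center T) : T →* Subgroup.center T where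
  toFun s := ⟨s * u * s⁻¹ * u⁻¹, hc s⟩
  map_one' := by ext; simp
  map_mul' s t := by ext; exact kap_mul u hc s t

theorem e_zpow {F : Type} [Field F] (σ : MulAut T) (e : T → F) (lam : F)
    (hlam : ∀ t : T, e (σ t) = lam * e t) (hl0 : lam ≠ 0) :
    ∀ (j : ℤ) (t : T), e ((σ ^ j) t) = lam ^ j * e t := by
  intro j
  induction j using Int.induction_on with
  | zero => intro t; simp
  | succ i ih =>
    intro t
    rw [zpow_add_one, MulAut.mul_apply, ih, hlam, zpow_add_one₀ hl0]; ring
  | pred i ih =>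
    intro t
    have h1 : e (σ⁻¹ t) = lam⁻¹ * e t := by
      have h2 := hlam (σ⁻¹ t)
      rw [MulAut.apply_inv_self] at h2
      rw [h2]; field_simp
    rw [zpow_sub_one, MulAut.mul_apply, ih, h1, zpow_sub_one₀ hl0]; ring

theorem fixed_zpow (σ : MulAut T) {z : T} (hz : σ z = z) : ∀ j : ℤ, (σ ^ j) z = z := by
  intro j
  induction j using Int.induction_on with
  | zero => simp
  | succ i ih => rw [zpow_add_one, MulAut.mul_apply, hz, ih]
  | pred i ih =>
    have h1 : σ⁻¹ z = z := by
      have h2 := MulAut.inv_apply_self T σ z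
      rw [hz] at h2; exact h2
    rw [zpow_sub_one, MulAut.mul_apply, h1, ih]

theorem e_one' {F : Type} [Field F] (e : T → F) (hadd : ∀ s t : T, e (s * t) = e s + e t) :
    e 1 = 0 := by
  have h1 := hadd 1 1
  rw [mul_one] at h1
  exact left_eq_add.mp h1

theorem e_inv' {F : Type} [Field F] (e : T → F) (hadd : ∀ s t : T, e (s * t) = e s + e t)
    (t : T) : e t⁻¹ = - e t := by
  have h1 := hadd t t⁻¹
  rw [mul_inv_cancel, e_one' e hadd] at h1
  exact eq_neg_of_add_eq_zero_right h1.symm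

theorem e_npow {F : Type} [Field F] (e : T → F) (hadd : ∀ s t : T, e (s * t) = e s + e t)
    (t : T) (n : ℕ) : e (t ^ n) = n • e t := by
  induction n with
  | zero => simp [e_one' e hadd]
  | succ n ih => rw [pow_succ, hadd, ih, succ_nsmul]

theorem card_le_of_closure {p : ℕ} [Fact p.Prime] (A : Type u) [AddCommGroup A] [Finite A]
    (hA : ∀ x : A, p • x = 0) (k : ℕ) (b : Fin k → A)
    (h : ∀ x : A, x ∈ AddSubgroup.closure (Set.range b)) : Nat.card A ≤ p ^ k := by
  letI : Module (ZMod p) A := AddCommGroup.zmodModule (n := p) hA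
  have hp : p.Prime := Fact.out
  have hle : AddSubgroup.closure (Set.range b) ≤ (Submodule.span (ZMod p) (Set.range b)).toAddSubgroup :=
    (AddSubgroup.closure_le _).mpr Submodule.subset_span
  have hStop : Submodule.span (ZMod p) (Set.range b) = ⊤ := by
    rw [eq_top_iff]
    intro x _
    exact hle (h x)
  have hfr : Module.finrank (ZMod p) A ≤ k := by
    have h1 := finrank_range_le_card (R := ZMod p) b
    rw [Fintype.card_fin] at h1
    have h2 : Module.finrank (ZMod p) (Submodule.span (ZMod p) (Set.range b)) =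
        Module.finrank (ZMod p) A := by
      rw [hStop]; exact finrank_top (ZMod p) A
    rw [← h2]
    exact h1
  have hcardA : Nat.card A = p ^ Module.finrank (ZMod p) A := by
    rw [Module.natCard_eq_pow_finrank (K := ZMod p), Nat.card_zmod]
  rw [hcardA]
  exact Nat.pow_le_pow_right hp.pos hfr

theorem main : ZB.{u} := by
  intro hWIN p q _ _ hpq T _ _ σ hH hnab F _ _ _ e lam a hm hF
  classical
  have hp : p.Prime := Fact.out
  have hq : q.Prime := Fact.out
  obtain ⟨hcomm, -, hZp, honto, hfix⟩ :=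
    Cfsg.Agent.Lib.Helper4.SchA.sep_basic p hH.1 σ q hq hpq.symm hH.2.1 hH.2.2.1 hH.2.2.2 hnab
  obtain ⟨hadd, hsurj, hker, hfixc, -, hlam, hl1, hlq, hirr⟩ := hm
  have hl0 : lam ≠ 0 := by
    rintro rfl
    rw [zero_pow hq.ne_zero] at hlq
    exact zero_ne_one hlq
  obtain ⟨u, hu⟩ : ∃ u : T, u ∉ Subgroup.center T := by
    by_contra hcon
    push Not at hcon
    exact hnab (fun x y => (Subgroup.mem_center_iff.mp (hcon y) x))
  have hc0 : e u ≠ 0 := fun h => hu ((hfix u).mp ((hker u).mp h))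
  have hcu : ∀ s : T, s * u * s⁻¹ * u⁻¹ ∈ Subgroup.center T := fun s => hcomm s u
  -- the additive version of the centre, as a `ZMod p`-vector space
  have hAp : ∀ x : Additive ↥(Subgroup.center T), p • x = 0 := by
    intro x
    have h1 : (Additive.toMul x) ^ p = 1 := by
      ext
      rw [Subgroup.coe_pow]
      exact hZp _ (Additive.toMul x).2
    show Additive.ofMul ((Additive.toMul x) ^ p) = 0
    rw [h1]; rfl
  let β : T → Additive ↥(Subgroup.center T) := fun s => Additive.ofMul (KH u hcu s)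
  have hβmul : ∀ s t : T, β (s * t) = β s + β t := by
    intro s t
    show Additive.ofMul (KH u hcu (s * t)) = Additive.ofMul (KH u hcu s) + Additive.ofMul (KH u hcu t)
    rw [map_mul]; rfl
  have hβpow : ∀ (s : T) (n : ℕ), β (s ^ n) = n • β s := by
    intro s n
    show Additive.ofMul (KH u hcu (s ^ n)) = n • Additive.ofMul (KH u hcu s)
    rw [map_pow]; rfl
  have hβval : ∀ s : T, ((Additive.toMul (β s) : Subgroup.center T) : T) = s * u * s⁻¹ * u⁻¹ :=
    fun s => rfl
  have hβeq : ∀ s t : T, s * u * s⁻¹ * u⁻¹ = t * u * t⁻¹ * u⁻¹ → β s = β t := by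
    intro s t h
    show Additive.ofMul (KH u hcu s) = Additive.ofMul (KH u hcu t)
    congr 1
    ext
    exact h
  have hβZ : ∀ z : T, z ∈ Subgroup.center T → β z = 0 := by
    intro z hz
    have h1 : β z = β 1 := by
      apply hβeq
      have h2 := Subgroup.mem_center_iff.mp hz u
      calc z * u * z⁻¹ * u⁻¹ = (u * z) * z⁻¹ * u⁻¹ := by rw [h2]
        _ = 1 * u * 1⁻¹ * u⁻¹ := by group
    rw [h1]
    show Additive.ofMul (KH u hcu 1) = 0
    rw [map_one]; rfl
  let zz : ℤ → Additive ↥(Subgroup.center T) := fun j => β ((σ ^ j) u)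
  let S : AddSubgroup (Additive ↥(Subgroup.center T)) :=
    AddSubgroup.closure (Set.range (fun k : Fin (a / 2) => zz (((k : ℕ) : ℤ) + 1)))
  have hzz0 : zz 0 = 0 := by
    show β ((σ ^ (0 : ℤ)) u) = 0
    have h1 : β u = β 1 := by apply hβeq; group
    rw [zpow_zero, MulAut.one_apply, h1]
    show Additive.ofMul (KH u hcu 1) = 0
    rw [map_one]; rfl
  have hzzneg : ∀ j : ℤ, zz (-j) = - zz j := by
    intro j
    have hfixc' : ∀ z : T, z ∈ Subgroup.center T → (σ ^ (-j)) z = z :=
      fun z hz => fixed_zpow σ ((hfix z).mpr hz) (-j)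
    have h1 : (σ ^ (-j)) ((σ ^ j) u) = u := by
      rw [← MulAut.mul_apply, ← zpow_add, neg_add_cancel, zpow_zero, MulAut.one_apply]
    set v := (σ ^ j) u with hv
    set τ := σ ^ (-j) with hτ
    -- β (τ u) = - β v
    have h2 : τ u * u * (τ u)⁻¹ * u⁻¹ = (v * u * v⁻¹ * u⁻¹)⁻¹ := by
      have h3 : τ u * u * (τ u)⁻¹ * u⁻¹ = τ (u * v * u⁻¹ * v⁻¹) := by
        rw [map_mul, map_mul, map_mul, map_inv, map_inv, h1]
      have h4 : u * v * u⁻¹ * v⁻¹ = (v * u * v⁻¹ * u⁻¹)⁻¹ := by group
      rw [h3, h4]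
      exact hfixc' _ (Subgroup.inv_mem _ (hcu v))
    have h5 : β (τ u) + β v = 0 := by
      have h6 : Additive.toMul (β (τ u) + β v) = 1 := by
        ext
        show (τ u * u * (τ u)⁻¹ * u⁻¹) * (v * u * v⁻¹ * u⁻¹) = 1
        rw [h2, inv_mul_cancel]
      exact h6
    exact eq_neg_of_add_eq_zero_left h5
  have hzzS : ∀ j : ℤ, -((a / 2 : ℕ) : ℤ) ≤ j → j ≤ ((a / 2 : ℕ) : ℤ) → zz j ∈ S := by
    have hpos : ∀ j : ℤ, 0 < j → j ≤ ((a / 2 : ℕ) : ℤ) → zz j ∈ S := by
      intro j h1 h2
      have h3 : (j - 1).toNat < a / 2 := by omega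
      have h4 : (((⟨(j - 1).toNat, h3⟩ : Fin (a / 2)) : ℕ) : ℤ) + 1 = j := by
        show (((j - 1).toNat : ℕ) : ℤ) + 1 = j
        omega
      rw [← h4]
      exact AddSubgroup.subset_closure ⟨⟨(j - 1).toNat, h3⟩, rfl⟩
    intro j h1 h2
    rcases lt_trichotomy j 0 with h | h | h
    · have h3 := hpos (-j) (by omega) (by omega)
      have h4 := hzzneg (-j)
      rw [neg_neg] at h4
      rw [h4]
      exact S.neg_mem h3
    · rw [h, hzz0]; exact S.zero_mem
    · exact hpos j h h2
  set m : ℕ := (a - 1) / 2 with hm_def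
  have hc' : lam ^ (-(m : ℤ)) * e u ≠ 0 := mul_ne_zero (zpow_ne_zero _ hl0) hc0
  have hβS : ∀ s : T, β s ∈ S := by
    intro s
    obtain ⟨n, hn⟩ := hWIN p F lam a hl0 hF hirr (e s / (lam ^ (-(m : ℤ)) * e u))
    let tj : ℕ → T := fun j => Nat.rec 1 (fun i acc => acc * ((σ ^ ((i : ℤ) - m)) u) ^ (n i)) j
    have htj : ∀ j, tj (j + 1) = tj j * ((σ ^ ((j : ℤ) - m)) u) ^ (n j) := fun j => rfl
    have h1 : ∀ j, e (tj j) = (∑ i ∈ Finset.range j, n i • lam ^ i) * (lam ^ (-(m : ℤ)) * e u) := by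
      intro j
      induction j with
      | zero => simp [tj, e_one' e hadd]
      | succ j ih =>
        rw [htj, hadd, ih, e_npow e hadd, e_zpow σ e lam hlam hl0, Finset.sum_range_succ,
          sub_eq_add_neg, zpow_add₀ hl0, zpow_natCast]
        simp only [nsmul_eq_mul]
        ring
    have h2 : ∀ j, j ≤ a → β (tj j) ∈ S := by
      intro j
      induction j with
      | zero =>
        intro _
        have : β (tj 0) = 0 := by
          show Additive.ofMul (KH u hcu 1) = 0
          rw [map_one]; rfl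
        rw [this]; exact S.zero_mem
      | succ j ih =>
        intro hj
        rw [htj, hβmul, hβpow]
        refine S.add_mem (ih (by omega)) (S.nsmul_mem ?_ _)
        exact hzzS _ (by omega) (by omega)
    have h3 : e (tj a) = e s := by
      rw [h1 a, ← hn]
      field_simp
    have h4 : e (s * (tj a)⁻¹) = 0 := by
      rw [hadd, e_inv' e hadd, h3, add_neg_cancel]
    have h5 : s * (tj a)⁻¹ ∈ Subgroup.center T := hfixc _ ((hker _).mp h4)
    have h6 : β s = β (s * (tj a)⁻¹) + β (tj a) := by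
      rw [← hβmul, inv_mul_cancel_right]
    rw [h6, hβZ _ h5, zero_add]
    exact h2 a le_rfl
  have hall : ∀ x : Additive ↥(Subgroup.center T), x ∈ S := by
    intro x
    obtain ⟨s, hs⟩ := honto u hu (Additive.toMul x : Subgroup.center T) (Additive.toMul x).2
    have h1 : β s = x := by
      show Additive.ofMul (KH u hcu s) = x
      have : KH u hcu s = Additive.toMul x := by ext; exact hs
      rw [this]; rfl
    rw [← h1]
    exact hβS s
  have hcard : Nat.card (Subgroup.center T) = Nat.card (Additive ↥(Subgroup.center T)) :=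
    Nat.card_congr Additive.ofMul
  rw [hcard]
  exact card_le_of_closure (Additive ↥(Subgroup.center T)) hAp (a / 2) _ hall

end Cfsg.Agent.Lib.Helper4.UniZB
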